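import Cfsg.Agent.Lib.Recognition.ExtraspecialThirtyTwo.Planes

/-!
# Normal subgroups: either the group is simple or it has a normal subgroup of order eight
-/

set_option autoImplicit false
set_option maxRecDepth 40000
set_option linter.unusedSectionVars false
set_option linter.style.haveILetI false

namespace CfsgLib.Recognition.ExtraspecialThirtyTwo

open Subgroup

namespace Code

/-- The commutator `a k a⁻¹ k⁻¹`. -/
def cmt (τ κ : Bool) (a k : ℕ) : ℕ := mulC τ κ (conjC τ κ a k) (invC τ κ k)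

/-- Representatives modulo `s` of the conjugates of a code in `Q`. -/
def orbH (τ κ : Bool) (k : ℕ) : List ℕ := (List.range 6).map fun h => conjC τ κ (32 * h) k

/-- Two noncommuting conjugates centralising `r`. -/
def bad (τ κ : Bool) (r w : ℕ) : Bool :=
  (orbH τ κ r ++ orbH τ κ w).any fun p => (orbH τ κ r ++ orbH τ κ w).any fun q =>
    commC τ κ p r && commC τ κ q r && !commC τ κ p q

/-- A plane through `r` forcing the conclusion, or noncommuting conjugates. -/
def qCase (τ κ : Bool) (r : ℕ) : Bool :=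
  !invoC τ κ r || Nat.beq r 1 || bad τ κ r r ||
    planes.any fun P => (P.any fun p => Nat.beq p r) &&
      ((List.range 32).all fun w => (P.any fun p => Nat.beq p w) || bad τ κ r w) && okPlane τ κ P

theorem q_case : ∀ τ κ : Bool, ((List.range 32).all fun r => qCase τ κ r) = true := by decide +kernel

theorem to_x : ∀ τ κ : Bool, ((List.range 192).all fun k => Nat.blt k 32 ||
    (Nat.ble 32 (mulC τ κ k k) && Nat.blt (mulC τ κ k k) 64) || (Nat.ble 32 k && Nat.blt k 64) ||
    (List.range 192).any fun a => Nat.ble 32 (cmt τ κ a k) && Nat.blt (cmt τ κ a k) 64) = true := by decide +kernel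

theorem to_gens : ∀ τ κ : Bool, ∀ t ∈ [2, 4, 8, 16], ((List.range 32).all fun i => (List.range 32).any fun q =>
    Nat.beq (cmt τ κ q (32 + i)) t || Nat.beq (cmt τ κ q (32 + i)) (t + 1)) = true := by decide +kernel

theorem q_centre : ∀ τ κ : Bool, ((List.range 32).all fun k => Nat.blt k 2 ||
    (List.range 32).any fun a => Nat.beq (cmt τ κ a k) 1) = true := by decide +kernel

theorem into_q : ∀ τ κ : Bool, ((List.range 192).all fun k => Nat.blt k 32 ||
    (List.range 192).any fun a => Nat.ble 1 (cmt τ κ a k) && Nat.blt (cmt τ κ a k) 32) = true := by decide +kernel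

theorem r_conj : ∀ τ κ : Bool, ((List.range 32).all fun r => !invoC τ κ r || Nat.beq r 1 ||
    (List.range 32).any fun a => Nat.beq (conjC τ κ a r) (mulC τ κ r 1)) = true := by decide +kernel

theorem q_comm : ∀ τ κ : Bool, ((List.range 32).all fun p => (List.range 32).all fun q =>
    commC τ κ p q || Nat.beq (mulC τ κ p q) (mulC τ κ (mulC τ κ q p) 1)) = true := by decide +kernel

theorem four_in_q : ∀ τ κ : Bool, ∀ k < 96,
    mulC τ κ (mulC τ κ k k) (mulC τ κ k k) = 0 → k < 32 := by decide +kernel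

theorem q_four : ∀ τ κ : Bool, ∀ k < 32, mulC τ κ (mulC τ κ k k) (mulC τ κ k k) = 0 := by decide +kernel

theorem plane_orbit : ∀ τ κ : Bool, ∀ P ∈ planes, !okPlane τ κ P || (P.all fun p => Nat.blt p 2 ||
    P.all fun q => Nat.blt q 2 || (List.range 192).any fun a => Nat.beq (conjC τ κ a p) q) = true := by decide +kernel

theorem t_succ : ∀ τ κ : Bool, ∀ t ∈ [2, 4, 8, 16], t + 1 = mulC τ κ t 1 := by decide +kernel

theorem split_odd : ∀ τ κ : Bool, ∀ k < 192, 96 ≤ k → mulC τ κ (k - 96) 96 = k := by decide +kernel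

theorem conj_lt32 : ∀ τ κ : Bool, ∀ a < 192, ((List.range 32).all fun k => Nat.blt (conjC τ κ a k) 32) = true := by
  decide +kernel

end Code

namespace Setting

variable {G : Type*} [Group G] [Finite G] {τ κ : Bool} (S : Setting G τ κ)

theorem exists_r : ∃ r < 32, r ≠ 1 ∧ Code.invoC τ κ r = true ∧ IsConj S.s (S.el r) := by
  obtain ⟨u, hu, ⟨q, hq, rfl⟩, hne⟩ := S.fused
  refine ⟨q, hq, fun h => hne ?_, (S.orderOf_el_iff (by omega)).1 ?_, hu⟩
  · subst h
    exact S.el_one
  · obtain ⟨g, hg⟩ := isConj_iff.1 hu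
    show orderOf (S.g.val q) = 2
    rw [← hg]
    exact (MulEquiv.orderOf_eq (MulAut.conj g) _).trans S.orderOf_s

include S in
theorem cent_not_comm : ¬ IsMulCommutative G := fun h => by
  have := (S.commute_el_iff (k := 2) (l := 16) (by norm_num) (by norm_num)).1 (h.is_comm.comm _ _)
  revert this
  cases τ <;> cases κ <;> decide +kernel

/-- A normal subgroup avoiding the centraliser of the involution is trivial. -/
theorem eq_bot_of_inf (M : Subgroup G) [hM : M.Normal] (h : M ⊓ centralizer ({S.s} : Set G) = ⊥) : M = ⊥ := by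
  have inv_of : ∀ z : G, IsConj S.s z → ∀ m ∈ M, z * m * z⁻¹ = m⁻¹ := by
    intro z hz m hm
    obtain ⟨g, hg⟩ := isConj_iff.1 hz
    have hzdef := hg.symm
    have hzz : z * z = 1 := by
      calc z * z = g * (S.s * S.s) * g⁻¹ := by rw [hzdef]; group
        _ = 1 := by rw [S.ss]; group
    have hfix : ∀ v ∈ M, z * v * z⁻¹ = v → v = 1 := by
      intro v hv e
      have h1 : g⁻¹ * v * g ∈ M := by simpa using hM.conj_mem v hv g⁻¹
      have h2 : g⁻¹ * v * g ∈ centralizer ({S.s} : Set G) := mem_centralizer_singleton_iff.2 (by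
        calc g⁻¹ * v * g * S.s = g⁻¹ * (v * z) * g := by rw [hzdef]; group
          _ = g⁻¹ * (z * v) * g := by rw [← mul_inv_eq_iff_eq_mul.1 e]
          _ = S.s * (g⁻¹ * v * g) := by rw [hzdef]; group)
      have h3 : g⁻¹ * v * g ∈ M ⊓ centralizer ({S.s} : Set G) := ⟨h1, h2⟩
      rw [h, Subgroup.mem_bot] at h3
      calc v = g * (g⁻¹ * v * g) * g⁻¹ := by group
        _ = 1 := by rw [h3]; group
    let φ : M → M := fun v => ⟨(v : G)⁻¹ * (z * v * z⁻¹), M.mul_mem (M.inv_mem v.2) (hM.conj_mem _ v.2 z)⟩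
    have hinj : Function.Injective φ := by
      intro v w e
      have e' : (v : G)⁻¹ * (z * v * z⁻¹) = (w : G)⁻¹ * (z * w * z⁻¹) := congrArg Subtype.val e
      have h4 := hfix ((w : G) * (v : G)⁻¹) (M.mul_mem w.2 (M.inv_mem v.2)) (by
        calc z * ((w : G) * (v : G)⁻¹) * z⁻¹
            = (w : G) * ((w : G)⁻¹ * (z * w * z⁻¹)) * ((v : G)⁻¹ * (z * v * z⁻¹))⁻¹ * (v : G)⁻¹ := by group
          _ = (w : G) * (v : G)⁻¹ := by rw [← e']; group)
      exact Subtype.ext (mul_inv_eq_one.1 h4).symm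
    obtain ⟨v, hv⟩ := (Finite.injective_iff_surjective.1 hinj) ⟨m, hm⟩
    have hv' : (v : G)⁻¹ * (z * v * z⁻¹) = m := congrArg Subtype.val hv
    rw [← hv', mul_inv_rev, inv_inv]
    calc z * ((v : G)⁻¹ * (z * v * z⁻¹)) * z⁻¹ = z * (v : G)⁻¹ * z * v * (z * z)⁻¹ := by group
      _ = z * (v : G)⁻¹ * z * v := by rw [hzz, inv_one, mul_one]
      _ = z * (v : G)⁻¹ * z⁻¹ * v := by rw [inv_eq_of_mul_eq_one_right hzz]
      _ = _ := by group
  obtain ⟨r, hr, hr1, hri, hrc⟩ := S.exists_r
  have hrs : IsConj S.s (S.el (Code.mulC τ κ r 1)) := by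
    have hc := List.all_eq_true.1 (Code.r_conj τ κ) r (List.mem_range.2 hr)
    simp only [hri, Bool.not_true, Bool.false_or, Bool.or_eq_true, Nat.beq_eq, hr1, false_or,
      List.any_eq_true, List.mem_range] at hc
    obtain ⟨a, ha, e⟩ := hc
    refine hrc.trans (isConj_iff.2 ⟨S.el a, ?_⟩)
    rw [← S.el_conjC (by omega) (by omega), e]
  refine eq_bot_iff.2 fun m hm => Subgroup.mem_bot.2 ?_
  have e1 := inv_of _ hrs m hm
  rw [S.el_mul (by omega) (by norm_num), S.el_one] at e1
  have e2 : m⁻¹ = m := by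
    calc m⁻¹ = S.el r * S.s * m * (S.el r * S.s)⁻¹ := e1.symm
      _ = S.el r * (S.s * m * S.s⁻¹) * (S.el r)⁻¹ := by group
      _ = S.el r * m⁻¹ * (S.el r)⁻¹ := by rw [inv_of S.s (IsConj.refl _) m hm]
      _ = (S.el r * m * (S.el r)⁻¹)⁻¹ := by group
      _ = m := by rw [inv_of _ hrc m hm, inv_inv]
  have h1 : m ∈ M ⊓ centralizer ({S.s} : Set G) := ⟨hm, mem_centralizer_singleton_iff.2 (by
    have := inv_of S.s (IsConj.refl _) m hm
    rw [e2] at this
    exact (mul_inv_eq_iff_eq_mul.1 this).symm)⟩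
  rwa [h, Subgroup.mem_bot] at h1

variable {M : Subgroup G} [hM : M.Normal]

include hM in
theorem cmt_mem {a k : ℕ} (ha : a < 192) (hk : k < 192) (h : S.el k ∈ M) : S.el (Code.cmt τ κ a k) ∈ M := by
  rw [Code.cmt, S.el_mul (Code.conjC_lt τ κ ha hk) (Code.invC_check τ κ k hk).1, S.el_conjC ha hk, S.el_invC hk]
  exact M.mul_mem (hM.conj_mem _ h _) (M.inv_mem h)

include hM in
theorem s_mem (hne : M ≠ ⊥) : S.s ∈ M := by
  have h : M ⊓ centralizer ({S.s} : Set G) ≠ ⊥ := fun e => hne (S.eq_bot_of_inf M e)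
  obtain ⟨u, hu, hu1⟩ := SetLike.exists_of_lt (bot_lt_iff_ne_bot.2 h)
  obtain ⟨k, hk, rfl⟩ := S.exists_el (mem_centralizer_singleton_iff.1 hu.2)
  have hk0 : k ≠ 0 := fun e => hu1 (by rw [e, S.el_zero]; exact one_mem _)
  obtain ⟨l, hl, hl0, hlM⟩ : ∃ l < 32, l ≠ 0 ∧ S.el l ∈ M := by
    by_cases h32 : k < 32
    · exact ⟨k, h32, hk0, hu.1⟩
    have hc := List.all_eq_true.1 (Code.into_q τ κ) k (List.mem_range.2 hk)
    rw [show Nat.blt k 32 = false from Bool.eq_false_iff.2 fun h => h32 (Nat.le_of_ble_eq_true h), Bool.false_or, List.any_eq_true] at hc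
    obtain ⟨a, ha, e⟩ := hc
    simp only [Bool.and_eq_true, Nat.ble_eq, Nat.blt_eq] at e
    exact ⟨_, e.2, by omega, S.cmt_mem (List.mem_range.1 ha) hk hu.1⟩
  by_cases hl1 : l = 1
  · rwa [hl1, S.el_one] at hlM
  have hc := List.all_eq_true.1 (Code.q_centre τ κ) l (List.mem_range.2 hl)
  rw [show Nat.blt l 2 = false from Bool.eq_false_iff.2 fun h => by have := Nat.le_of_ble_eq_true h; omega, Bool.false_or, List.any_eq_true] at hc
  obtain ⟨a, ha, e⟩ := hc
  have := S.cmt_mem (a := a) (by have := List.mem_range.1 ha; omega) (by omega) hlM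
  rwa [Nat.eq_of_beq_eq_true e, S.el_one] at this

include hM in
theorem r_mem (hne : M ≠ ⊥) {z : G} (hz : IsConj S.s z) : z ∈ M := by
  obtain ⟨g, rfl⟩ := isConj_iff.1 hz
  exact hM.conj_mem _ (S.s_mem hne) g

include hM in
theorem gens_mem {k : ℕ} (hk : k < 192) (h32 : 32 ≤ k) (h : S.el k ∈ M) (hs : S.s ∈ M) :
    ∀ l < 96, S.el l ∈ M := by
  obtain ⟨j, hj, hjM⟩ : ∃ j < 32, S.el (32 + j) ∈ M := by
    have hc := List.all_eq_true.1 (Code.to_x τ κ) k (List.mem_range.2 hk)
    simp only [Bool.or_eq_true, Bool.and_eq_true, Nat.ble_eq, Nat.blt_eq, List.any_eq_true] at hc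
    rcases hc with ((h' | ⟨h1, h2⟩) | ⟨h1, h2⟩) | ⟨a, ha, h1, h2⟩
    · omega
    · exact ⟨Code.mulC τ κ k k - 32, by omega, by
        rw [Nat.add_sub_cancel' h1, S.el_mul hk hk]; exact M.mul_mem h h⟩
    · exact ⟨k - 32, by omega, by rwa [Nat.add_sub_cancel' h1]⟩
    · exact ⟨Code.cmt τ κ a k - 32, by omega, by
        rw [Nat.add_sub_cancel' h1]; exact S.cmt_mem (List.mem_range.1 ha) hk h⟩
  have hgen : ∀ t ∈ [2, 4, 8, 16], S.el t ∈ M := by
    intro t ht
    have hc := List.all_eq_true.1 (Code.to_gens τ κ t ht) j (List.mem_range.2 hj)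
    obtain ⟨q, hq, e⟩ := List.any_eq_true.1 hc
    have hm := S.cmt_mem (a := q) (by have := List.mem_range.1 hq; omega) (by omega) hjM
    simp only [Bool.or_eq_true, Nat.beq_eq] at e
    rcases e with e | e
    · rwa [e] at hm
    · rw [e] at hm
      have he : S.el (t + 1) = S.el t * S.s := by
        rw [← S.el_one, ← S.el_mul (by simp at ht; omega) (by norm_num)]
        rw [← Code.t_succ τ κ t ht]
      rw [he] at hm
      simpa using M.mul_mem hm (M.inv_mem hs)
  obtain ⟨v0, v1, v2, v4, v8, v16, v32, -⟩ := S.rel.val_gens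
  have hp : ∀ (b : Bool), ∀ v ∈ M, pw b v ∈ M := fun b v hv => by
    cases b
    · exact one_mem _
    · exact hv
  have hq : ∀ q : ℕ, S.g.qval q ∈ M := fun q => by
    refine mul_mem (hp _ _ hs) (mul_mem (mul_mem (hp _ _ ?_) (hp _ _ ?_)) (mul_mem (hp _ _ ?_) (hp _ _ ?_)))
    · rw [← v2]; exact hgen 2 (by simp)
    · rw [← v4]; exact hgen 4 (by simp)
    · rw [← v8]; exact hgen 8 (by simp)
    · rw [← v16]; exact hgen 16 (by simp)
  have hx : S.g.x ∈ M := by
    have e : S.el (32 + j) = S.g.qval j * S.g.x := by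
      show S.g.val (32 + j) = _
      rw [Tuple.val, show (32 + j) % 32 = j by omega, show (32 + j) / 32 = 1 by omega]
      simp
    rw [e] at hjM
    simpa using M.mul_mem (M.inv_mem (hq j)) hjM
  intro l hl
  show S.g.val l ∈ M
  rw [Tuple.val, show l / 32 / 3 = 0 by omega, pow_zero, mul_one]
  exact mul_mem (hq _) (pow_mem hx _)

include hM in
theorem not_bad {r w : ℕ} (hr : r < 32) (hw : w < 32) (hrc : IsConj S.s (S.el r)) (hr1 : r ≠ 1) (hrM : S.el r ∈ M)
    (hwM : S.el w ∈ M) (hodd : ∀ k < 192, S.el k ∈ M → k < 96) : Code.bad τ κ r w = false := by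
  by_contra hb
  rw [Bool.not_eq_false, Code.bad, List.any_eq_true] at hb
  obtain ⟨p, hp, hb⟩ := hb
  obtain ⟨q, hq, hb⟩ := List.any_eq_true.1 hb
  simp only [Bool.and_eq_true, Bool.not_eq_true'] at hb
  have horb : ∀ v ∈ Code.orbH τ κ r ++ Code.orbH τ κ w, v < 32 ∧ S.el v ∈ M := by
    intro v hv
    rw [List.mem_append] at hv
    rcases hv with hv | hv <;> obtain ⟨h, hh, rfl⟩ := List.mem_map.1 hv <;> rw [List.mem_range] at hh
    · refine ⟨Nat.le_of_ble_eq_true (List.all_eq_true.1 (Code.conj_lt32 τ κ _ (by omega)) r (List.mem_range.2 hr)), ?_⟩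
      rw [S.el_conjC (by omega) (by omega)]
      exact hM.conj_mem _ hrM _
    · refine ⟨Nat.le_of_ble_eq_true (List.all_eq_true.1 (Code.conj_lt32 τ κ _ (by omega)) w (List.mem_range.2 hw)), ?_⟩
      rw [S.el_conjC (by omega) (by omega)]
      exact hM.conj_mem _ hwM _
  obtain ⟨g, hg⟩ := isConj_iff.1 hrc
  have hpre : ∀ v < 32, S.el v ∈ M → Code.commC τ κ v r = true →
      ∃ v' < 32, S.el v = g * S.el v' * g⁻¹ := by
    intro v hv hvM hvr
    have hc := (S.commute_el_iff (k := v) (l := r) (by omega) (by omega)).2 hvr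
    rw [← hg] at hc
    obtain ⟨k, hk, e⟩ := S.exists_el (u := g⁻¹ * S.el v * g) (by
      show g⁻¹ * S.el v * g * S.s = S.s * (g⁻¹ * S.el v * g)
      calc g⁻¹ * S.el v * g * S.s = g⁻¹ * (S.el v * (g * S.s * g⁻¹)) * g := by group
        _ = g⁻¹ * (g * S.s * g⁻¹ * S.el v) * g := by rw [hc.eq]
        _ = _ := by group)
    have hkM : S.el k ∈ M := by rw [e]; simpa using hM.conj_mem _ hvM g⁻¹
    have h4 : Code.mulC τ κ (Code.mulC τ κ k k) (Code.mulC τ κ k k) = 0 := by
      have hkk := Code.mulC_lt τ κ k hk k hk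
      refine (S.el_inj (Code.mulC_lt τ κ _ hkk _ hkk) (by norm_num)).1 ?_
      have hv' := Code.q_four τ κ v hv
      have hvv := Code.mulC_lt τ κ v (by omega) v (by omega)
      have e4 : S.el v * S.el v * (S.el v * S.el v) = 1 := by
        rw [← S.el_mul (by omega) (by omega), ← S.el_mul hvv hvv, hv', S.el_zero]
      rw [S.el_mul hkk hkk, S.el_mul hk hk, S.el_zero, e]
      calc g⁻¹ * S.el v * g * (g⁻¹ * S.el v * g) * (g⁻¹ * S.el v * g * (g⁻¹ * S.el v * g))
          = g⁻¹ * (S.el v * S.el v * (S.el v * S.el v)) * g := by group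
        _ = 1 := by rw [e4]; group
    exact ⟨k, Code.four_in_q τ κ k (hodd k hk hkM) h4, by rw [e]; group⟩
  obtain ⟨hp32, hpM⟩ := horb p hp
  obtain ⟨hq32, hqM⟩ := horb q hq
  obtain ⟨p', hp', ep⟩ := hpre p hp32 hpM hb.1.1
  obtain ⟨q', hq', eq'⟩ := hpre q hq32 hqM hb.1.2
  have hcases : ∀ u v, u < 32 → v < 32 → Commute (S.el u) (S.el v) ∨
      S.el u * S.el v = S.el v * S.el u * S.s := by
    intro u v hu hv
    have := List.all_eq_true.1 (List.all_eq_true.1 (Code.q_comm τ κ) u (List.mem_range.2 hu)) v (List.mem_range.2 hv)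
    rw [Bool.or_eq_true, Nat.beq_eq] at this
    rcases this with h | h
    · exact Or.inl ((S.commute_el_iff (by omega) (by omega)).2 h)
    · right
      rw [← S.el_mul (by omega) (by omega), h,
        S.el_mul (Code.mulC_lt τ κ v (by omega) u (by omega)) (by norm_num), S.el_mul (by omega) (by omega), S.el_one]
  have hnc : ¬ Commute (S.el p) (S.el q) := fun h => by
    have := (S.commute_el_iff (by omega) (by omega)).1 h
    rw [hb.2] at this; simp at this
  rcases hcases p q hp32 hq32 with h | h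
  · exact hnc h
  rcases hcases p' q' hp' hq' with h' | h'
  · exact hnc (by rw [ep, eq']; exact h'.map (MulAut.conj g).toMonoidHom)
  have e : S.el p * S.el q = S.el q * S.el p * S.el r := by
    rw [← hg, ep, eq']
    calc g * S.el p' * g⁻¹ * (g * S.el q' * g⁻¹) = g * (S.el p' * S.el q') * g⁻¹ := by group
      _ = g * (S.el q' * S.el p' * S.s) * g⁻¹ := by rw [h']
      _ = _ := by group
  rw [h] at e
  exact hr1 ((S.el_inj (by omega) (by norm_num)).1 ((mul_left_cancel e).symm.trans S.el_one.symm))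

variable {P : List ℕ} (hP : P ∈ Code.planes)

include hP in
theorem exists_conj_in_plane (hok : Code.okPlane τ κ P = true) {p q : ℕ} (hp : p ∈ P) (hq : q ∈ P) (hp2 : 2 ≤ p)
    (hq2 : 2 ≤ q) : ∃ a : G, Commute a S.s ∧ a * S.el p * a⁻¹ = S.el q := by
  have hc := Code.plane_orbit τ κ P hP
  simp only [hok, Bool.not_true, Bool.false_or, List.all_eq_true, Bool.or_eq_true, Nat.blt_eq, List.any_eq_true,
    List.mem_range, Nat.beq_eq, decide_eq_true_eq] at hc
  rcases hc p hp with h | h
  · omega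
  rcases h q hq with h | ⟨a, ha, e⟩
  · omega
  have := ((Code.planes_closed τ κ P hP).2.2.2.2.1 p hp).1
  exact ⟨S.el a, S.commute_el ha, by rw [← S.el_conjC ha (by omega), e]⟩

include hM in
theorem plane_mem_of_conj (hok : Code.okPlane τ κ P = true) {p0 : ℕ} (hp0 : p0 ∈ P) (hp1 : p0 ≠ 1) (hs : S.s ∈ M)
    (hpM : S.el p0 ∈ M) (hp00 : p0 ≠ 0) {u : G} (hu : u ∈ S.plane P hP) :
    u ∈ M ⊓ centralizer ({S.s} : Set G) := by
  refine ⟨?_, S.plane_le hP hu⟩
  obtain ⟨q, hq, rfl⟩ := hu
  by_cases hq2 : 2 ≤ q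
  · obtain ⟨a, -, e⟩ := S.exists_conj_in_plane hP hok hp0 hq (by omega) hq2
    rw [← e]
    exact hM.conj_mem _ hpM a
  rcases (show q = 0 ∨ q = 1 by omega) with rfl | rfl
  · rw [S.el_zero]; exact one_mem _
  · rwa [S.el_one]

/-- The normaliser of a plane on which a conjugate of the involution is moved inside. -/
theorem card_normalizer_plane (hok : Code.okPlane τ κ P = true) {p0 : ℕ} (hp0 : p0 ∈ P) (hp2 : 2 ≤ p0) {g : G}
    (hg : g * S.s * g⁻¹ = S.el p0) (hgn : ∀ u ∈ S.plane P hP, g * u * g⁻¹ ∈ S.plane P hP) :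
    Nat.card (normalizer (S.plane P hP : Set G)) = 1344 := by
  classical
  set E := S.plane P hP with hE
  set N := normalizer (E : Set G) with hNdef
  have hmem : ∀ a : G, (∀ u ∈ E, a * u * a⁻¹ ∈ E) → a ∈ N := fun a ha => by
    have heq : E.map (MulAut.conj a).toMonoidHom = E := Subgroup.eq_of_le_of_card_ge
      (by rintro _ ⟨u, hu, rfl⟩; exact ha u hu)
      (le_of_eq (Nat.card_congr (Subgroup.equivMapOfInjective E _ (MulAut.conj a).injective).toEquiv))
    refine mem_normalizer_iff.2 fun u => ⟨ha u, fun hu => ?_⟩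
    rw [← SetLike.mem_coe, ← heq] at hu
    obtain ⟨v, hv, e⟩ := hu
    simp only [MulEquiv.coe_toMonoidHom, MulAut.conj_apply, mul_left_inj, mul_right_inj] at e
    exact e ▸ hv
  have hLN : centralizer ({S.s} : Set G) ≤ N := fun a ha =>
    hmem a fun u hu => S.conj_mem_plane hP hok (mem_centralizer_singleton_iff.1 ha) hu
  have hsE : S.s ∈ E := S.s_mem_plane hP
  set L := centralizer ({S.s} : Set G) with hL
  let F : N → {u : E // u ≠ 1} := fun n => ⟨⟨(n : G) * S.s * (n : G)⁻¹, (mem_normalizer_iff.1 n.2 _).1 hsE⟩,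
    fun h => S.s_ne_one (conj_eq_one_iff.1 (congrArg Subtype.val h))⟩
  have hF : ∀ a b : N, F a = F b ↔ a⁻¹ * b ∈ L.subgroupOf N := by
    intro a b
    simp only [F, Subtype.mk.injEq, mem_subgroupOf, hL, mem_centralizer_singleton_iff, Subgroup.coe_mul,
      InvMemClass.coe_inv]
    constructor
    · intro e
      calc (a : G)⁻¹ * b * S.s = (a : G)⁻¹ * ((b : G) * S.s * (b : G)⁻¹) * b := by group
        _ = (a : G)⁻¹ * ((a : G) * S.s * (a : G)⁻¹) * b := by rw [e]
        _ = _ := by group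
    · intro e
      calc (a : G) * S.s * (a : G)⁻¹ = (a : G) * (S.s * ((a : G)⁻¹ * b)) * (b : G)⁻¹ := by group
        _ = (a : G) * ((a : G)⁻¹ * b * S.s) * (b : G)⁻¹ := by rw [e]
        _ = _ := by group
  let Fq : N ⧸ L.subgroupOf N → {u : E // u ≠ 1} := Quotient.lift F fun a b h =>
    (hF a b).2 (QuotientGroup.leftRel_apply.1 h)
  have hbij : Function.Bijective Fq := by
    constructor
    · intro x y
      induction x using QuotientGroup.induction_on with
      | H a =>
        induction y using QuotientGroup.induction_on with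
        | H b => exact fun e => QuotientGroup.eq.2 ((hF a b).1 e)
    · rintro ⟨⟨u, q, hq, rfl⟩, hu⟩
      by_cases hq2 : 2 ≤ q
      · obtain ⟨a, ha, e⟩ := S.exists_conj_in_plane hP hok hp0 hq hp2 hq2
        refine ⟨((⟨a * g, N.mul_mem (hLN (mem_centralizer_singleton_iff.2 ha.eq)) (hmem g hgn)⟩ : N) :
          N ⧸ L.subgroupOf N), ?_⟩
        refine Subtype.ext (Subtype.ext ?_)
        show a * g * S.s * (a * g)⁻¹ = S.el q
        rw [← e, ← hg]
        group
      · rcases (show q = 0 ∨ q = 1 by omega) with rfl | rfl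
        · exact absurd (Subtype.ext S.el_zero) hu
        · refine ⟨((1 : N) : N ⧸ L.subgroupOf N), Subtype.ext (Subtype.ext ?_)⟩
          show (1 : G) * S.s * (1 : G)⁻¹ = S.el 1
          rw [S.el_one]; group
  have h7 : Nat.card {u : E // u ≠ 1} = 7 := by
    haveI := Fintype.ofFinite E
    rw [Nat.card_eq_fintype_card, Fintype.card_subtype_compl, Fintype.card_subtype_eq, ← Nat.card_eq_fintype_card,
      hE, S.card_plane hP]
  have hidx : (L.subgroupOf N).index = 7 := by
    rw [Subgroup.index_eq_card, Nat.card_congr (Equiv.ofBijective Fq hbij), h7]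
  have h := (L.subgroupOf N).card_mul_index
  rw [hidx, Nat.card_congr (subgroupOfEquivOfLe hLN).toEquiv, hL, S.card_cent] at h
  exact h.symm

include hM in
theorem eq_plane_of_normal (hok : Code.okPlane τ κ P = true)
    (hME : M ⊓ centralizer ({S.s} : Set G) = S.plane P hP)
    (hN : Nat.card (normalizer (S.plane P hP : Set G)) = 1344) : M = S.plane P hP := by
  haveI : Fact (Nat.Prime 2) := ⟨Nat.prime_two⟩
  set E := S.plane P hP with hE
  set N := normalizer (E : Set G) with hNdef
  have hEN : E ≤ N := le_normalizer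
  have hLN : centralizer ({S.s} : Set G) ≤ N := fun a ha => mem_normalizer_iff.2 fun u =>
    ⟨fun hu => S.conj_mem_plane hP hok (mem_centralizer_singleton_iff.1 ha) hu, fun hu => by
      simpa [mul_assoc] using S.conj_mem_plane hP hok (a := a⁻¹)
        (show Commute a S.s from mem_centralizer_singleton_iff.1 ha).inv_left hu⟩
  have hEM : E ≤ M := hME ▸ inf_le_left
  -- the normaliser inside `M`
  let E' : Subgroup N := E.subgroupOf N
  haveI : E'.Normal := normal_subgroupOf_of_le_normalizer le_rfl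
  have hE'8 : Nat.card E' = 8 := by
    rw [Nat.card_congr (subgroupOfEquivOfLe hEN).toEquiv]; exact S.card_plane hP
  obtain ⟨e⟩ := exists_equiv_psl E' (fun u hu v hv => Subtype.ext (S.plane_comm hP hu hv))
    (fun u hu => Subtype.ext (S.plane_sq hP hu)) hE'8 (by
      refine le_antisymm (fun u hu => ?_) fun u hu => mem_centralizer_iff.2 fun v hv =>
        Subtype.ext (S.plane_comm hP hv hu)
      have : (u : G) ∈ centralizer (E : Set G) := mem_centralizer_iff.2 fun v hv =>
        congrArg Subtype.val (mem_centralizer_iff.1 hu ⟨v, hEN hv⟩ hv)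
      rw [S.centralizer_plane hP] at this
      exact this) hN
  haveI := CfsgLib.Classical.psl_fin_isSimpleGroup (F := ZMod 2) (k := 3) (by norm_num) (by norm_num)
  haveI : IsSimpleGroup (N ⧸ E') := e.isSimpleGroup
  have hMN : M.subgroupOf N ≤ E' := by
    haveI : (M.subgroupOf N).Normal := hM.comap N.subtype
    rcases ((hM.comap N.subtype).map (QuotientGroup.mk' E') (QuotientGroup.mk'_surjective E')).eq_bot_or_eq_top with h | h
    · rwa [Subgroup.map_eq_bot_iff, QuotientGroup.ker_mk'] at h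
    · exfalso
      have h2 := Subgroup.comap_map_eq (QuotientGroup.mk' E') (M.subgroupOf N)
      rw [QuotientGroup.ker_mk', sup_eq_left.2 (fun u hu => hEM hu : E' ≤ M.subgroupOf N)] at h2
      have hNM : N ≤ M := fun u hu => by
        have : (⟨u, hu⟩ : N) ∈ M.subgroupOf N := by
          rw [← h2]
          exact h.symm ▸ mem_top _
        exact this
      have : centralizer ({S.s} : Set G) ≤ E := hME ▸ le_inf (hLN.trans hNM) le_rfl
      have := Nat.le_of_dvd Nat.card_pos (card_dvd_of_le this)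
      rw [S.card_cent, S.card_plane hP] at this
      omega
  -- the plane is a Sylow 2-subgroup of `M`, equal to its normaliser
  let EM : Subgroup M := E.subgroupOf M
  have hnor : normalizer (EM : Set M) ≤ EM := fun u hu => by
    refine hMN (x := ⟨u, mem_normalizer_iff.2 fun v => ?_⟩) u.2
    constructor
    · intro hv
      exact ((mem_normalizer_iff.1 hu ⟨v, hEM hv⟩).1 hv :)
    · intro hv
      have hvM : v ∈ M := by
        have := M.mul_mem (M.mul_mem (M.inv_mem u.2) (hEM hv)) u.2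
        simpa [mul_assoc] using this
      exact ((mem_normalizer_iff.1 hu ⟨v, hvM⟩).2 hv :)
  have hEM2 : IsPGroup 2 EM := (S.isPGroup_plane hP).of_equiv (subgroupOfEquivOfLe hEM).symm
  obtain ⟨P2, hP2⟩ := hEM2.exists_le_sylow
  have hPeq : (P2 : Subgroup M) = EM := by
    by_contra hne
    haveI : Group.IsNilpotent (P2 : Subgroup M) := P2.2.isNilpotent
    have hlt : EM.subgroupOf P2 < ⊤ :=
      lt_top_iff_ne_top.2 fun e => hne (le_antisymm (Subgroup.subgroupOf_eq_top.1 e) hP2)
    obtain ⟨n, hnN, hn⟩ := SetLike.exists_of_lt (Group.normalizerCondition_of_isNilpotent _ hlt)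
    refine hn (mem_subgroupOf.2 (hnor (mem_normalizer_iff.2 fun v => ?_)))
    constructor
    · intro hv
      exact mem_subgroupOf.1 ((mem_normalizer_iff.1 hnN ⟨v, hP2 hv⟩).1 (mem_subgroupOf.2 hv))
    · intro hv
      have hv' : v ∈ (P2 : Subgroup M) := by
        have := (P2 : Subgroup M).mul_mem ((P2 : Subgroup M).mul_mem ((P2 : Subgroup M).inv_mem n.2) (hP2 hv)) n.2
        simpa [mul_assoc] using this
      exact mem_subgroupOf.1 ((mem_normalizer_iff.1 hnN ⟨v, hv'⟩).2 (mem_subgroupOf.2 hv))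
  have hNC : normalizer ((P2 : Subgroup M) : Set M) ≤ centralizer ((P2 : Subgroup M) : Set M) := by
    rw [hPeq]
    exact hnor.trans fun u hu => mem_centralizer_iff.2 fun v hv => Subtype.ext (S.plane_comm hP hv hu)
  set K := (MonoidHom.transferSylow P2 hNC).ker with hK
  have hcompl : K.IsComplement' (P2 : Subgroup M) := MonoidHom.ker_transferSylow_isComplement' P2 hNC
  have hKodd : ∀ u ∈ K, Odd (orderOf u) := fun u hu => by
    have h2 : ¬ 2 ∣ Nat.card K := by
      rw [← hcompl.index_eq_card]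
      exact P2.not_dvd_index
    exact Nat.odd_iff.2 (Nat.two_dvd_ne_zero.1 fun h => h2 (h.trans (K.orderOf_dvd_natCard hu)))
  have hoddK : ∀ u : M, Odd (orderOf u) → u ∈ K := fun u hu => by
    rw [hK, MonoidHom.mem_ker]
    obtain ⟨k, hk⟩ := P2.2 (MonoidHom.transferSylow P2 hNC u)
    have h1 : orderOf (MonoidHom.transferSylow P2 hNC u) ∣ 2 ^ k := orderOf_dvd_of_pow_eq_one hk
    exact orderOf_eq_one_iff.1 (Nat.eq_one_of_dvd_coprimes ((Nat.coprime_two_left.2 hu).pow_left k) h1
      (orderOf_map_dvd _ u))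
  let K' : Subgroup G := K.map M.subtype
  haveI : K'.Normal := ⟨by
    rintro _ ⟨u, hu, rfl⟩ g
    refine ⟨⟨g * u * g⁻¹, hM.conj_mem _ u.2 g⟩, hoddK _ ?_, rfl⟩
    rw [← Subgroup.orderOf_coe]
    show Odd (orderOf (g * (u : G) * g⁻¹))
    rw [show g * (u : G) * g⁻¹ = MulAut.conj g (u : G) from rfl, MulEquiv.orderOf_eq, Subgroup.orderOf_coe]
    exact hKodd u hu⟩
  have hK' : K' = ⊥ := by
    refine S.eq_bot_of_inf K' (eq_bot_iff.2 ?_)
    rintro _ ⟨⟨u, hu, rfl⟩, hc⟩
    have huE : (u : G) ∈ E := hME ▸ ⟨u.2, hc⟩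
    have hsq : u * u = 1 := Subtype.ext (S.plane_sq hP huE)
    have ho := hKodd u hu
    have hd : orderOf u ∣ 2 := orderOf_dvd_of_pow_eq_one (by rw [pow_two]; exact hsq)
    rcases (Nat.dvd_prime Nat.prime_two).1 hd with h | h
    · rw [orderOf_eq_one_iff.1 h]; exact one_mem _
    · rw [h] at ho; exact absurd ho (by decide)
  have hKbot : K = ⊥ := (Subgroup.map_eq_bot_iff_of_injective _ M.subtype_injective).1 hK'
  rw [hKbot, Subgroup.isComplement'_bot_left] at hcompl
  refine le_antisymm (fun u hu => ?_) hEM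
  have : (⟨u, hu⟩ : M) ∈ EM := hPeq ▸ hcompl.symm ▸ mem_top _
  exact this

variable (M) in
include hM S in
/-- A proper nontrivial normal subgroup gives the first possibility. -/
theorem normal_cases (hbot : M ≠ ⊥) (htop : M ≠ ⊤) :
    ∃ (N : Subgroup G) (_ : N.Normal), IsMulCommutative N ∧ (∀ n ∈ N, n ^ 2 = 1) ∧ Nat.card N = 8 ∧
      Nonempty (G ⧸ N ≃* Matrix.ProjectiveSpecialLinearGroup (Fin 3) (ZMod 2)) := by
  haveI : Fact (Nat.Prime 2) := ⟨Nat.prime_two⟩
  have hs : S.s ∈ M := S.s_mem hbot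
  obtain ⟨r, hr, hr1, hri, hrc⟩ := S.exists_r
  have hrM : S.el r ∈ M := S.r_mem hbot hrc
  -- no element outside the preimage of the alternating group
  have hodd : ∀ k < 192, S.el k ∈ M → k < 96 := by
    intro k hk hkM
    by_contra hk96
    have hlow := S.gens_mem hk (by omega) hkM hs
    have hy : S.el 96 ∈ M := by
      have e := Code.split_odd τ κ k hk (by omega)
      rw [show S.el k = S.el (k - 96) * S.el 96 by rw [← S.el_mul (by omega) (by norm_num), e]] at hkM
      simpa using M.mul_mem (M.inv_mem (hlow (k - 96) (by omega))) hkM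
    have hL : ∀ u : G, Commute u S.s → u ∈ M := fun u hu => by
      obtain ⟨l, hl, rfl⟩ := S.exists_el hu
      by_cases h96 : l < 96
      · exact hlow l h96
      · rw [← Code.split_odd τ κ l hl (by omega), S.el_mul (by omega) (by norm_num)]
        exact M.mul_mem (hlow _ (by omega)) hy
    refine htop (eq_top_iff.2 ?_)
    rw [← Sylow.normalizer_sup_eq_top' S.sylow (N := M) (fun u hu => hL u (mem_centralizer_singleton_iff.1 (S.syl_le hu)))]
    refine sup_le (fun n hn => hL n (S.commute_of_normalizes_syl fun u hu => ?_)) le_rfl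
    exact (mem_normalizer_iff.1 hn u).1 hu
  have hQ : ∀ k < 192, S.el k ∈ M → k < 32 := by
    intro k hk hkM
    by_contra h32
    have hlow := S.gens_mem hk (by omega) hkM hs
    -- all of `Q` lies in `M`
    have hc := List.all_eq_true.1 (Code.q_case τ κ) r (List.mem_range.2 hr)
    have hnb : ∀ w < 32, Code.bad τ κ r w = false := fun w hw =>
      S.not_bad hr hw hrc hr1 hrM (hlow w (by omega)) hodd
    simp only [Code.qCase, hri, hnb r hr, Bool.not_true, Bool.false_or, Bool.or_eq_true, Bool.or_false,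
      Nat.beq_eq, hr1, false_or, List.any_eq_true, Bool.and_eq_true, List.all_eq_true, List.mem_range] at hc
    obtain ⟨P, hP, ⟨-, hall⟩, -⟩ := hc
    obtain ⟨hlen, -, -, -, -, -⟩ := Code.planes_closed τ κ P hP
    have hsub : (List.range 32) ⊆ P := fun w hw => by
      rcases hall w (List.mem_range.1 hw) with ⟨p, hp, e⟩ | h
      · exact e ▸ hp
      · rw [hnb w (List.mem_range.1 hw)] at h; simp at h
    have := (List.nodup_range (n := 32)).length_le_of_subset hsub
    rw [hlen, List.length_range] at this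
    omega
  have hc := List.all_eq_true.1 (Code.q_case τ κ) r (List.mem_range.2 hr)
  simp only [Code.qCase, hri, S.not_bad hr hr hrc hr1 hrM hrM hodd, Bool.not_true, Bool.false_or, Bool.or_eq_true,
    Bool.or_false, Nat.beq_eq, hr1, false_or, List.any_eq_true, Bool.and_eq_true, List.all_eq_true,
    List.mem_range] at hc
  obtain ⟨P, hP, ⟨⟨p0, hp0, rfl⟩, hall⟩, hok⟩ := hc
  have hp00 : p0 ≠ 0 := fun e => by
    rw [e] at hri
    revert hri
    cases τ <;> cases κ <;> decide +kernel
  set E := S.plane P hP with hEdef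
  have hrE : S.el p0 ∈ E := (S.el_mem_plane_iff hP (by omega)).2 hp0
  -- the intersection with the centraliser
  have hle : M ⊓ centralizer ({S.s} : Set G) ≤ E := by
    rintro u ⟨hu, huc⟩
    obtain ⟨k, hk, rfl⟩ := S.exists_el (mem_centralizer_singleton_iff.1 huc)
    have hk32 := hQ k hk hu
    rcases hall k hk32 with ⟨p, hp, e⟩ | h
    · exact (S.el_mem_plane_iff hP hk).2 (e ▸ hp)
    · rw [S.not_bad hr hk32 hrc hr1 hrM hu hodd] at h; simp at h
  have hEeq : M ⊓ centralizer ({S.s} : Set G) = E := by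
    have hE8 : Nat.card E = 8 := S.card_plane hP
    refine le_antisymm hle fun u hu => ?_
    -- the plane is the closure of the conjugates
    exact S.plane_mem_of_conj hP hok hp0 hr1 hs hrM hp00 hu
  have hEM : E ≤ M := hEeq ▸ inf_le_left
  have hfix : ∀ z ∈ E, ∀ g : G, g * S.s * g⁻¹ = z → ∀ u ∈ E, g * u * g⁻¹ ∈ E := by
    intro z hz g hg
    have hle' : E ≤ E.map (MulAut.conj g).toMonoidHom := by
      intro u hu
      refine ⟨g⁻¹ * u * g, hle ⟨?_, mem_centralizer_singleton_iff.2 ?_⟩, by simp [mul_assoc]⟩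
      · simpa using hM.conj_mem u (hEM hu) g⁻¹
      · calc g⁻¹ * u * g * S.s = g⁻¹ * (u * (g * S.s * g⁻¹)) * g := by group
          _ = g⁻¹ * (g * S.s * g⁻¹ * u) * g := by rw [hg, S.plane_comm hP hu hz]
          _ = _ := by group
    have heq := Subgroup.eq_of_le_of_card_ge hle'
      (le_of_eq (Nat.card_congr (Subgroup.equivMapOfInjective E _ (MulAut.conj g).injective).toEquiv).symm)
    intro u hu
    rw [heq]
    exact ⟨u, hu, rfl⟩
  obtain ⟨g, hg⟩ := isConj_iff.1 hrc
  have hN := S.card_normalizer_plane hP hok hp0 (by omega) hg (hfix _ hrE g hg)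
  -- the normal subgroup is the plane
  have hME : M = E := S.eq_plane_of_normal hP hok hEeq hN
  subst hME
  have hnorm : normalizer ((E : Subgroup G) : Set G) = ⊤ := normalizer_eq_top_iff.2 hM
  rw [hnorm, Subgroup.card_top] at hN
  refine ⟨E, hM, ⟨⟨fun a b => Subtype.ext (S.plane_comm hP a.2 b.2)⟩⟩,
    fun n hn => by rw [pow_two]; exact S.plane_sq hP hn, S.card_plane hP, ?_⟩
  exact exists_equiv_psl E (fun u hu v hv => S.plane_comm hP hu hv) (fun u hu => S.plane_sq hP hu)
    (S.card_plane hP) (S.centralizer_plane hP) hN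

include S in
/-- Without the first possibility the group is simple. -/
theorem isSimpleGroup_of_not
    (h : ¬ ∃ (N : Subgroup G) (_ : N.Normal), IsMulCommutative N ∧ (∀ n ∈ N, n ^ 2 = 1) ∧ Nat.card N = 8 ∧
      Nonempty (G ⧸ N ≃* Matrix.ProjectiveSpecialLinearGroup (Fin 3) (ZMod 2))) : IsSimpleGroup G := by
  haveI : Nontrivial G := ⟨S.s, 1, S.s_ne_one⟩
  refine ⟨fun N hN => ?_⟩
  by_contra hne
  push Not at hne
  haveI := hN
  exact h (S.normal_cases N hne.1 hne.2)

end Setting

end CfsgLib.Recognition.ExtraspecialThirtyTwo
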