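import Cfsg.Agent.Lib.Recognition.ExtraspecialThirtyTwo.Gens

/-!
# Codes for the elements of the groups of order 192

An element is written `q * x ^ n * y ^ p` with code `q + 32 * (n + 3 * p)`; the five bits of the code `q` are
the exponents of `s, a, a', c, c'`.
-/

set_option autoImplicit false
set_option maxRecDepth 40000
set_option linter.unusedSectionVars false

namespace CfsgLib.Recognition.ExtraspecialThirtyTwo

namespace Code

/-- A bit of a code. -/
def bit (q t : ℕ) : Bool := Nat.beq (q / 2 ^ t % 2) 1

/-- The code with given bits. -/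
def enc (i j k l m : Bool) : ℕ :=
  (bif i then 1 else 0) + (bif j then 2 else 0) + (bif k then 4 else 0) + (bif l then 8 else 0) +
    (bif m then 16 else 0)

/-- The product in the extraspecial group, by bits. -/
def qmul (q r : ℕ) : ℕ :=
  enc (xor (xor (bit q 0) (bit r 0)) (xor (bit q 3 && bit r 2) (bit q 4 && bit r 1))) (xor (bit q 1) (bit r 1))
    (xor (bit q 2) (bit r 2)) (xor (bit q 3) (bit r 3)) (xor (bit q 4) (bit r 4))

/-- The packed product table of the extraspecial group. -/
def qTab : ℕ := 2009244574553002058282613141545986430996948221365071797654120086761028208508437106319382428612955921750642762433192383259776892967301557955865033498639781940945813829052066281421878321419975417839771948118943170198944459765496417033598853949016963714602975823266237407408689708864299636653556242944186326848600489763676647522041711450317109799745419470246996054803586539198692877178252530846389071324617494950402085477870177924635035456949466296665761563554991826444060437759435235330677168930066358569676929603469767538926718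29148556727844913337064547257744457698428942599509314121156137914172274393403780958379354931497128474333716637708688002370799562691247783971049106438150925805690921780862510880230188975646387925198389810070578290967944724415672306578260097796169475147235929067883453948362630535332572021125229611705941210064875137766748609117874909314267362612781348476496887785190501472908409303419885337266677114419859683048451223328107946451769563004230043005282513494748369054883433698991182500156042942778693534460236712045837636637058829841869915825844686579574898908843685082208968593992092306564455257092436010450107197398032707255087976620600473629679427843104708583283496161509831331300033158971570884119335668652056666945254717974715335564316328373515942501790933865455672513072150447009319594606029849730658645996643640045893797979168644308219955803476295772069138319556225136881226553720103913136003652883479501695173271364508745904451260669392207164546832383597852360364660278900189562424692191708091175505143892000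

/-- The packed conjugation table when `y` fixes the second plane. -/
def aTab0 : ℕ := 3449103029979752462473010145326632820886259785639744907569869594885008577762054463349665675905185079563336977345998667196260943055071007017730042219177203470739777973739113758213665688754838850395386265527074511067703695319294333344919824157554750695698017813003157658134234844070095718432

/-- The packed conjugation table when `y` moves the second plane. -/
def aTab1 : ℕ := 2526287338081562240716053029493408547919440752719614059865819401436715474943510969416108469263347093928424581975124194041833056861519457315396934541649668312918592041166694778974063986002204399704905556851268504330824668198509826629304433019898988545035222744413464048393611732225183811616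

/-- The packed product table of the symmetric group of degree three. -/
def hTab : ℕ := 6622054817125761803614952015496

/-- The product in the extraspecial group. -/
def qm (q r : ℕ) : ℕ := (qTab >>> (5 * (32 * q + r))) % 32

/-- Conjugation by `x ^ n * y ^ p`. -/
def act (τ : Bool) (h q : ℕ) : ℕ := ((bif τ then aTab1 else aTab0) >>> (5 * (32 * h + q))) % 32

/-- The product in the symmetric group. -/
def hm (h g : ℕ) : ℕ := (hTab >>> (3 * (6 * h + g))) % 8

/-- Whether the code is odd. -/
def oddH (h : ℕ) : Bool := Nat.ble 3 h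

/-- The product of codes. -/
def mulC (τ κ : Bool) (k l : ℕ) : ℕ :=
  (bif κ && (oddH (k / 32) && oddH (l / 32)) then qm (qm (k % 32) (act τ (k / 32) (l % 32))) 1
    else qm (k % 32) (act τ (k / 32) (l % 32))) + 32 * hm (k / 32) (l / 32)

/-- The inverse of a code. -/
def invC (τ κ : Bool) (k : ℕ) : ℕ :=
  mulC τ κ (bif oddH (k / 32) then 32 * (k / 32) + (bif κ then 1 else 0) else 32 * ((3 - k / 32) % 3))
    (bif Nat.beq (qm (k % 32) (k % 32)) 0 then k % 32 else qm (k % 32) 1)

theorem qm_eq : ∀ q < 32, ∀ r < 32, qm q r = qmul q r := by decide +kernel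

/-- The automorphism given by the images of the four generators. -/
def phi (A A' C C' q : ℕ) : ℕ :=
  qmul (bif bit q 0 then 1 else 0) (qmul (qmul (bif bit q 1 then A else 0) (bif bit q 2 then A' else 0))
    (qmul (bif bit q 3 then C else 0) (bif bit q 4 then C' else 0)))

/-- Conjugation by `x`. -/
def phiX (q : ℕ) : ℕ := phi 4 6 16 24 q

/-- Conjugation by `y`. -/
def phiY (τ : Bool) (q : ℕ) : ℕ := bif τ then phi 2 6 11 31 q else phi 2 6 8 24 q

theorem act_eq : ∀ τ : Bool, ∀ q < 32, act τ 0 q = q ∧ act τ 1 q = phiX q ∧ act τ 2 q = phiX (phiX q) ∧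
    act τ 3 q = phiY τ q ∧ act τ 4 q = phiX (phiY τ q) ∧ act τ 5 q = phiX (phiX (phiY τ q)) := by
  decide +kernel

theorem hm_eq : ∀ h < 6, ∀ g < 6, hm h g =
    (h % 3 + (bif oddH h then 3 - g % 3 else g % 3)) % 3 + 3 * ((h / 3 + g / 3) % 2) := by decide +kernel

theorem mulC_lt : ∀ τ κ : Bool, ∀ k < 192, ∀ l < 192, mulC τ κ k l < 192 := by
  intro τ κ k hk l hl
  have h1 : hm (k / 32) (l / 32) < 6 := by rw [hm_eq _ (by omega) _ (by omega)]; omega
  have h2 : ∀ q r, qm q r < 32 := fun q r => Nat.mod_lt _ (by norm_num)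
  unfold mulC
  cases (κ && (oddH (k / 32) && oddH (l / 32))) <;> simp only [cond_true, cond_false]
  · have := h2 (k % 32) (act τ (k / 32) (l % 32)); omega
  · have := h2 (qm (k % 32) (act τ (k / 32) (l % 32))) 1; omega

theorem invC_check : ∀ τ κ : Bool, ∀ k < 192, invC τ κ k < 192 ∧ mulC τ κ k (invC τ κ k) = 0 := by decide +kernel

end Code

variable {K : Type*} [Group K]

/-- A power with a Boolean exponent. -/
def pw (b : Bool) (e : K) : K := bif b then e else 1

namespace Tuple

/-- The element with a given five-bit code. -/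
def qval (g : Tuple K) (q : ℕ) : K :=
  pw (Code.bit q 0) g.s * ((pw (Code.bit q 1) g.a * pw (Code.bit q 2) g.a') *
    (pw (Code.bit q 3) g.c * pw (Code.bit q 4) g.c'))

/-- The element with a given code. -/
def val (g : Tuple K) (k : ℕ) : K := g.qval (k % 32) * (g.x ^ (k / 32 % 3) * g.y ^ (k / 32 / 3))

end Tuple

theorem Rel.map {τ κ : Bool} {g : Tuple K} (h : Rel τ κ g) {L : Type*} [Group L] (f : K →* L) :
    Rel τ κ (g.map f) := by
  constructor <;> simp only [Tuple.map, ← map_mul, ← map_inv, ← map_one f] <;>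
    first
      | exact congrArg f h.ss | exact congrArg f h.sa | exact congrArg f h.sa' | exact congrArg f h.sc
      | exact congrArg f h.sc' | exact congrArg f h.sx | exact congrArg f h.sy | exact congrArg f h.aa
      | exact congrArg f h.a'a' | exact congrArg f h.cc | exact congrArg f h.c'c' | exact congrArg f h.aa'
      | exact congrArg f h.cc' | exact congrArg f h.ac | exact congrArg f h.a'c' | exact congrArg f h.ac'
      | exact congrArg f h.a'c | exact congrArg f h.xxx | exact congrArg f h.xa | exact congrArg f h.xa'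
      | exact congrArg f h.xc | exact congrArg f h.xc' | exact congrArg f h.yx | exact congrArg f h.ya
      | exact congrArg f h.ya'
      | (have := congrArg f h.yy; cases κ <;> simpa using this)
      | (have := congrArg f h.yc; cases τ <;> simpa using this)
      | (have := congrArg f h.yc'; cases τ <;> simpa using this)

theorem Tuple.val_map (g : Tuple K) {L : Type*} [Group L] (f : K →* L) (k : ℕ) : (g.map f).val k = f (g.val k) := by
  have e : ∀ (b : Bool) (v : K), pw b (f v) = f (pw b v) := fun b v => by cases b <;> simp [pw]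
  simp only [Tuple.val, Tuple.qval, Tuple.map, e, map_mul, map_pow]

theorem bit_enc (i j k l m : Bool) : Code.bit (Code.enc i j k l m) 0 = i ∧ Code.bit (Code.enc i j k l m) 1 = j ∧
    Code.bit (Code.enc i j k l m) 2 = k ∧ Code.bit (Code.enc i j k l m) 3 = l ∧ Code.bit (Code.enc i j k l m) 4 = m := by
  revert i j k l m; decide +kernel

theorem pw_xor {e : K} (he : e * e = 1) (b d : Bool) : pw (xor b d) e = pw b e * pw d e := by
  cases b <;> cases d <;> simp [pw, he]

theorem pw_commute {e f : K} (h : e * f = f * e) (b d : Bool) : pw b e * pw d f = pw d f * pw b e := by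
  cases b <;> cases d <;> simp [pw, h]

namespace Rel

variable {τ κ : Bool} {g : Tuple K} (h : Rel τ κ g)
include h

theorem pw_s (b : Bool) (d e : Bool) {u v : K} (hu : g.s * u = u * g.s) (hv : g.s * v = v * g.s) :
    pw b g.s * (pw d u * pw e v) = pw d u * pw e v * pw b g.s := by
  rw [← mul_assoc, pw_commute hu, mul_assoc, pw_commute hv, ← mul_assoc]

theorem swap (l m j k : Bool) : (pw l g.c * pw m g.c') * (pw j g.a * pw k g.a') =
    pw (xor (l && k) (m && j)) g.s * ((pw j g.a * pw k g.a') * (pw l g.c * pw m g.c')) := by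
  have e1 : pw m g.c' * pw j g.a = pw (m && j) g.s * (pw j g.a * pw m g.c') := by
    cases m <;> cases j <;> simp [pw, h.ac', mul_assoc]
  have e2 : pw l g.c * pw k g.a' = pw (l && k) g.s * (pw k g.a' * pw l g.c) := by
    cases l <;> cases k <;> simp [pw, h.a'c, mul_assoc]
  calc (pw l g.c * pw m g.c') * (pw j g.a * pw k g.a')
      = pw l g.c * (pw m g.c' * pw j g.a) * pw k g.a' := by simp only [mul_assoc]
    _ = pw l g.c * pw (m && j) g.s * pw j g.a * (pw m g.c' * pw k g.a') := by rw [e1]; simp only [mul_assoc]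
    _ = pw (m && j) g.s * (pw l g.c * pw j g.a) * (pw k g.a' * pw m g.c') := by
        rw [pw_commute h.sc.symm l (m && j), pw_commute h.a'c' m k]; simp only [mul_assoc]
    _ = pw (m && j) g.s * pw j g.a * (pw l g.c * pw k g.a') * pw m g.c' := by
        rw [pw_commute h.ac l j]; simp only [mul_assoc]
    _ = pw (m && j) g.s * (pw j g.a * pw (l && k) g.s) * (pw k g.a' * pw l g.c) * pw m g.c' := by
        rw [e2]; simp only [mul_assoc]
    _ = pw (m && j) g.s * pw (l && k) g.s * ((pw j g.a * pw k g.a') * (pw l g.c * pw m g.c')) := by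
        rw [← pw_commute h.sa (l && k) j]; simp only [mul_assoc]
    _ = _ := by rw [← pw_xor h.ss, Bool.xor_comm]

theorem qval_qmul (q r : ℕ) : g.qval (Code.qmul q r) = g.qval q * g.qval r := by
  obtain ⟨b0, b1, b2, b3, b4⟩ := bit_enc (xor (xor (Code.bit q 0) (Code.bit r 0))
      (xor (Code.bit q 3 && Code.bit r 2) (Code.bit q 4 && Code.bit r 1))) (xor (Code.bit q 1) (Code.bit r 1))
    (xor (Code.bit q 2) (Code.bit r 2)) (xor (Code.bit q 3) (Code.bit r 3)) (xor (Code.bit q 4) (Code.bit r 4))
  simp only [Tuple.qval, Code.qmul, b0, b1, b2, b3, b4]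
  generalize Code.bit q 0 = i; generalize Code.bit q 1 = j; generalize Code.bit q 2 = k
  generalize Code.bit q 3 = l; generalize Code.bit q 4 = m
  generalize Code.bit r 0 = i'; generalize Code.bit r 1 = j'; generalize Code.bit r 2 = k'
  generalize Code.bit r 3 = l'; generalize Code.bit r 4 = m'
  symm
  set A := pw j g.a * pw k g.a' with hA
  set A' := pw j' g.a * pw k' g.a' with hA'
  set C := pw l g.c * pw m g.c' with hC
  set C' := pw l' g.c * pw m' g.c' with hC'
  have sA : ∀ b, A * pw b g.s = pw b g.s * A := fun b => (h.pw_s b j k h.sa h.sa').symm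
  have sC : ∀ b, C * pw b g.s = pw b g.s * C := fun b => (h.pw_s b l m h.sc h.sc').symm
  have eA : A * A' = pw (xor j j') g.a * pw (xor k k') g.a' := by
    calc A * A' = pw j g.a * (pw k g.a' * pw j' g.a) * pw k' g.a' := by simp only [hA, hA', mul_assoc]
      _ = _ := by rw [pw_commute h.aa' k j', pw_xor h.aa, pw_xor h.a'a']; simp only [mul_assoc]
  have eC : C * C' = pw (xor l l') g.c * pw (xor m m') g.c' := by
    calc C * C' = pw l g.c * (pw m g.c' * pw l' g.c) * pw m' g.c' := by simp only [hC, hC', mul_assoc]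
      _ = _ := by rw [pw_commute h.cc' m l', pw_xor h.cc, pw_xor h.c'c']; simp only [mul_assoc]
  set w := xor (l && k') (m && j') with hw
  calc pw i g.s * (A * C) * (pw i' g.s * (A' * C'))
      = pw i g.s * A * (C * pw i' g.s) * A' * C' := by simp only [mul_assoc]
    _ = pw i g.s * (A * pw i' g.s) * (C * A') * C' := by rw [sC]; simp only [mul_assoc]
    _ = pw i g.s * pw i' g.s * (A * pw w g.s) * A' * (C * C') := by
        rw [sA, h.swap l m j' k']; simp only [hw, hA, hA', hC, mul_assoc]
    _ = pw i g.s * pw i' g.s * pw w g.s * ((A * A') * (C * C')) := by rw [sA]; simp only [mul_assoc]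
    _ = _ := by rw [eA, eC, ← pw_xor h.ss, ← pw_xor h.ss]

theorem qval_gens : g.qval 0 = 1 ∧ g.qval 1 = g.s ∧ g.qval 2 = g.a ∧ g.qval 4 = g.a' ∧ g.qval 6 = g.a * g.a' ∧
    g.qval 8 = g.c ∧ g.qval 16 = g.c' ∧ g.qval 24 = g.c * g.c' ∧ g.qval 11 = g.s * g.a * g.c ∧
    g.qval 31 = g.s * g.a * g.a' * (g.c * g.c') := by
  refine ⟨?_, ?_, ?_, ?_, ?_, ?_, ?_, ?_, ?_, ?_⟩ <;> simp [Tuple.qval, pw, Code.bit, mul_assoc, show Nat.beq 0 1 = false from rfl]

theorem qval_phi {u : K} {A A' C C' : ℕ} (hs : u * g.s * u⁻¹ = g.s) (hA : g.qval A = u * g.a * u⁻¹)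
    (hA' : g.qval A' = u * g.a' * u⁻¹) (hC : g.qval C = u * g.c * u⁻¹) (hC' : g.qval C' = u * g.c' * u⁻¹)
    (q : ℕ) : g.qval (Code.phi A A' C C' q) = u * g.qval q * u⁻¹ := by
  have sel : ∀ (b : Bool) (e : ℕ) (v : K), g.qval e = u * v * u⁻¹ →
      g.qval (bif b then e else 0) = u * pw b v * u⁻¹ := fun b e v he => by
    cases b
    · simp [pw, h.qval_gens.1]
    · exact he
  rw [Code.phi, h.qval_qmul, h.qval_qmul, h.qval_qmul, h.qval_qmul,
    sel _ 1 g.s (h.qval_gens.2.1.trans hs.symm), sel _ A g.a hA, sel _ A' g.a' hA', sel _ C g.c hC,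
    sel _ C' g.c' hC', Tuple.qval]
  group

theorem qval_qm {q r : ℕ} (hq : q < 32) (hr : r < 32) : g.qval (Code.qm q r) = g.qval q * g.qval r := by
  rw [Code.qm_eq q hq r hr, h.qval_qmul]

theorem qval_act {k q : ℕ} (hk : k < 6) (hq : q < 32) :
    g.qval (Code.act τ k q) = (g.x ^ (k % 3) * g.y ^ (k / 3)) * g.qval q * (g.x ^ (k % 3) * g.y ^ (k / 3))⁻¹ := by
  obtain ⟨-, h1, h2, h4, h6, h8, h16, h24, h11, h31⟩ := h.qval_gens
  have conj1 : ∀ {u v : K}, g.s * u = u * g.s → u * g.s * u⁻¹ = g.s := fun e => by
    rw [← e, mul_inv_cancel_right]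
  have hX : ∀ q, g.qval (Code.phiX q) = g.x * g.qval q * g.x⁻¹ := fun q =>
    h.qval_phi (conj1 (v := g.x) h.sx) (by rw [h4, h.xa]) (by rw [h6, h.xa']) (by rw [h16, h.xc])
      (by rw [h24, h.xc']) q
  have hY : ∀ q, g.qval (Code.phiY τ q) = g.y * g.qval q * g.y⁻¹ := fun q => by
    have e1 := h.yc
    have e2 := h.yc'
    cases τ <;> simp only [cond_true, cond_false] at e1 e2
    · exact h.qval_phi (conj1 (v := g.y) h.sy) (by rw [h2, h.ya]) (by rw [h6, h.ya']) (by rw [h8, e1])
        (by rw [h24, e2]) q
    · exact h.qval_phi (conj1 (v := g.y) h.sy) (by rw [h2, h.ya]) (by rw [h6, h.ya']) (by rw [h11, e1])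
        (by rw [h31, e2]) q
  obtain ⟨a0, a1, a2, a3, a4, a5⟩ := Code.act_eq τ q hq
  interval_cases k <;> simp only [a0, a1, a2, a3, a4, a5, hX, hY, Nat.reduceMod, Nat.reduceDiv, pow_succ, pow_zero, one_mul, mul_one,
    mul_inv_rev, inv_one, mul_assoc]

theorem hval_mul {k l : ℕ} (hk : k < 6) (hl : l < 6) :
    (g.x ^ (k % 3) * g.y ^ (k / 3)) * (g.x ^ (l % 3) * g.y ^ (l / 3)) =
      pw (κ && (Code.oddH k && Code.oddH l)) g.s * (g.x ^ (Code.hm k l % 3) * g.y ^ (Code.hm k l / 3)) := by
  rw [Code.hm_eq k hk l hl]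
  have hyy : g.y * g.y = pw κ g.s := h.yy
  have hx3 : g.x ^ 3 = 1 := by rw [pow_succ, pow_two]; exact h.xxx
  have hxm : ∀ i : ℕ, g.x ^ i = g.x ^ (i % 3) := fun i => pow_eq_pow_mod i hx3
  have hyx : ∀ j : ℕ, j < 3 → g.y * g.x ^ j = g.x ^ (3 - j) * g.y := by
    intro j hj
    have e1 : g.y * g.x = g.x ^ 2 * g.y := by
      rw [mul_inv_eq_iff_eq_mul.1 h.yx]; congr 1
      exact inv_eq_of_mul_eq_one_right (by rw [← pow_succ']; exact hx3)
    interval_cases j
    · simp [hx3]
    · simpa using e1
    · rw [pow_two, ← mul_assoc, e1, mul_assoc, e1, ← mul_assoc, ← pow_add, hxm (2 + 2)]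
  have hxs : ∀ i : ℕ, g.x ^ i * pw κ g.s = pw κ g.s * g.x ^ i := fun i => by
    cases κ
    · simp [pw]
    · exact ((Commute.symm (show Commute g.s g.x from h.sx)).pow_left i).eq
  set n := k % 3 with hn
  set n' := l % 3 with hn'
  rcases (show k / 3 = 0 ∨ k / 3 = 1 by omega) with hp | hp
  · have ho : Code.oddH k = false := by
      simp only [Code.oddH, ← Bool.not_eq_true, Nat.ble_eq]; omega
    simp only [ho, cond_false, hp, pow_zero, mul_one, Bool.false_and, Bool.and_false, pw, one_mul, zero_add]
    rw [← mul_assoc, ← pow_add, hxm (n + n')]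
    congr 2 <;> omega
  · have ho : Code.oddH k = true := by simp only [Code.oddH, Nat.ble_eq]; omega
    simp only [ho, cond_true, hp, pow_one, Bool.true_and]
    rw [show g.x ^ n * g.y * (g.x ^ n' * g.y ^ (l / 3)) = g.x ^ n * (g.y * g.x ^ n') * g.y ^ (l / 3) by
      simp only [mul_assoc], hyx n' (by omega), ← mul_assoc, ← pow_add, hxm]
    rcases (show l / 3 = 0 ∨ l / 3 = 1 by omega) with hq | hq
    · have ho' : Code.oddH l = false := by
        simp only [Code.oddH, ← Bool.not_eq_true, Nat.ble_eq]; omega
      simp only [ho', hq, Bool.and_false, pw, cond_false, pow_zero, mul_one, one_mul]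
      rw [show ((n + (3 - n')) % 3 + 3 * ((1 + 0) % 2)) / 3 = 1 by omega, pow_one]
      congr 2; omega
    · have ho' : Code.oddH l = true := by simp only [Code.oddH, Nat.ble_eq]; omega
      simp only [ho', hq, Bool.and_true, pow_one]
      rw [mul_assoc, hyy, hxs]
      have e : ((n + (3 - n')) % 3 + 3 * ((1 + 1) % 2)) / 3 = 0 := by omega
      rw [e, pow_zero, mul_one]
      congr 2; omega

theorem val_mul {k l : ℕ} (hk : k < 192) (hl : l < 192) : g.val (Code.mulC τ κ k l) = g.val k * g.val l := by
  have hq : k % 32 < 32 := Nat.mod_lt _ (by norm_num)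
  have hq' : l % 32 < 32 := Nat.mod_lt _ (by norm_num)
  have ha : Code.act τ (k / 32) (l % 32) < 32 := Nat.mod_lt _ (by norm_num)
  have hqm : Code.qm (k % 32) (Code.act τ (k / 32) (l % 32)) < 32 := Nat.mod_lt _ (by norm_num)
  obtain ⟨R, hR, hRlt, hRval⟩ : ∃ R, Code.mulC τ κ k l = R + 32 * Code.hm (k / 32) (l / 32) ∧ R < 32 ∧
      g.qval R = g.qval (k % 32) * g.qval (Code.act τ (k / 32) (l % 32)) *
        pw (κ && (Code.oddH (k / 32) && Code.oddH (l / 32))) g.s := by
    refine ⟨_, rfl, ?_, ?_⟩
    · cases (κ && (Code.oddH (k / 32) && Code.oddH (l / 32))) <;> exact Nat.mod_lt _ (by norm_num)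
    · cases (κ && (Code.oddH (k / 32) && Code.oddH (l / 32))) <;>
        simp only [cond_true, cond_false, pw, mul_one]
      · exact h.qval_qm hq ha
      · rw [h.qval_qm hqm (by norm_num), h.qval_qm hq ha, h.qval_gens.2.1]
  have hv : g.val (R + 32 * Code.hm (k / 32) (l / 32)) =
      g.qval R * (g.x ^ (Code.hm (k / 32) (l / 32) % 3) * g.y ^ (Code.hm (k / 32) (l / 32) / 3)) := by
    rw [Tuple.val, show (R + 32 * Code.hm (k / 32) (l / 32)) % 32 = R by omega,
      show (R + 32 * Code.hm (k / 32) (l / 32)) / 32 = Code.hm (k / 32) (l / 32) by omega]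
  rw [hR, hv, hRval, mul_assoc _ (pw _ g.s), ← h.hval_mul (by omega) (by omega),
    h.qval_act (by omega) hq', Tuple.val, Tuple.val]
  group

theorem val_gens : g.val 0 = 1 ∧ g.val 1 = g.s ∧ g.val 2 = g.a ∧ g.val 4 = g.a' ∧ g.val 8 = g.c ∧
    g.val 16 = g.c' ∧ g.val 32 = g.x ∧ g.val 96 = g.y := by
  obtain ⟨h0, h1, h2, h4, -, h8, h16, -, -, -⟩ := h.qval_gens
  refine ⟨?_, ?_, ?_, ?_, ?_, ?_, ?_, ?_⟩ <;> simp [Tuple.val, h0, h1, h2, h4, h8, h16]

theorem val_invC {k : ℕ} (hk : k < 192) : g.val (Code.invC τ κ k) = (g.val k)⁻¹ := by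
  obtain ⟨h1, h2⟩ := Code.invC_check τ κ k hk
  refine (inv_eq_of_mul_eq_one_right ?_).symm
  rw [← h.val_mul hk h1, h2, h.val_gens.1]

theorem mem_gen_iff {u : K} : u ∈ g.gen ↔ ∃ k < 192, g.val k = u := by
  obtain ⟨h0, h1, h2, h4, h8, h16, h32, h96⟩ := h.val_gens
  constructor
  · intro hu
    let H : Subgroup K :=
      { carrier := {v | ∃ k < 192, g.val k = v}
        one_mem' := ⟨0, by norm_num, h0⟩
        mul_mem' := by
          rintro _ _ ⟨k, hk, rfl⟩ ⟨l, hl, rfl⟩
          exact ⟨_, Code.mulC_lt τ κ k hk l hl, h.val_mul hk hl⟩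
        inv_mem' := by
          rintro _ ⟨k, hk, rfl⟩
          exact ⟨_, (Code.invC_check τ κ k hk).1, h.val_invC hk⟩ }
    have hle : g.gen ≤ H := by
      refine (Subgroup.closure_le _).2 fun v hv => ?_
      simp only [Set.mem_insert_iff, Set.mem_singleton_iff] at hv
      rcases hv with rfl | rfl | rfl | rfl | rfl | rfl | rfl
      exacts [⟨1, by norm_num, h1⟩, ⟨2, by norm_num, h2⟩, ⟨4, by norm_num, h4⟩, ⟨8, by norm_num, h8⟩,
        ⟨16, by norm_num, h16⟩, ⟨32, by norm_num, h32⟩, ⟨96, by norm_num, h96⟩]
    exact hle hu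
  · rintro ⟨k, -, rfl⟩
    have m : ∀ v ∈ ({g.s, g.a, g.a', g.c, g.c', g.x, g.y} : Set K), v ∈ g.gen := fun v hv =>
      Subgroup.subset_closure hv
    have hp : ∀ (b : Bool), ∀ v ∈ g.gen, pw b v ∈ g.gen := fun b v hv => by
      cases b
      · exact one_mem _
      · exact hv
    refine mul_mem (mul_mem (hp _ _ (m _ ?_)) (mul_mem (mul_mem (hp _ _ (m _ ?_)) (hp _ _ (m _ ?_)))
      (mul_mem (hp _ _ (m _ ?_)) (hp _ _ (m _ ?_))))) (mul_mem (pow_mem (m _ ?_) _) (pow_mem (m _ ?_) _)) <;> simp

end Rel

end CfsgLib.Recognition.ExtraspecialThirtyTwo
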