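import Mathlib

/-!
# Groups of order 192 given by generators of `2^(1+4)` and of `S₃`

Two groups of order 192 generated by tuples satisfying the same relations are isomorphic.
-/

set_option autoImplicit false

namespace CfsgLib.Recognition.ExtraspecialThirtyTwo

open Subgroup

/-- Generators: `s` central, `a, a', c, c'` of the extraspecial group, `x` of order three, `y` inverting it. -/
structure Tuple (K : Type*) where
  /-- The central involution. -/
  s : K
  /-- First generator of the first plane. -/
  a : K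
  /-- Second generator of the first plane. -/
  a' : K
  /-- First generator of the second plane. -/
  c : K
  /-- Second generator of the second plane. -/
  c' : K
  /-- The element of order three. -/
  x : K
  /-- The element inverting it. -/
  y : K

variable {K L : Type*} [Group K] [Group L]

/-- The relations; `τ` tells whether `y` moves the second plane, `κ` is the square of `y`. -/
structure Rel (τ κ : Bool) (g : Tuple K) : Prop where
  ss : g.s * g.s = 1
  sa : g.s * g.a = g.a * g.s
  sa' : g.s * g.a' = g.a' * g.s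
  sc : g.s * g.c = g.c * g.s
  sc' : g.s * g.c' = g.c' * g.s
  sx : g.s * g.x = g.x * g.s
  sy : g.s * g.y = g.y * g.s
  aa : g.a * g.a = 1
  a'a' : g.a' * g.a' = 1
  cc : g.c * g.c = 1
  c'c' : g.c' * g.c' = 1
  aa' : g.a' * g.a = g.a * g.a'
  cc' : g.c' * g.c = g.c * g.c'
  ac : g.c * g.a = g.a * g.c
  a'c' : g.c' * g.a' = g.a' * g.c'
  ac' : g.c' * g.a = g.s * g.a * g.c'
  a'c : g.c * g.a' = g.s * g.a' * g.c
  xxx : g.x * g.x * g.x = 1
  xa : g.x * g.a * g.x⁻¹ = g.a'
  xa' : g.x * g.a' * g.x⁻¹ = g.a * g.a'
  xc : g.x * g.c * g.x⁻¹ = g.c'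
  xc' : g.x * g.c' * g.x⁻¹ = g.c * g.c'
  yy : g.y * g.y = bif κ then g.s else 1
  yx : g.y * g.x * g.y⁻¹ = g.x⁻¹
  ya : g.y * g.a * g.y⁻¹ = g.a
  ya' : g.y * g.a' * g.y⁻¹ = g.a * g.a'
  yc : g.y * g.c * g.y⁻¹ = bif τ then g.s * g.a * g.c else g.c
  yc' : g.y * g.c' * g.y⁻¹ = bif τ then g.s * g.a * g.a' * (g.c * g.c') else g.c * g.c'

namespace Tuple

/-- The extraspecial part. -/
def qSet (g : Tuple K) : Set K := {g.s, g.a, g.a', g.c, g.c'}

/-- The generated subgroup. -/
def gen (g : Tuple K) : Subgroup K := closure {g.s, g.a, g.a', g.c, g.c', g.x, g.y}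

/-- Pairing of two tuples. -/
def prod (g : Tuple K) (h : Tuple L) : Tuple (K × L) :=
  ⟨(g.s, h.s), (g.a, h.a), (g.a', h.a'), (g.c, h.c), (g.c', h.c'), (g.x, h.x), (g.y, h.y)⟩

/-- The image of a tuple. -/
def map (f : K →* L) (g : Tuple K) : Tuple L := ⟨f g.s, f g.a, f g.a', f g.c, f g.c', f g.x, f g.y⟩

theorem gen_map (f : K →* L) (g : Tuple K) : (g.map f).gen = g.gen.map f := by
  rw [gen, gen, MonoidHom.map_closure]
  simp [map, Set.image_insert_eq, Set.image_singleton]

end Tuple

theorem Rel.prod {τ κ : Bool} {g : Tuple K} {h : Tuple L} (hg : Rel τ κ g) (hh : Rel τ κ h) :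
    Rel τ κ (g.prod h) := by
  constructor <;> refine Prod.ext ?_ ?_ <;> simp only [Tuple.prod, Prod.fst_mul, Prod.snd_mul, Prod.fst_inv,
    Prod.snd_inv, Prod.fst_one, Prod.snd_one] <;>
    first
      | exact hg.ss | exact hh.ss | exact hg.sa | exact hh.sa | exact hg.sa' | exact hh.sa' | exact hg.sc
      | exact hh.sc | exact hg.sc' | exact hh.sc' | exact hg.sx | exact hh.sx | exact hg.sy | exact hh.sy
      | exact hg.aa | exact hh.aa | exact hg.a'a' | exact hh.a'a' | exact hg.cc | exact hh.cc | exact hg.c'c'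
      | exact hh.c'c' | exact hg.aa' | exact hh.aa' | exact hg.cc' | exact hh.cc' | exact hg.ac | exact hh.ac
      | exact hg.a'c' | exact hh.a'c' | exact hg.ac' | exact hh.ac' | exact hg.a'c | exact hh.a'c
      | exact hg.xxx | exact hh.xxx | exact hg.xa | exact hh.xa | exact hg.xa' | exact hh.xa'
      | exact hg.xc | exact hh.xc | exact hg.xc' | exact hh.xc' | exact hg.yx | exact hh.yx
      | exact hg.ya | exact hh.ya | exact hg.ya' | exact hh.ya'
      | (have := hg.yy; cases κ <;> simpa using this)
      | (have := hh.yy; cases κ <;> simpa using this)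
      | (have := hg.yc; cases τ <;> simpa using this)
      | (have := hh.yc; cases τ <;> simpa using this)
      | (have := hg.yc'; cases τ <;> simpa using this)
      | (have := hh.yc'; cases τ <;> simpa using this)

/-- The elements after adjoining an element normalising a subgroup. -/
theorem exists_eq_pow_mul [Finite K] (S : Set K) (g : K) (n : ℕ) (hn : 0 < n)
    (hconj : ∀ h ∈ S, g * h * g⁻¹ ∈ closure S) (hpow : g ^ n ∈ closure S) {v : K}
    (hv : v ∈ closure (insert g S)) : ∃ i : Fin n, ∃ h ∈ closure S, g ^ (i : ℕ) * h = v := by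
  classical
  set H := closure S with hH
  have hmap : H.map (MulAut.conj g).toMonoidHom ≤ H := by
    rw [hH, MonoidHom.map_closure, closure_le]
    rintro _ ⟨h, hh, rfl⟩
    exact hconj h hh
  have heq : H.map (MulAut.conj g).toMonoidHom = H := Subgroup.eq_of_le_of_card_ge hmap
    (le_of_eq (Nat.card_congr (Subgroup.equivMapOfInjective H _ (MulAut.conj g).injective).toEquiv))
  have hN : g ∈ normalizer (H : Set K) := mem_normalizer_iff.2 fun h => by
    conv_rhs => rw [← heq]
    exact ⟨fun hh => ⟨h, hh, rfl⟩, fun ⟨k, hk, e⟩ => by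
      simp only [MulEquiv.coe_toMonoidHom, MulAut.conj_apply, mul_left_inj, mul_right_inj] at e
      exact e ▸ hk⟩
  have hle : closure (insert g S) ≤ zpowers g ⊔ H := closure_le _ |>.2 (Set.insert_subset
    (mem_sup_left (mem_zpowers g)) fun h hh => mem_sup_right (subset_closure hh))
  have hv' : v ∈ ((zpowers g ⊔ H : Subgroup K) : Set K) := hle hv
  rw [coe_mul_of_left_le_normalizer_right _ _ (zpowers_le.2 hN)] at hv'
  obtain ⟨p, hp, h, hh, rfl⟩ := hv'
  obtain ⟨m, rfl⟩ := mem_powers_iff_mem_zpowers.2 hp
  refine ⟨⟨m % n, Nat.mod_lt _ hn⟩, (g ^ n) ^ (m / n) * h, H.mul_mem (H.pow_mem hpow _) hh, ?_⟩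
  simp only
  rw [← mul_assoc, ← pow_mul, ← pow_add, Nat.mod_add_div]

/-- Adjoining an element that normalises a subgroup and has a power inside multiplies the order at most by it. -/
theorem card_closure_insert_le [Finite K] (S : Set K) (g : K) (n : ℕ) (hn : 0 < n)
    (hconj : ∀ h ∈ S, g * h * g⁻¹ ∈ closure S) (hpow : g ^ n ∈ closure S) :
    Nat.card (closure (insert g S)) ≤ n * Nat.card (closure S) := by
  classical
  calc Nat.card (closure (insert g S)) ≤ Nat.card (Fin n × closure S) := by
        refine Nat.card_le_card_of_surjective (fun p : Fin n × closure S => (⟨g ^ (p.1 : ℕ) * p.2,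
          mul_mem (pow_mem (subset_closure (Set.mem_insert _ _)) _)
            (closure_mono (Set.subset_insert _ _) p.2.2)⟩ : closure (insert g S))) fun v => ?_
        obtain ⟨i, h, hh, e⟩ := exists_eq_pow_mul S g n hn hconj hpow v.2
        exact ⟨(i, ⟨h, hh⟩), Subtype.ext e⟩
    _ = n * Nat.card (closure S) := by rw [Nat.card_prod, Nat.card_fin]

theorem Rel.card_gen_le [Finite K] {τ κ : Bool} {g : Tuple K} (h : Rel τ κ g) : Nat.card g.gen ≤ 192 := by
  have m : ∀ {S : Set K} {v : K}, v ∈ S → v ∈ closure S := fun h => subset_closure h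
  have conj1 : ∀ {u v : K}, u * v = v * u → u * v * u⁻¹ = v := fun e => by rw [e, mul_inv_cancel_right]
  have h1 : Nat.card (closure ({g.s} : Set K)) ≤ 2 := by
    have := card_closure_insert_le (∅ : Set K) g.s 2 (by norm_num) (fun _ hh => absurd hh (Set.notMem_empty _))
      (by rw [pow_two, h.ss]; exact one_mem _)
    rwa [Subgroup.closure_empty, card_bot, insert_empty_eq, mul_one] at this
  have h2 := card_closure_insert_le ({g.s} : Set K) g.a 2 (by norm_num)
    (by rintro _ rfl; rw [conj1 h.sa.symm]; exact m rfl) (by rw [pow_two, h.aa]; exact one_mem _)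
  have h3 := card_closure_insert_le ({g.a, g.s} : Set K) g.a' 2 (by norm_num)
    (by rintro _ (rfl | rfl)
        · rw [conj1 h.aa']; exact m (by simp)
        · rw [conj1 h.sa'.symm]; exact m (by simp)) (by rw [pow_two, h.a'a']; exact one_mem _)
  have h4 := card_closure_insert_le ({g.a', g.a, g.s} : Set K) g.c 2 (by norm_num)
    (by rintro _ (rfl | rfl | rfl)
        · rw [h.a'c, mul_inv_cancel_right]; exact mul_mem (m (by simp)) (m (by simp))
        · rw [conj1 h.ac]; exact m (by simp)
        · rw [conj1 h.sc.symm]; exact m (by simp)) (by rw [pow_two, h.cc]; exact one_mem _)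
  have h5 := card_closure_insert_le ({g.c, g.a', g.a, g.s} : Set K) g.c' 2 (by norm_num)
    (by rintro _ (rfl | rfl | rfl | rfl)
        · rw [conj1 h.cc']; exact m (by simp)
        · rw [conj1 h.a'c']; exact m (by simp)
        · rw [h.ac', mul_inv_cancel_right]; exact mul_mem (m (by simp)) (m (by simp))
        · rw [conj1 h.sc'.symm]; exact m (by simp)) (by rw [pow_two, h.c'c']; exact one_mem _)
  have h6 := card_closure_insert_le ({g.c', g.c, g.a', g.a, g.s} : Set K) g.x 3 (by norm_num)
    (by rintro _ (rfl | rfl | rfl | rfl | rfl)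
        · rw [h.xc']; exact mul_mem (m (by simp)) (m (by simp))
        · rw [h.xc]; exact m (by simp)
        · rw [h.xa']; exact mul_mem (m (by simp)) (m (by simp))
        · rw [h.xa]; exact m (by simp)
        · rw [conj1 h.sx.symm]; exact m (by simp))
    (by rw [pow_succ, pow_two, h.xxx]; exact one_mem _)
  have h7 := card_closure_insert_le ({g.x, g.c', g.c, g.a', g.a, g.s} : Set K) g.y 2 (by norm_num)
    (by rintro _ (rfl | rfl | rfl | rfl | rfl | rfl)
        · rw [h.yx]; exact inv_mem (m (by simp))
        · rw [h.yc']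
          cases τ <;> simp only [cond_true, cond_false]
          · exact mul_mem (m (by simp)) (m (by simp))
          · exact mul_mem (mul_mem (mul_mem (m (by simp)) (m (by simp))) (m (by simp)))
              (mul_mem (m (by simp)) (m (by simp)))
        · rw [h.yc]
          cases τ <;> simp only [cond_true, cond_false]
          · exact m (by simp)
          · exact mul_mem (mul_mem (m (by simp)) (m (by simp))) (m (by simp))
        · rw [h.ya']; exact mul_mem (m (by simp)) (m (by simp))
        · rw [h.ya]; exact m (by simp)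
        · rw [conj1 h.sy.symm]; exact m (by simp))
    (by rw [pow_two, h.yy]; cases κ <;> simp only [cond_true, cond_false]
        · exact one_mem _
        · exact m (by simp))
  have e : g.gen = closure ({g.y, g.x, g.c', g.c, g.a', g.a, g.s} : Set K) := by
    rw [Tuple.gen]; congr 1; ext v
    simp only [Set.mem_insert_iff, Set.mem_singleton_iff]; tauto
  rw [e]
  omega

/-- Two groups of order 192 generated by tuples with the same relations are isomorphic. -/
theorem exists_equiv [Finite K] [Finite L] {τ κ : Bool} {g : Tuple K} {h : Tuple L} (hg : Rel τ κ g)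
    (hh : Rel τ κ h) (gK : g.gen = ⊤) (hL : h.gen = ⊤) (cK : Nat.card K = 192) (cL : Nat.card L = 192) :
    ∃ f : K ≃* L, g.map f.toMonoidHom = h := by
  set D := (g.prod h).gen with hD
  have hle := (hg.prod hh).card_gen_le
  have hfst : Function.Surjective ((MonoidHom.fst K L).comp D.subtype) := by
    rw [← MonoidHom.range_eq_top, MonoidHom.range_comp, range_subtype, hD, ← Tuple.gen_map]
    exact gK
  have hsnd : Function.Surjective ((MonoidHom.snd K L).comp D.subtype) := by
    rw [← MonoidHom.range_eq_top, MonoidHom.range_comp, range_subtype, hD, ← Tuple.gen_map]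
    exact hL
  have hcard : Nat.card D = 192 := le_antisymm hle (cK ▸ Nat.card_le_card_of_surjective _ hfst)
  let e1 : D ≃* K := MulEquiv.ofBijective _ ((Nat.bijective_iff_surjective_and_card _).2 ⟨hfst, by rw [hcard, cK]⟩)
  let e2 : D ≃* L := MulEquiv.ofBijective _ ((Nat.bijective_iff_surjective_and_card _).2 ⟨hsnd, by rw [hcard, cL]⟩)
  have key : ∀ (u : K) (v : L), (u, v) ∈ D → e1.symm.trans e2 u = v := fun u v huv => by
    rw [MulEquiv.trans_apply, show e1.symm u = ⟨(u, v), huv⟩ from e1.symm_apply_eq.2 rfl]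
    rfl
  refine ⟨e1.symm.trans e2, ?_⟩
  have hm : ∀ {u : K} {v : L}, (u, v) ∈ ({(g.s, h.s), (g.a, h.a), (g.a', h.a'), (g.c, h.c), (g.c', h.c'),
      (g.x, h.x), (g.y, h.y)} : Set (K × L)) → e1.symm.trans e2 u = v := fun hv => key _ _ (subset_closure hv)
  cases g; cases h
  simp only [Tuple.map, Tuple.mk.injEq, MulEquiv.coe_toMonoidHom]
  refine ⟨hm ?_, hm ?_, hm ?_, hm ?_, hm ?_, hm ?_, hm ?_⟩ <;> simp

end CfsgLib.Recognition.ExtraspecialThirtyTwo
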