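import Cfsg.Agent.Lib.Recognition.ExtraspecialThirtyTwo.Transfer
import Cfsg.Agent.Lib.KGroups.M12TwoCentral.Main

/-!
# The centraliser of a 2-central involution in the Mathieu group of degree twelve
-/

set_option autoImplicit false
set_option maxRecDepth 40000
set_option linter.unusedSectionVars false
set_option linter.style.haveILetI false

namespace CfsgLib.Recognition.ExtraspecialThirtyTwo

open Subgroup
open CfsgLib.KGroups.M12TwoCentral (Hyp192)

/-- Generators of the signed permutations of determinant one. -/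
def hypTuple : Tuple Hyp192 := ⟨⟨7⟩, ⟨1⟩, ⟨3⟩, ⟨184⟩, ⟨56⟩, ⟨88⟩, ⟨171⟩⟩

theorem hypTuple_rel : Rel true false hypTuple := by
  constructor <;> refine Hyp192.equivFin.injective (Fin.ext ?_) <;> decide +kernel

theorem exists_gen_check : ((List.range 192).all fun k => (List.range 192).any fun l =>
    Nat.beq
      (CfsgLib.KGroups.M12TwoCentral.mulN
        (CfsgLib.KGroups.M12TwoCentral.mulN
          (List.foldl CfsgLib.KGroups.M12TwoCentral.mulN 0
            [bif Code.bit l 0 then 7 else 0, bif Code.bit l 1 then 1 else 0, bif Code.bit l 2 then 3 else 0,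
              bif Code.bit l 3 then 184 else 0, bif Code.bit l 4 then 56 else 0])
          (List.foldl CfsgLib.KGroups.M12TwoCentral.mulN 0 (List.replicate (l / 32 % 3) 88)))
        (bif Nat.beq (l / 32 / 3) 1 then 171 else 0)) k) = true := by decide +kernel

theorem hypTuple_gen : hypTuple.gen = ⊤ := by
  refine eq_top_iff.2 fun u _ => ?_
  obtain ⟨l, -, e⟩ := List.any_eq_true.1
    (List.all_eq_true.1 exists_gen_check u.code.val (List.mem_range.2 u.code.2))
  have m : ∀ v ∈ ({hypTuple.s, hypTuple.a, hypTuple.a', hypTuple.c, hypTuple.c', hypTuple.x, hypTuple.y} : Set Hyp192),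
      v ∈ hypTuple.gen := fun v hv => subset_closure hv
  have hf : ∀ (L : List Hyp192) (v : Hyp192),
      List.foldl CfsgLib.KGroups.M12TwoCentral.mulN v.code.val (L.map fun w => w.code.val) =
        (L.foldl (· * ·) v).code.val := by
    intro L
    induction L with
    | nil => intro v; rfl
    | cons w L ih => intro v; rw [List.map_cons, List.foldl_cons, List.foldl_cons]; exact ih (v * w)
  have hmem : ∀ (L : List Hyp192) (v : Hyp192), v ∈ hypTuple.gen → (∀ w ∈ L, w ∈ hypTuple.gen) →
      L.foldl (· * ·) v ∈ hypTuple.gen := by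
    intro L
    induction L with
    | nil => exact fun v hv _ => hv
    | cons w L ih => exact fun v hv h => ih _ (mul_mem hv (h w (by simp))) fun z hz => h z (by simp [hz])
  have hsel : ∀ (b : Bool) (v : Hyp192), (bif b then v.code.val else 0) = (bif b then v else 1).code.val :=
    fun b v => by cases b <;> rfl
  have hpw : ∀ (b : Bool) (v : Hyp192), v ∈ hypTuple.gen → (bif b then v else 1) ∈ hypTuple.gen :=
    fun b v hv => by
      cases b
      · exact one_mem _
      · exact hv
  have key : u = (([bif Code.bit l 0 then hypTuple.s else 1, bif Code.bit l 1 then hypTuple.a else 1,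
      bif Code.bit l 2 then hypTuple.a' else 1, bif Code.bit l 3 then hypTuple.c else 1,
      bif Code.bit l 4 then hypTuple.c' else 1].foldl (· * ·) 1) *
      ((List.replicate (l / 32 % 3) hypTuple.x).foldl (· * ·) 1)) *
      (bif Nat.beq (l / 32 / 3) 1 then hypTuple.y else 1) := by
    refine Hyp192.eq_iff.2 ((Nat.eq_of_beq_eq_true e).symm.trans ?_)
    rw [Hyp192.code_mul, Hyp192.code_mul, ← hf, ← hf, List.map_replicate]
    simp only [List.map_cons, List.map_nil, ← hsel]
    rfl
  rw [key]
  refine mul_mem (mul_mem (hmem _ _ (one_mem _) ?_) (hmem _ _ (one_mem _) ?_)) (hpw _ _ (m _ (by simp)))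
  · intro w hw
    simp only [List.mem_cons, List.not_mem_nil, or_false] at hw
    rcases hw with rfl | rfl | rfl | rfl | rfl <;> exact hpw _ _ (m _ (by simp))
  · intro w hw
    rw [(List.mem_replicate.1 hw).2]
    exact m _ (by simp)

theorem Rel.of_injective {K L : Type*} [Group K] [Group L] {τ κ : Bool} {g : Tuple K} (f : K →* L)
    (hf : Function.Injective f) (h : Rel τ κ (g.map f)) : Rel τ κ g := by
  constructor <;> refine hf ?_ <;> simp only [map_mul, map_inv, map_one]
  case yy => have := h.yy; cases κ <;> simpa [Tuple.map] using this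
  case yc => have := h.yc; cases τ <;> simpa [Tuple.map] using this
  case yc' => have := h.yc'; cases τ <;> simpa [Tuple.map] using this
  all_goals first
    | exact h.ss | exact h.sa | exact h.sa' | exact h.sc | exact h.sc' | exact h.sx | exact h.sy | exact h.aa
    | exact h.a'a' | exact h.cc | exact h.c'c' | exact h.aa' | exact h.cc' | exact h.ac | exact h.a'c'
    | exact h.ac' | exact h.a'c | exact h.xxx | exact h.xa | exact h.xa' | exact h.xc | exact h.xc'
    | exact h.yx | exact h.ya | exact h.ya'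

/-- A simple group with this centraliser is the Mathieu group of degree twelve. -/
theorem Setting.isoM12 {G : Type*} [Group G] [Finite G] [IsSimpleGroup G] (S : Setting G true false) :
    Cfsg.Spor.IsoM12 G := by
  set H := centralizer ({S.g.s} : Set G) with hH
  have m : ∀ v ∈ ({S.g.s, S.g.a, S.g.a', S.g.c, S.g.c', S.g.x, S.g.y} : Set G), v ∈ H := fun v hv =>
    hH ▸ S.gen_eq ▸ (subset_closure hv : v ∈ S.g.gen)
  let t : Tuple H := ⟨⟨S.g.s, m _ (by simp)⟩, ⟨S.g.a, m _ (by simp)⟩, ⟨S.g.a', m _ (by simp)⟩,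
    ⟨S.g.c, m _ (by simp)⟩, ⟨S.g.c', m _ (by simp)⟩, ⟨S.g.x, m _ (by simp)⟩, ⟨S.g.y, m _ (by simp)⟩⟩
  have ht : Rel true false t := Rel.of_injective H.subtype Subtype.val_injective S.rel
  have hgen : t.gen = ⊤ := by
    apply Subgroup.map_injective (f := H.subtype) Subtype.val_injective
    rw [← Tuple.gen_map, ← MonoidHom.range_eq_map, H.range_subtype]
    exact S.gen_eq
  obtain ⟨f, -⟩ := exists_equiv hypTuple_rel ht hypTuple_gen hgen Hyp192.card_eq
    (by rw [hH, ← S.gen_eq]; exact S.card)
  exact CfsgLib.KGroups.M12TwoCentral.isoM12_of_equiv S.cent_not_comm S.g.s S.orderOf_s f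

/-- The possibilities. -/
theorem cases_of_setting {G : Type*} [Group G] [Finite G] {τ κ : Bool} (S : Setting G τ κ) :
    (∃ (N : Subgroup G) (_ : N.Normal), IsMulCommutative N ∧ (∀ n ∈ N, n ^ 2 = 1) ∧ Nat.card N = 8 ∧
      Nonempty (G ⧸ N ≃* Matrix.ProjectiveSpecialLinearGroup (Fin 3) (ZMod 2))) ∨
    Cfsg.Spor.IsoM12 G ∨ (IsSimpleGroup G ∧ ¬ IsMulCommutative G ∧ τ = false ∧ κ = false) := by
  by_cases h : ∃ (N : Subgroup G) (_ : N.Normal), IsMulCommutative N ∧ (∀ n ∈ N, n ^ 2 = 1) ∧ Nat.card N = 8 ∧
      Nonempty (G ⧸ N ≃* Matrix.ProjectiveSpecialLinearGroup (Fin 3) (ZMod 2))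
  · exact Or.inl h
  haveI := S.isSimpleGroup_of_not h
  cases κ
  · cases τ
    · exact Or.inr (Or.inr ⟨inferInstance, S.cent_not_comm, rfl, rfl⟩)
    · exact Or.inr (Or.inl S.isoM12)
  · exact (S.not_isSimpleGroup_of_kappa inferInstance).elim

end CfsgLib.Recognition.ExtraspecialThirtyTwo
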