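import Mathlib
import Cfsg.Prelude.Def_Solvable
import Cfsg.Prelude.Def_Transfer
import Cfsg.Agent.Lib.Solvable.Cores
import Cfsg.Agent.Lib.Classical.SLOrders

/-!
# The case `O₂(G) ≠ 1` of an involution with centraliser `2^(1+4).S₃`

The involutions in the centre of `O₂(G)` form a normal four-or-more group inside `Q`; it has order 8,
is self-centralising, and its automorphism group `L₃(2)` is induced by `G`.
-/

set_option autoImplicit false
set_option linter.unusedSectionVars false
set_option linter.style.haveILetI false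
set_option linter.unusedVariables false

namespace CfsgLib.Recognition.ExtraspecialThirtyTwo.NormalCase

open Subgroup
open scoped commutatorElement

variable {G : Type*} [Group G] [Finite G]

/-- In an extraspecial group of order 32 an abelian subgroup has order at most 8. -/
theorem abelian_card_le {P : Type*} [Group P] [Finite P] (hP : Cfsg.IsExtraspecial 2 P)
    (hc : Nat.card P = 32) (K : Subgroup P) (hK : ∀ x ∈ K, ∀ y ∈ K, x * y = y * x) :
    Nat.card K ≤ 8 := by
  obtain ⟨⟨-, -, hcomm⟩, hZ⟩ := hP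
  by_contra hlt
  push Not at hlt
  obtain ⟨k, hk, hkc⟩ := (Nat.dvd_prime_pow Nat.prime_two).1
    (show Nat.card K ∣ 2 ^ 5 by rw [show (2 : ℕ) ^ 5 = 32 from rfl, ← hc]; exact card_subgroup_dvd_card K)
  obtain ⟨q, hq⟩ : ∃ q, q ∉ K := by
    by_contra hall
    push Not at hall
    have h1 : Subgroup.center P = ⊤ := eq_top_iff.2 fun x _ =>
      Subgroup.mem_center_iff.2 fun y => hK y (hall y) x (hall x)
    rw [h1, Subgroup.card_top, hc] at hZ
    omega
  have hk4 : k = 4 := by
    rcases (show k ≤ 3 ∨ k = 4 ∨ k = 5 by omega) with h | h | h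
    · have := Nat.pow_le_pow_right (show 1 ≤ 2 by norm_num) h
      omega
    · exact h
    · exact absurd ((K.eq_top_of_card_eq (by rw [hkc, h, hc]; rfl)) ▸ mem_top q) hq
  have hz : ∀ a : P, ⁅q, a⁆ ∈ Subgroup.center P := fun a =>
    hcomm ▸ commutator_mem_commutator (mem_top _) (mem_top _)
  let f : K →* Subgroup.center P :=
    { toFun := fun a => ⟨⁅q, (a : P)⁆, hz a⟩
      map_one' := Subtype.ext (commutatorElement_one_right q)
      map_mul' := fun a b => Subtype.ext (by
        show ⁅q, (a : P) * b⁆ = ⁅q, (a : P)⁆ * ⁅q, (b : P)⁆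
        calc ⁅q, (a : P) * b⁆ = ⁅q, (a : P)⁆ * ((a : P) * ⁅q, (b : P)⁆ * (a : P)⁻¹) := by
              simp only [commutatorElement_def]; group
          _ = _ := by rw [Subgroup.mem_center_iff.1 (hz b) a, mul_inv_cancel_right]) }
  have hle : f.ker.map K.subtype ≤ Subgroup.center P := by
    rintro _ ⟨a, ha, rfl⟩
    have hcq : q * (a : P) = a * q :=
      commutatorElement_eq_one_iff_mul_comm.1 (congrArg Subtype.val (MonoidHom.mem_ker.1 ha))
    have htop : K ⊔ zpowers q = ⊤ := by
      refine eq_top_of_card_eq _ ?_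
      obtain ⟨m, hm, hmc⟩ := (Nat.dvd_prime_pow Nat.prime_two).1
        (show Nat.card ↥(K ⊔ zpowers q) ∣ 2 ^ 5 by
          rw [show (2 : ℕ) ^ 5 = 32 from rfl, ← hc]; exact card_subgroup_dvd_card _)
      rcases (show m ≤ 4 ∨ m = 5 by omega) with h | h
      · exfalso
        have h1 : K = K ⊔ zpowers q := Subgroup.eq_of_le_of_card_ge le_sup_left
          (by rw [hkc, hmc, hk4]; exact Nat.pow_le_pow_right (by norm_num) h)
        exact hq (h1 ▸ mem_sup_right (mem_zpowers q))
      · rw [hmc, h, hc]; rfl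
    refine Subgroup.mem_center_iff.2 fun y => ?_
    have hsub : K ⊔ zpowers q ≤ centralizer {(a : P)} :=
      sup_le (fun x hx => mem_centralizer_singleton_iff.2 (hK x hx a a.2))
        (zpowers_le.2 (mem_centralizer_singleton_iff.2 hcq))
    exact mem_centralizer_singleton_iff.1 (hsub (htop ▸ mem_top y))
  have h1 := Subgroup.card_le_of_le hle
  rw [card_map_of_injective K.subtype_injective, hZ] at h1
  have h2 : Nat.card f.range ≤ 2 := hZ ▸ Nat.card_le_card_of_injective _ Subtype.val_injective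
  have h3 := f.ker.card_mul_index
  rw [index_ker, hkc, hk4] at h3
  nlinarith

/-- An elementary abelian group of order 8 has automorphism group `PSL₃(2)`. -/
theorem exists_aut_equiv (E : Subgroup G) (hab : ∀ x ∈ E, ∀ y ∈ E, x * y = y * x)
    (hsq : ∀ x ∈ E, x * x = 1) (hE : Nat.card E = 8) :
    ∃ f : MulAut E →* Matrix.ProjectiveSpecialLinearGroup (Fin 3) (ZMod 2), Function.Injective f ∧
      Nat.card (Matrix.ProjectiveSpecialLinearGroup (Fin 3) (ZMod 2)) = 168 := by
  classical
  letI : CommGroup E :=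
    { (inferInstance : Group E) with mul_comm := fun x y => Subtype.ext (hab x x.2 y y.2) }
  letI : Module (ZMod 2) (Additive E) := AddCommGroup.zmodModule fun v => by
    rw [two_nsmul]
    exact congrArg Additive.ofMul (Subtype.ext (hsq v.toMul.1 v.toMul.2) : v.toMul * v.toMul = 1)
  haveI : Finite (Additive E) := Finite.of_equiv _ Additive.ofMul
  have hfr : Module.finrank (ZMod 2) (Additive E) = 3 := by
    have h := Module.natCard_eq_pow_finrank (K := ZMod 2) (V := Additive E)
    rw [show Nat.card (Additive E) = 8 from (Nat.card_congr Additive.toMul).trans hE, Nat.card_zmod] at h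
    exact (Nat.pow_right_injective le_rfl (show 2 ^ 3 = 2 ^ _ from h)).symm
  let bas := Module.finBasisOfFinrankEq (ZMod 2) (Additive E) hfr
  let toLin : MulAut E →* Module.End (ZMod 2) (Additive E) :=
    { toFun := fun e => (AddMonoidHom.toZModLinearMap 2 (MulEquiv.toAdditive e).toAddMonoidHom)
      map_one' := LinearMap.ext fun v => rfl
      map_mul' := fun e e' => LinearMap.ext fun v => rfl }
  let toGL : MulAut E →* Matrix.GeneralLinearGroup (Fin 3) (ZMod 2) :=
    MonoidHom.toHomUnits ((LinearMap.toMatrixAlgEquiv bas).toMulEquiv.toMonoidHom.comp toLin)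
  have hGLinj : Function.Injective toGL := fun e e' h => MulEquiv.ext fun v => by
    have h1 := (LinearMap.toMatrixAlgEquiv bas).injective (congrArg Units.val h)
    exact congrArg Additive.toMul (LinearMap.congr_fun h1 (Additive.ofMul v))
  have hdet : ∀ A : Matrix.GeneralLinearGroup (Fin 3) (ZMod 2),
      (A : Matrix (Fin 3) (Fin 3) (ZMod 2)).det = 1 := fun A => by
    have h01 : ∀ c : ZMod 2, c ≠ 0 → c = 1 := by decide
    exact h01 _ (Matrix.GeneralLinearGroup.det A).ne_zero
  let toSL : Matrix.GeneralLinearGroup (Fin 3) (ZMod 2) →* Matrix.SpecialLinearGroup (Fin 3) (ZMod 2) :=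
    { toFun := fun A => ⟨A, hdet A⟩
      map_one' := rfl
      map_mul' := fun A B => rfl }
  have hcen : Subgroup.center (Matrix.SpecialLinearGroup (Fin 3) (ZMod 2)) = ⊥ := by
    refine (Subgroup.eq_bot_iff_forall _).2 fun A hA => ?_
    obtain ⟨c, hc3, hc⟩ := Matrix.SpecialLinearGroup.mem_center_iff.1 hA
    have h01 : ∀ c : ZMod 2, c ^ 3 = 1 → c = 1 := by decide
    rw [h01 c (by simpa using hc3), map_one] at hc
    exact Subtype.ext hc.symm
  have hπ : Function.Bijective
      (QuotientGroup.mk' (Subgroup.center (Matrix.SpecialLinearGroup (Fin 3) (ZMod 2)))) := by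
    refine ⟨(MonoidHom.ker_eq_bot_iff _).1 ?_, QuotientGroup.mk'_surjective _⟩
    rw [QuotientGroup.ker_mk', hcen]
  refine ⟨(QuotientGroup.mk' _).comp (toSL.comp toGL), hπ.1.comp (fun e e' h => hGLinj ?_), ?_⟩
  · exact Units.ext (congrArg Subtype.val h)
  · refine (Nat.card_eq_of_bijective _ hπ).symm.trans ?_
    have h := CfsgLib.Classical.card_units_mul_card_sl (F := ZMod 2) (n := Fin 3)
    rw [Matrix.card_GL_field, Nat.card_units] at h
    simp [Fin.prod_univ_three] at h
    rwa [Nat.card_eq_fintype_card]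

/-- If `O₂(G) ≠ 1`, then `G` has a normal subgroup of order 8 with quotient `PSL₃(2)`. -/
theorem normal_case (s : G) (hs : orderOf s = 2) (L : Subgroup G)
    (hL : L = Subgroup.centralizer ({s} : Set G)) (Q : Subgroup G)
    (hQ : Q = (Cfsg.pCore 2 L).map L.subtype) (hQex : Cfsg.IsExtraspecial 2 Q)
    (hQcard : Nat.card Q = 32) (e : L ⧸ Cfsg.pCore 2 L ≃* Equiv.Perm (Fin 3)) (X : Sylow 3 L)
    (hCQX : Q ⊓ Subgroup.centralizer (((X : Subgroup L).map L.subtype : Subgroup G) : Set G) =
      Subgroup.zpowers s)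
    (hnwc : ∃ g : G, g * s * g⁻¹ ∈ Q ∧ g * s * g⁻¹ ≠ s) (hO : Cfsg.pCore 2 G ≠ ⊥) :
    ∃ (N : Subgroup G) (hN : N.Normal), IsMulCommutative N ∧ (∀ n ∈ N, n ^ 2 = 1) ∧ Nat.card N = 8 ∧
      Nonempty (G ⧸ N ≃* Matrix.ProjectiveSpecialLinearGroup (Fin 3) (ZMod 2)) := by
  classical
  haveI : Fact (Nat.Prime 2) := ⟨Nat.prime_two⟩
  haveI : Fact (Nat.Prime 3) := ⟨Nat.prime_three⟩
  have hs2 : s * s = 1 := by rw [← pow_two, ← hs, pow_orderOf_eq_one]
  have hs1 : s ≠ 1 := fun h => by rw [h, orderOf_one] at hs; omega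
  have hsL : s ∈ L := by rw [hL]; exact mem_centralizer_singleton_iff.2 rfl
  have hLs : ∀ g ∈ L, g * s = s * g := fun g hg => mem_centralizer_singleton_iff.1 (hL ▸ hg)
  have hLs' : ∀ g, g * s = s * g → g ∈ L := fun g hg => by
    rw [hL]; exact mem_centralizer_singleton_iff.2 hg
  have hQL : Q ≤ L := hQ ▸ map_subtype_le _
  have hQnorm : ∀ g ∈ L, ∀ q ∈ Q, g * q * g⁻¹ ∈ Q := by
    intro g hg q hq
    rw [hQ] at hq ⊢
    obtain ⟨w, hw, rfl⟩ := hq
    exact ⟨⟨g, hg⟩ * w * ⟨g, hg⟩⁻¹, (inferInstance : (Cfsg.pCore 2 L).Normal).conj_mem w hw _, rfl⟩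
  -- normal 2-subgroups of `L` lie in `Q`
  have htwo : ∀ U : Subgroup G, U ≤ L → IsPGroup 2 U → (∀ g ∈ L, ∀ u ∈ U, g * u * g⁻¹ ∈ U) → U ≤ Q := by
    intro U hUL hU hn u hu
    haveI : (U.subgroupOf L).Normal := ⟨fun w hw g => mem_subgroupOf.2 (hn g g.2 w hw)⟩
    rw [hQ]
    exact ⟨⟨u, hUL hu⟩, CfsgLib.Solvable.Cores.le_pCore (hU.of_equiv (subgroupOfEquivOfLe hUL).symm)
      (mem_subgroupOf.2 hu), rfl⟩
  have hzs : ∀ q ∈ Q, (∀ r ∈ Q, q * r = r * q) → q = 1 ∨ q = s := by
    intro q hq hc
    have hsQ : s ∈ Q := (hCQX.ge (mem_zpowers s)).1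
    have hsC : (⟨s, hsQ⟩ : Q) ∈ Subgroup.center Q :=
      Subgroup.mem_center_iff.2 fun r => Subtype.ext (hLs r (hQL r.2))
    haveI := Fintype.ofFinite (Subgroup.center Q)
    by_contra hne
    push Not at hne
    have h3 : 2 < Nat.card (Subgroup.center Q) := by
      rw [Nat.card_eq_fintype_card]
      refine Fintype.two_lt_card_iff.2 ⟨1, ⟨_, hsC⟩,
        ⟨⟨q, hq⟩, Subgroup.mem_center_iff.2 fun r => Subtype.ext (hc r r.2).symm⟩, ?_, ?_, ?_⟩
      · exact fun h => hs1 (congrArg (fun w : Subgroup.center Q => ((w : Q) : G)) h).symm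
      · exact fun h => hne.1 (congrArg (fun w : Subgroup.center Q => ((w : Q) : G)) h).symm
      · exact fun h => hne.2 (congrArg (fun w : Subgroup.center Q => ((w : Q) : G)) h).symm
    have := hQex.2
    omega
  -- the normal elementary abelian subgroup
  set O := Cfsg.pCore 2 G with hOdef
  haveI hOn : O.Normal := inferInstance
  have hO2 : IsPGroup 2 O := CfsgLib.Solvable.Cores.isPGroup_pCore 2
  let E : Subgroup G :=
    { carrier := {x | x ∈ O ∧ (∀ y ∈ O, x * y = y * x) ∧ x * x = 1}
      one_mem' := ⟨one_mem _, fun y _ => by rw [one_mul, mul_one], one_mul 1⟩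
      mul_mem' := fun {x y} hx hy => by
        refine ⟨mul_mem hx.1 hy.1, fun w hw => ?_, ?_⟩
        · rw [mul_assoc, hy.2.1 w hw, ← mul_assoc, hx.2.1 w hw, mul_assoc]
        · calc x * y * (x * y) = x * (y * x) * y := by group
            _ = x * (x * y) * y := by rw [hx.2.1 y hy.1]
            _ = x * x * (y * y) := by group
            _ = 1 := by rw [hx.2.2, hy.2.2, one_mul]
      inv_mem' := fun {x} hx => by
        rw [inv_eq_of_mul_eq_one_right hx.2.2]; exact hx }
  haveI hEn : E.Normal := ⟨fun x hx g => by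
    refine ⟨hOn.conj_mem x hx.1 g, fun y hy => ?_, ?_⟩
    · have h1 := hx.2.1 _ (hOn.conj_mem y hy g⁻¹)
      rw [inv_inv] at h1
      calc g * x * g⁻¹ * y = g * (x * (g⁻¹ * y * g)) * g⁻¹ := by group
        _ = g * ((g⁻¹ * y * g) * x) * g⁻¹ := by rw [h1]
        _ = y * (g * x * g⁻¹) := by group
    · calc g * x * g⁻¹ * (g * x * g⁻¹) = g * (x * x) * g⁻¹ := by group
        _ = 1 := by rw [hx.2.2]; group⟩
  have hEab : ∀ x ∈ E, ∀ y ∈ E, x * y = y * x := fun x hx y hy => hx.2.1 y hy.1
  have hEsq : ∀ x ∈ E, x * x = 1 := fun x hx => hx.2.2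
  have hE2 : IsPGroup 2 E := fun x => ⟨1, Subtype.ext (by
    show (x : G) ^ 2 ^ 1 = 1
    rw [pow_one, pow_two]; exact hEsq x x.2)⟩
  have hsE : s ∈ E := by
    have hone : 1 < Nat.card E := by
      refine Finite.one_lt_card_iff_nontrivial.2 ?_
      haveI : Nontrivial O := (nontrivial_iff_ne_bot O).2 hO
      haveI := hO2.center_nontrivial
      obtain ⟨n, hn⟩ := exists_prime_orderOf_dvd_card' (G := Subgroup.center O) 2
        (by
          obtain ⟨k, hk⟩ := (hO2.to_subgroup (Subgroup.center O)).exists_card_eq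
          rw [hk]
          refine dvd_pow_self 2 fun h0 => ?_
          rw [h0, pow_zero] at hk
          exact absurd hk (Finite.one_lt_card).ne')
      refine ⟨⟨⟨((n : O) : G), (n : O).2, fun y hy => ?_, ?_⟩, 1, fun h => ?_⟩⟩
      · exact (congrArg Subtype.val (Subgroup.mem_center_iff.1 n.2 ⟨y, hy⟩)).symm
      · have := pow_orderOf_eq_one n
        rw [hn, pow_two] at this
        exact congrArg (fun w : Subgroup.center O => ((w : O) : G)) this
      · have h1 : n = 1 := Subtype.ext (Subtype.ext (congrArg (fun w : E => (w : G)) h))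
        rw [h1, orderOf_one] at hn
        omega
    -- an element of `E` fixed by `s`
    letI : MulAction (zpowers s) E :=
      { smul := fun g x => ⟨(g : G) * x * (g : G)⁻¹, hEn.conj_mem x x.2 g⟩
        one_smul := fun x => Subtype.ext (by show (1 : G) * x * (1 : G)⁻¹ = x; simp)
        mul_smul := fun g g' x => Subtype.ext (by
          show ((g : G) * g') * x * ((g : G) * g')⁻¹ = g * (g' * x * (g' : G)⁻¹) * (g : G)⁻¹
          group) }
    have hz2 : IsPGroup 2 (zpowers s) := IsPGroup.of_card (n := 1) (by rw [Nat.card_zpowers, hs, pow_one])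
    have hdvd : 2 ∣ Nat.card E := by
      obtain ⟨k, hk⟩ := hE2.exists_card_eq
      rw [hk]
      exact dvd_pow_self 2 fun h0 => by rw [h0, pow_zero] at hk; omega
    obtain ⟨u, hu, hu1⟩ := hz2.exists_fixed_point_of_prime_dvd_card_of_fixed_point E hdvd
      (a := 1) (fun g => Subtype.ext (by show (g : G) * (1 : G) * (g : G)⁻¹ = 1; simp))
    have hus : (u : G) * s = s * u := by
      have := congrArg Subtype.val (hu ⟨s, mem_zpowers s⟩)
      exact (mul_inv_eq_iff_eq_mul.1 this).symm
    have hQe : E ⊓ L ≤ Q := htwo _ inf_le_right (hE2.to_le inf_le_left) fun g hg w hw =>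
      ⟨hEn.conj_mem w hw.1 g, (mul_mem (mul_mem hg hw.2) (inv_mem hg) : g * w * g⁻¹ ∈ L)⟩
    by_contra hsE
    -- `E ⊓ L` is a nontrivial normal subgroup of `L` in `Q`, so contains `s`
    haveI := hQex.1.1
    let U : Subgroup Q := (E ⊓ L).subgroupOf Q
    haveI : U.Normal := ⟨fun w hw q => mem_subgroupOf.2
      ⟨hEn.conj_mem _ (mem_subgroupOf.1 hw).1 _,
        (mul_mem (mul_mem (hQL q.2) (mem_subgroupOf.1 hw).2) (inv_mem (hQL q.2)) :
          (q : G) * (w : G) * (q : G)⁻¹ ∈ L)⟩⟩
    have hUne : U ≠ ⊥ := fun h => hu1 (Subtype.ext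
      (congrArg Subtype.val ((Subgroup.eq_bot_iff_forall U).1 h ⟨u, hQe ⟨u.2, hLs' _ hus⟩⟩
        (mem_subgroupOf.2 ⟨u.2, hLs' _ hus⟩))).symm)
    obtain ⟨w, hw, hwc, hw1⟩ : ∃ w : Q, w ∈ U ∧ w ∈ Subgroup.center Q ∧ w ≠ 1 := by
      haveI : Nontrivial U := (nontrivial_iff_ne_bot U).2 hUne
      have hU2 : 2 ∣ Nat.card U := by
        obtain ⟨k, hk⟩ := (hQex.1.1.to_subgroup U).exists_card_eq
        rw [hk]
        exact dvd_pow_self 2 fun h0 => by
          rw [h0, pow_zero] at hk; exact (Finite.one_lt_card).ne' hk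
      letI : MulAction Q U := MulAction.compHom U (MulAut.conjNormal (H := U))
      obtain ⟨w, hw, hw1⟩ := hQex.1.1.exists_fixed_point_of_prime_dvd_card_of_fixed_point U hU2
        (a := 1) (fun g => map_one (MulAut.conjNormal (H := U) g))
      refine ⟨w, w.2, Subgroup.mem_center_iff.2 fun q => ?_, fun h => hw1 (Subtype.ext h).symm⟩
      have := congrArg Subtype.val (hw q)
      exact mul_inv_eq_iff_eq_mul.1 ((MulAut.conjNormal_apply q w).symm.trans this)
    rcases hzs w w.2 (fun r hr => (congrArg Subtype.val (Subgroup.mem_center_iff.1 hwc ⟨r, hr⟩)).symm) with h | h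
    · exact hw1 (Subtype.ext h)
    · exact hsE (h ▸ (mem_subgroupOf.1 hw).1)
  have hEL : E ≤ L := fun x hx => hLs' x (hEab x hx s hsE)
  have hEQ : E ≤ Q := htwo E hEL hE2 fun g _ u hu => hEn.conj_mem u hu g
  obtain ⟨g₀, -, hg₀⟩ := hnwc
  -- the conjugate of `s` in `E`
  have ht : g₀ * s * g₀⁻¹ ∈ E := hEn.conj_mem s hsE g₀
  have hfix3 : ∀ t ∈ E, (∀ x ∈ (X : Subgroup L).map L.subtype, x * t = t * x) → t = 1 ∨ t = s := by
    intro t ht hc
    have h1 : t ∈ zpowers s := hCQX ▸ ⟨hEQ ht, mem_centralizer_iff.2 hc⟩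
    obtain ⟨n, rfl⟩ := mem_zpowers_iff.1 h1
    rw [zpow_eq_zpow_emod n (show s ^ (2 : ℤ) = 1 by rw [zpow_two]; exact hs2)]
    rcases (show n % 2 = 0 ∨ n % 2 = 1 by omega) with h | h <;> simp [h]
  -- the index
  letI : MulAction G E := MulAction.compHom E (MulAut.conjNormal (H := E))
  have hsmul : ∀ (g : G) (u : E), ((g • u : E) : G) = g * u * g⁻¹ := fun g u => MulAut.conjNormal_apply g u
  set s' : E := ⟨s, hsE⟩ with hs'
  have hstab : MulAction.stabilizer G s' = L := by
    ext g
    rw [MulAction.mem_stabilizer_iff, Subtype.ext_iff, hsmul, hs', mul_inv_eq_iff_eq_mul]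
    exact ⟨hLs' g, hLs g⟩
  set t : E := ⟨g₀ * s * g₀⁻¹, ht⟩ with htdef
  have ht1 : (t : G) ≠ 1 := fun h => hs1 (conj_eq_one_iff.1 h)
  set T := MulAction.orbit L t with hT
  have hTcard : 6 ∣ T.ncard := by
    rw [← MulAction.index_stabilizer]
    refine Nat.Coprime.mul_dvd_of_dvd_of_dvd (show Nat.Coprime 2 3 by norm_num) ?_ ?_
    · by_contra hodd
      set St := MulAction.stabilizer L t
      obtain ⟨S⟩ : Nonempty (Sylow 2 St) := inferInstance
      have hSy : ¬ 2 ∣ ((S : Subgroup St).map St.subtype).index := by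
        rw [Subgroup.index_map_of_injective _ St.subtype_injective]
        exact Nat.Prime.not_dvd_mul Nat.prime_two S.not_dvd_index (by rwa [Subgroup.range_subtype])
      let S' := (S.isPGroup'.map St.subtype).toSylow hSy
      have hQS : Cfsg.pCore 2 L ≤ (S' : Subgroup L) := by
        haveI : (Cfsg.pCore 2 L).Normal := inferInstance
        have hp : IsPGroup 2 ↥(Cfsg.pCore 2 L ⊔ (S' : Subgroup L)) :=
          (CfsgLib.Solvable.Cores.isPGroup_pCore 2).to_sup_of_normal_left' S'.isPGroup'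
            (by rw [Subgroup.normalizer_eq_top]; exact le_top)
        exact le_sup_left.trans (S'.is_maximal' hp le_sup_right).le
      have hfixQ : ∀ q ∈ Q, (t : G) * q = q * t := fun q hq => by
        rw [hQ] at hq
        obtain ⟨w, hw, rfl⟩ := hq
        obtain ⟨w', -, rfl⟩ := hQS hw
        have := congrArg Subtype.val (MulAction.mem_stabilizer_iff.1 w'.2)
        exact (mul_inv_eq_iff_eq_mul.1 ((hsmul _ _).symm.trans this)).symm
      exact (hzs t (hEQ t.2) hfixQ).elim ht1 hg₀
    · by_contra h3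
      set St := MulAction.stabilizer L t
      obtain ⟨S⟩ : Nonempty (Sylow 3 St) := inferInstance
      have hSy : ¬ 3 ∣ ((S : Subgroup St).map St.subtype).index := by
        rw [Subgroup.index_map_of_injective _ St.subtype_injective]
        exact Nat.Prime.not_dvd_mul Nat.prime_three S.not_dvd_index (by rwa [Subgroup.range_subtype])
      let S' := (S.isPGroup'.map St.subtype).toSylow hSy
      obtain ⟨c, hc⟩ := MulAction.exists_smul_eq L X S'
      have hmem : ∀ x ∈ (X : Subgroup L), c * x * c⁻¹ ∈ St := fun x hx => by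
        have : (MulAut.conj c).toMonoidHom x ∈ (S' : Subgroup L) := by
          rw [← hc]; exact mem_map_of_mem _ hx
        obtain ⟨w, -, hw⟩ := this
        have hw' : (w : L) = c * x * c⁻¹ := hw
        exact hw' ▸ w.2
      have hcf : ∀ x ∈ (X : Subgroup L).map L.subtype,
          x * ((c : G)⁻¹ * t * c) = (c : G)⁻¹ * t * c * x := by
        rintro _ ⟨x, hx, rfl⟩
        have := congrArg Subtype.val (MulAction.mem_stabilizer_iff.1 (hmem x hx))
        have h1 : ((c * x * c⁻¹ : L) : G) * t = t * ((c * x * c⁻¹ : L) : G) :=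
          mul_inv_eq_iff_eq_mul.1 ((hsmul _ _).symm.trans this)
        simp only [Subgroup.coe_mul, Subgroup.coe_inv] at h1
        calc (x : G) * ((c : G)⁻¹ * t * c) = (c : G)⁻¹ * ((c : G) * x * (c : G)⁻¹ * t) * c := by group
          _ = (c : G)⁻¹ * (t * ((c : G) * x * (c : G)⁻¹)) * c := by rw [h1]
          _ = (c : G)⁻¹ * t * c * (x : G) := by group
      have hcE : (c : G)⁻¹ * t * c ∈ E := by
        have := hEn.conj_mem _ t.2 (c : G)⁻¹
        rwa [inv_inv] at this
      rcases hfix3 _ hcE hcf with h | h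
      · refine ht1 ?_
        calc (t : G) = c * ((c : G)⁻¹ * t * c) * (c : G)⁻¹ := by group
          _ = 1 := by rw [h]; group
      · refine hg₀ ?_
        calc (t : G) = c * ((c : G)⁻¹ * t * c) * (c : G)⁻¹ := by group
          _ = s := by rw [h, hLs c c.2, mul_inv_cancel_right]
  have hsT : s' ∉ T := by
    rintro ⟨c, hc⟩
    have h1 := congrArg Subtype.val hc
    rw [show ((c • t : E) : G) = (c : G) * t * (c : G)⁻¹ from hsmul (c : G) t] at h1
    refine hg₀ ?_
    calc (t : G) = (c : G)⁻¹ * ((c : G) * t * (c : G)⁻¹) * c := by group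
      _ = (c : G)⁻¹ * s * c := by rw [h1]
      _ = s := by rw [mul_assoc, ← hLs c c.2, inv_mul_cancel_left]
  have hEle : Nat.card E ≤ 8 := by
    rw [← Nat.card_congr (subgroupOfEquivOfLe hEQ).toEquiv]
    exact abelian_card_le hQex hQcard _ fun x hx y hy => Subtype.ext (hEab x hx y hy)
  have horb : insert s' T ⊆ MulAction.orbit G s' := by
    rw [Set.insert_subset_iff]
    refine ⟨MulAction.mem_orbit_self _, ?_⟩
    rintro _ ⟨c, rfl⟩
    exact ⟨(c : G) * g₀, Subtype.ext (by
      show (((c : G) * g₀) • s' : E).1 = ((c : G) • t : E).1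
      rw [hsmul, hsmul, hs', htdef]; group)⟩
  have horb1 : MulAction.orbit G s' ⊆ ({1}ᶜ : Set E) := by
    rintro _ ⟨g, rfl⟩ h
    exact hs1 (conj_eq_one_iff.1 ((hsmul g s').symm.trans (congrArg Subtype.val h)))
  have h7 : (insert s' T).ncard ≤ (MulAction.orbit G s').ncard := Set.ncard_le_ncard horb (Set.toFinite _)
  rw [Set.ncard_insert_of_notMem hsT (Set.toFinite _)] at h7
  have h8 := Set.ncard_le_ncard horb1 (Set.toFinite _)
  rw [Set.ncard_compl, Set.ncard_singleton] at h8
  have hT6 : 6 ≤ T.ncard := Nat.le_of_dvd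
    ((Set.ncard_pos (Set.toFinite _)).2 ⟨t, MulAction.mem_orbit_self t⟩) hTcard
  have hEcard : Nat.card E = 8 := by
    obtain ⟨k, hk⟩ := hE2.exists_card_eq
    rcases (show k ≤ 2 ∨ k = 3 ∨ 4 ≤ k by omega) with h | h | h
    · have := Nat.pow_le_pow_right (show 1 ≤ 2 by norm_num) h
      omega
    · rw [hk, h]; rfl
    · have := Nat.pow_le_pow_right (show 1 ≤ 2 by norm_num) h
      omega
  have hindex : L.index = 7 := by
    rw [← hstab, MulAction.index_stabilizer]
    omega
  have hLcard : Nat.card L = 192 := by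
    rw [← (Cfsg.pCore 2 L).card_mul_index]
    rw [← card_map_of_injective L.subtype_injective, ← hQ, hQcard, index_eq_card,
      Nat.card_congr e.toEquiv, Nat.card_perm, Nat.card_fin]
    rfl
  -- the centraliser
  have hCE : (MulAut.conjNormal (H := E)).ker = E := by
    refine le_antisymm (fun g hg => ?_) (fun g hg => MulEquiv.ext fun u => Subtype.ext ?_)
    swap
    · rw [MulAut.conjNormal_apply]
      exact mul_inv_eq_iff_eq_mul.2 (hEab g hg u u.2)
    have hgc : ∀ (w : G), w ∈ (MulAut.conjNormal (H := E)).ker → ∀ u ∈ E, w * u = u * w := by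
      intro w hw u hu
      have := congrArg Subtype.val (DFunLike.congr_fun (MonoidHom.mem_ker.1 hw) (⟨u, hu⟩ : E))
      rw [MulAut.conjNormal_apply] at this
      exact mul_inv_eq_iff_eq_mul.1 this
    set C := (MulAut.conjNormal (H := E)).ker with hC
    have hCL : C ≤ L := fun w hw => hLs' w (hgc w hw s hsE)
    have hC3 : ¬ 3 ∣ Nat.card C := by
      intro h3
      obtain ⟨w, hw⟩ := exists_prime_orderOf_dvd_card' 3 h3
      set wL : L := ⟨w, hCL w.2⟩ with hwL
      have hwo : orderOf wL = 3 := by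
        rw [← Subgroup.orderOf_coe, hwL]
        show orderOf (w : G) = 3
        rw [Subgroup.orderOf_coe, hw]
      have hindex3 : ¬ 3 ∣ (zpowers wL).index := by
        intro hd
        have h1 := (zpowers wL).card_mul_index
        rw [Nat.card_zpowers, hwo, hLcard] at h1
        omega
      let P : Sylow 3 L := (IsPGroup.of_card (n := 1) (by rw [Nat.card_zpowers, hwo, pow_one])).toSylow hindex3
      obtain ⟨c, hc⟩ := MulAction.exists_smul_eq L P X
      rcases hfix3 (g₀ * s * g₀⁻¹) ht (fun x hx => by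
        obtain ⟨x', hx', rfl⟩ := hx
        rw [← hc] at hx'
        obtain ⟨w', hw', rfl⟩ := hx'
        obtain ⟨n, rfl⟩ := mem_zpowers_iff.1 (show w' ∈ zpowers wL from hw')
        refine hgc _ ?_ _ ht
        have hn : (w : G) ^ n ∈ C := zpow_mem w.2 n
        have := (MonoidHom.normal_ker (MulAut.conjNormal (H := E))).conj_mem _ hn (c : G)
        show (c : G) * ((wL ^ n : L) : G) * (c : G)⁻¹ ∈ C
        rw [Subgroup.coe_zpow]
        exact this) with h | h
      · exact ht1 h
      · exact hg₀ h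
    have hC2 : IsPGroup 2 C := by
      obtain ⟨m, hm⟩ : Nat.card C ∣ 192 := hLcard ▸ card_dvd_of_le hCL
      have hd : Nat.card C ∣ 64 := by
        have h3 : (Nat.card C).Coprime 3 := (Nat.prime_three.coprime_iff_not_dvd.2 hC3).symm
        exact h3.dvd_of_dvd_mul_left (show Nat.card C ∣ 3 * 64 from ⟨m, hm⟩)
      obtain ⟨j, -, hj⟩ := (Nat.dvd_prime_pow Nat.prime_two).1 (show Nat.card C ∣ 2 ^ 6 from hd)
      exact IsPGroup.of_card hj
    have hCQ : C ≤ Q := htwo C hCL hC2 fun h _ w hw =>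
      (MonoidHom.normal_ker _).conj_mem w hw h
    by_contra hgE
    let K : Subgroup G := closure (insert g (E : Set G))
    have hKQ : K ≤ Q := (closure_le _).2 (Set.insert_subset (hCQ hg) hEQ)
    have hKc : ∀ x ∈ K, ∀ y ∈ K, x * y = y * x := by
      have hgen : ∀ x ∈ insert g (E : Set G), ∀ y ∈ insert g (E : Set G), x * y = y * x := by
        intro x hx y hy
        rcases hx with rfl | hx <;> rcases hy with rfl | hy
        · rfl
        · exact hgc _ hg y hy
        · exact (hgc _ hg x hx).symm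
        · exact hEab x hx y hy
      intro x hx y hy
      exact congrArg Subtype.val
        ((Subgroup.isMulCommutative_closure hgen).is_comm.comm (⟨x, hx⟩ : K) ⟨y, hy⟩)
    have h1 := abelian_card_le hQex hQcard (K.subgroupOf Q) fun x hx y hy => Subtype.ext (hKc x hx y hy)
    rw [Nat.card_congr (subgroupOfEquivOfLe hKQ).toEquiv] at h1
    have h2 : E = K := Subgroup.eq_of_le_of_card_ge
      (fun x hx => subset_closure (Set.mem_insert_of_mem _ hx)) (by omega)
    exact hgE (h2 ▸ subset_closure (Set.mem_insert _ _))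
  refine ⟨E, hEn, ⟨⟨fun x y => Subtype.ext (hEab x x.2 y y.2)⟩⟩,
    fun n hn => by rw [pow_two]; exact hEsq n hn, hEcard, ?_⟩
  obtain ⟨f, hf, hcard⟩ := exists_aut_equiv E hEab hEsq hEcard
  let φ : G ⧸ E →* Matrix.ProjectiveSpecialLinearGroup (Fin 3) (ZMod 2) :=
    f.comp (QuotientGroup.lift E (MulAut.conjNormal (H := E)) hCE.ge)
  have hφ : Function.Injective φ := by
    refine hf.comp ((injective_iff_map_eq_one _).2 fun x => QuotientGroup.induction_on x fun w hw => ?_)
    exact (QuotientGroup.eq_one_iff w).2 (hCE.le (MonoidHom.mem_ker.2 hw))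
  have hGcard : Nat.card (G ⧸ E) = 168 := by
    have h1 := L.card_mul_index
    rw [hLcard, hindex] at h1
    have h2 := E.card_mul_index
    rw [hEcard, ← h1, index_eq_card] at h2
    omega
  exact ⟨MulEquiv.ofBijective φ ((Nat.bijective_iff_injective_and_card φ).2 ⟨hφ, hGcard.trans hcard.symm⟩)⟩

end CfsgLib.Recognition.ExtraspecialThirtyTwo.NormalCase
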