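import Cfsg.Agent.Lib.Recognition.ExtraspecialThirtyTwo.Setting
import Cfsg.Agent.Lib.Classical.SLBasic
import Cfsg.Agent.Lib.Sporadic.LargeFischer.EightQuot

/-!
# The elementary subgroups of order eight of `Q` and a Sylow 2-subgroup
-/

set_option autoImplicit false
set_option maxRecDepth 40000
set_option linter.unusedSectionVars false
set_option linter.style.haveILetI false

namespace CfsgLib.Recognition.ExtraspecialThirtyTwo

open Subgroup

namespace Code

/-- The three singular planes. -/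
def planes : List (List ℕ) :=
  [[0, 1, 2, 3, 4, 5, 6, 7], [0, 1, 8, 9, 16, 17, 24, 25], [0, 1, 10, 11, 20, 21, 30, 31]]

/-- Whether a list of codes is invariant under the group. -/
def okPlane (τ κ : Bool) (P : List ℕ) : Bool :=
  (List.range 192).all fun a => P.all fun p => P.any fun q => Nat.beq (conjC τ κ a p) q

/-- The codes of the Sylow 2-subgroup. -/
def inSyl (k : ℕ) : Bool := Nat.beq (k / 32 % 3) 0

theorem planes_closed : ∀ τ κ : Bool, ∀ P ∈ planes, P.length = 8 ∧ P.Nodup ∧ 1 ∈ P ∧ 0 ∈ P ∧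
    (∀ p ∈ P, p < 32 ∧ mulC τ κ p p = 0 ∧ invC τ κ p = p) ∧
    ∀ p ∈ P, ∀ q ∈ P, mulC τ κ p q ∈ P ∧ mulC τ κ p q = mulC τ κ q p := by decide +kernel

theorem planes_selfCent : ∀ τ κ : Bool, ∀ P ∈ planes, ∀ k < 192,
    (P.all fun p => commC τ κ k p) = true → k ∈ P := by decide +kernel

theorem syl_closed : ∀ τ κ : Bool, ((List.range 192).all fun k => (List.range 192).all fun l =>
    !(inSyl k && inSyl l) || inSyl (mulC τ κ k l)) = true := by decide +kernel

theorem syl_inv : ∀ τ κ : Bool, ∀ k < 192, inSyl k = true → inSyl (invC τ κ k) = true := by decide +kernel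

theorem syl_centre : ∀ τ κ : Bool, ∀ k < 192,
    (inSyl k && commC τ κ k 2 && commC τ κ k 8 && commC τ κ k 4 && commC τ κ k 16) = true → k = 0 ∨ k = 1 := by
  decide +kernel

end Code

namespace Setting

variable {G : Type*} [Group G] {τ κ : Bool} (S : Setting G τ κ)

/-- The subgroup of a plane. -/
def plane (P : List ℕ) (hP : P ∈ Code.planes) : Subgroup G where
  carrier := {u | ∃ p ∈ P, S.el p = u}
  one_mem' := ⟨0, (Code.planes_closed τ κ P hP).2.2.2.1, S.el_zero⟩
  mul_mem' := by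
    rintro _ _ ⟨p, hp, rfl⟩ ⟨q, hq, rfl⟩
    obtain ⟨-, -, -, -, h, h'⟩ := Code.planes_closed τ κ P hP
    exact ⟨_, (h' p hp q hq).1, S.el_mul (by have := (h p hp).1; omega) (by have := (h q hq).1; omega)⟩
  inv_mem' := by
    rintro _ ⟨p, hp, rfl⟩
    obtain ⟨-, -, -, -, h, -⟩ := Code.planes_closed τ κ P hP
    refine ⟨p, hp, ?_⟩
    rw [← S.el_invC (by have := (h p hp).1; omega), (h p hp).2.2]

variable {P : List ℕ} (hP : P ∈ Code.planes)

theorem mem_plane {u : G} : u ∈ S.plane P hP ↔ ∃ p ∈ P, S.el p = u := Iff.rfl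

theorem s_mem_plane : S.s ∈ S.plane P hP := ⟨1, (Code.planes_closed τ κ P hP).2.2.1, S.el_one⟩

theorem el_mem_plane_iff {k : ℕ} (hk : k < 192) : S.el k ∈ S.plane P hP ↔ k ∈ P := by
  refine ⟨fun ⟨p, hp, e⟩ => ?_, fun h => ⟨k, h, rfl⟩⟩
  have := ((Code.planes_closed τ κ P hP).2.2.2.2.1 p hp).1
  exact (S.el_inj (by omega) hk).1 e ▸ hp

theorem plane_le : S.plane P hP ≤ centralizer ({S.s} : Set G) := by
  rintro _ ⟨p, hp, rfl⟩
  exact S.el_mem (by have := ((Code.planes_closed τ κ P hP).2.2.2.2.1 p hp).1; omega)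

theorem plane_comm {u v : G} (hu : u ∈ S.plane P hP) (hv : v ∈ S.plane P hP) : u * v = v * u := by
  obtain ⟨p, hp, rfl⟩ := hu
  obtain ⟨q, hq, rfl⟩ := hv
  obtain ⟨-, -, -, -, h, h'⟩ := Code.planes_closed τ κ P hP
  have hp' := (h p hp).1
  have hq' := (h q hq).1
  rw [← S.el_mul (by omega) (by omega), ← S.el_mul (by omega) (by omega), (h' p hp q hq).2]

theorem plane_sq {u : G} (hu : u ∈ S.plane P hP) : u * u = 1 := by
  obtain ⟨p, hp, rfl⟩ := hu
  obtain ⟨-, -, -, -, h, -⟩ := Code.planes_closed τ κ P hP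
  rw [← S.el_mul (by have := (h p hp).1; omega) (by have := (h p hp).1; omega), (h p hp).2.1, S.el_zero]

theorem card_plane : Nat.card (S.plane P hP) = 8 := by
  classical
  obtain ⟨hlen, hnd, -, -, h, -⟩ := Code.planes_closed τ κ P hP
  let f : {p // p ∈ P.toFinset} → S.plane P hP := fun p => ⟨S.el p.1, p.1, List.mem_toFinset.1 p.2, rfl⟩
  have hf : Function.Bijective f := by
    refine ⟨fun p q e => Subtype.ext ?_, ?_⟩
    · exact (S.el_inj (by have := (h p.1 (List.mem_toFinset.1 p.2)).1; omega)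
        (by have := (h q.1 (List.mem_toFinset.1 q.2)).1; omega)).1 (congrArg Subtype.val e)
    · rintro ⟨_, p, hp, rfl⟩
      exact ⟨⟨p, List.mem_toFinset.2 hp⟩, rfl⟩
  rw [← Nat.card_congr (Equiv.ofBijective f hf), Nat.card_eq_fintype_card, Fintype.card_coe,
    List.toFinset_card_of_nodup hnd, hlen]

theorem isPGroup_plane : IsPGroup 2 (S.plane P hP) := IsPGroup.of_card (n := 3) (by rw [S.card_plane]; norm_num)

theorem centralizer_plane : centralizer (S.plane P hP : Set G) = S.plane P hP := by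
  refine le_antisymm (fun u hu => ?_) fun u hu => mem_centralizer_iff.2 fun v hv => S.plane_comm hP hv hu
  obtain ⟨k, hk, rfl⟩ := S.exists_el ((mem_centralizer_iff.1 hu S.s (S.s_mem_plane hP)).symm :)
  refine (S.el_mem_plane_iff hP hk).2 (Code.planes_selfCent τ κ P hP k hk (List.all_eq_true.2 fun p hp => ?_))
  have := ((Code.planes_closed τ κ P hP).2.2.2.2.1 p hp).1
  exact (S.commute_el_iff hk (by omega)).1
    (mem_centralizer_iff.1 hu _ ((S.el_mem_plane_iff hP (by omega)).2 hp)).symm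

theorem conj_mem_plane (hok : Code.okPlane τ κ P = true) {a : G} (ha : Commute a S.s) {u : G}
    (hu : u ∈ S.plane P hP) : a * u * a⁻¹ ∈ S.plane P hP := by
  obtain ⟨p, hp, rfl⟩ := hu
  obtain ⟨k, hk, rfl⟩ := S.exists_el ha
  obtain ⟨q, hq, e⟩ := List.any_eq_true.1 (List.all_eq_true.1 (List.all_eq_true.1 hok k (List.mem_range.2 hk)) p hp)
  refine ⟨q, hq, ?_⟩
  have := ((Code.planes_closed τ κ P hP).2.2.2.2.1 p hp).1
  rw [← Nat.eq_of_beq_eq_true e, S.el_conjC hk (by omega)]

/-- The Sylow 2-subgroup. -/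
def syl : Subgroup G where
  carrier := {u | ∃ k < 192, Code.inSyl k = true ∧ S.el k = u}
  one_mem' := ⟨0, by norm_num, rfl, S.el_zero⟩
  mul_mem' := by
    rintro _ _ ⟨k, hk, hk', rfl⟩ ⟨l, hl, hl', rfl⟩
    refine ⟨_, Code.mulC_lt τ κ k hk l hl, ?_, S.el_mul hk hl⟩
    have := List.all_eq_true.1 (List.all_eq_true.1 (Code.syl_closed τ κ) k (List.mem_range.2 hk)) l
      (List.mem_range.2 hl)
    simpa [hk', hl'] using this
  inv_mem' := by
    rintro _ ⟨k, hk, hk', rfl⟩
    exact ⟨_, (Code.invC_check τ κ k hk).1, Code.syl_inv τ κ k hk hk', S.el_invC hk⟩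

theorem el_mem_syl_iff {k : ℕ} (hk : k < 192) : S.el k ∈ S.syl ↔ Code.inSyl k = true := by
  refine ⟨fun ⟨l, hl, h, e⟩ => ?_, fun h => ⟨k, hk, h, rfl⟩⟩
  rw [(S.el_inj hl hk).1 e] at h
  exact h

theorem syl_le : S.syl ≤ centralizer ({S.s} : Set G) := by
  rintro _ ⟨k, hk, -, rfl⟩
  exact S.el_mem hk

theorem card_syl : Nat.card S.syl = 64 := by
  classical
  let f : {k // k ∈ (Finset.range 192).filter fun k => Code.inSyl k = true} → S.syl := fun k =>
    ⟨S.el k.1, k.1, Finset.mem_range.1 (Finset.mem_filter.1 k.2).1, (Finset.mem_filter.1 k.2).2, rfl⟩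
  have hf : Function.Bijective f := by
    refine ⟨fun p q e => Subtype.ext ?_, ?_⟩
    · exact (S.el_inj (Finset.mem_range.1 (Finset.mem_filter.1 p.2).1)
        (Finset.mem_range.1 (Finset.mem_filter.1 q.2).1)).1 (congrArg Subtype.val e)
    · rintro ⟨_, k, hk, hk', rfl⟩
      exact ⟨⟨k, Finset.mem_filter.2 ⟨Finset.mem_range.2 hk, hk'⟩⟩, rfl⟩
  rw [← Nat.card_congr (Equiv.ofBijective f hf), Nat.card_eq_fintype_card, Fintype.card_coe]
  decide +kernel

theorem isPGroup_syl : IsPGroup 2 S.syl := IsPGroup.of_card (n := 6) (by rw [S.card_syl]; norm_num)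

/-- Whatever normalises the Sylow subgroup fixes the involution. -/
theorem commute_of_normalizes_syl {n : G} (hn : ∀ u ∈ S.syl, n * u * n⁻¹ ∈ S.syl) [Finite G] :
    Commute n S.s := by
  have hmap : S.syl.map (MulAut.conj n).toMonoidHom = S.syl := Subgroup.eq_of_le_of_card_ge
    (by rintro _ ⟨u, hu, rfl⟩; exact hn u hu)
    (le_of_eq (Nat.card_congr (Subgroup.equivMapOfInjective S.syl _ (MulAut.conj n).injective).toEquiv))
  have hs : S.s ∈ S.syl := ⟨1, by norm_num, rfl, S.el_one⟩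
  obtain ⟨k, hk, hk', he⟩ := hn _ hs
  have hc : ∀ l < 192, Code.inSyl l = true → Code.commC τ κ k l = true := fun l hl hl' => by
    obtain ⟨u, hu, hul⟩ : S.el l ∈ S.syl.map (MulAut.conj n).toMonoidHom := by
      rw [hmap]; exact ⟨l, hl, hl', rfl⟩
    refine (S.commute_el_iff hk hl).1 ?_
    rw [← hul, he]
    exact (show Commute S.s u from (mem_centralizer_singleton_iff.1 (S.syl_le hu)).symm).map
      (MulAut.conj n).toMonoidHom
  rcases Code.syl_centre τ κ k hk (by simp [hk', hc 2 (by norm_num) rfl, hc 8 (by norm_num) rfl,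
      hc 4 (by norm_num) rfl, hc 16 (by norm_num) rfl]) with rfl | rfl
  · rw [S.el_zero] at he
    exact absurd (conj_eq_one_iff.1 he.symm) S.s_ne_one
  · rw [S.el_one] at he
    exact mul_inv_eq_iff_eq_mul.1 he.symm

variable [Finite G]

/-- The subgroup is a Sylow 2-subgroup of the group. -/
theorem eq_syl_of_le {P : Subgroup G} (hP : IsPGroup 2 P) (hle : S.syl ≤ P) : P = S.syl := by
  haveI : Fact (Nat.Prime 2) := ⟨Nat.prime_two⟩
  by_contra hne
  haveI : Group.IsNilpotent P := hP.isNilpotent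
  have hlt : S.syl.subgroupOf P < ⊤ :=
    lt_top_iff_ne_top.2 fun e => hne (le_antisymm (Subgroup.subgroupOf_eq_top.1 e) hle)
  obtain ⟨n, hnN, hn⟩ := SetLike.exists_of_lt (Group.normalizerCondition_of_isNilpotent _ hlt)
  have hnorm : ∀ u ∈ S.syl, (n : G) * u * (n : G)⁻¹ ∈ S.syl := fun u hu =>
    Subgroup.mem_subgroupOf.1 ((mem_normalizer_iff.1 hnN ⟨u, hle hu⟩).1 (Subgroup.mem_subgroupOf.2 hu))
  have hnL : (n : G) ∈ centralizer ({S.s} : Set G) :=
    mem_centralizer_singleton_iff.2 (S.commute_of_normalizes_syl hnorm).eq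
  set T := P ⊓ centralizer ({S.s} : Set G) with hT
  have hT2 : IsPGroup 2 T := hP.to_le inf_le_left
  obtain ⟨m, hm⟩ := hT2.exists_card_eq
  have hd : Nat.card T ∣ 192 := S.card_cent ▸ card_dvd_of_le inf_le_right
  have h64 : Nat.card T ≤ 64 := by
    rw [hm] at hd ⊢
    have : m ≤ 6 := by
      have h := (Nat.Prime.pow_dvd_iff_le_factorization Nat.prime_two (by norm_num)).1 hd
      rw [show (192 : ℕ) = 2 ^ 6 * 3 by norm_num, Nat.factorization_mul (by norm_num) (by norm_num),
        Finsupp.add_apply, Nat.Prime.factorization_pow Nat.prime_two, Finsupp.single_eq_same,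
        Nat.factorization_eq_zero_of_not_dvd (by norm_num)] at h
      exact h
    calc 2 ^ m ≤ 2 ^ 6 := Nat.pow_le_pow_right (by norm_num) this
      _ = 64 := by norm_num
  have heq : S.syl = T := Subgroup.eq_of_le_of_card_ge (le_inf hle S.syl_le) (by rw [S.card_syl]; exact h64)
  exact hn (Subgroup.mem_subgroupOf.2 (heq ▸ mem_inf.2 ⟨n.2, hnL⟩))

/-- The Sylow 2-subgroup of the group. -/
noncomputable def sylow : Sylow 2 G :=
  { toSubgroup := S.syl
    isPGroup' := S.isPGroup_syl
    is_maximal' := fun hP hle => S.eq_syl_of_le hP hle }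

theorem sylow_coe : (S.sylow : Subgroup G) = S.syl := rfl

end Setting

/-- A normal self-centralising elementary subgroup of order eight with quotient of order 168. -/
theorem exists_equiv_psl {G : Type*} [Group G] [Finite G] (E : Subgroup G) [E.Normal]
    (hc : ∀ u ∈ E, ∀ v ∈ E, u * v = v * u) (h2 : ∀ u ∈ E, u * u = 1) (h8 : Nat.card E = 8)
    (hC : centralizer (E : Set G) = E) (hG : Nat.card G = 1344) :
    Nonempty (G ⧸ E ≃* Matrix.ProjectiveSpecialLinearGroup (Fin 3) (ZMod 2)) := by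
  obtain ⟨e⟩ := CfsgLib.Sporadic.LargeFischer.EightQuot.exists_mulAut_equiv
    (fun a b : E => Subtype.ext (hc a a.2 b b.2)) (fun a => Subtype.ext (h2 a a.2)) h8
  set f : G →* MulAut E := MulAut.conjNormal with hf
  have hker : f.ker = E := by
    conv_rhs => rw [← hC]
    ext g
    rw [MonoidHom.mem_ker, mem_centralizer_iff]
    constructor
    · intro h v hv
      have := congrArg Subtype.val (DFunLike.congr_fun h (⟨v, hv⟩ : E))
      simp only [hf, MulAut.conjNormal_apply, MulAut.one_apply] at this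
      exact (mul_inv_eq_iff_eq_mul.1 this).symm
    · intro h
      refine MulEquiv.ext fun v => Subtype.ext ?_
      simp only [hf, MulAut.conjNormal_apply, MulAut.one_apply]
      exact mul_inv_eq_iff_eq_mul.2 (h v v.2).symm
  let F : G ⧸ E →* MulAut E := QuotientGroup.lift E f hker.ge
  have hinj : Function.Injective F := by
    rw [← MonoidHom.ker_eq_bot_iff, eq_bot_iff]
    intro x
    induction x using QuotientGroup.induction_on with
    | H z => intro hz; exact Subgroup.mem_bot.2 ((QuotientGroup.eq_one_iff z).2 (hker ▸ hz))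
  have hq : Nat.card (G ⧸ E) = 168 := by
    have h := E.card_eq_card_quotient_mul_card_subgroup
    rw [hG, h8] at h
    omega
  have hbij : Function.Bijective F := (Nat.bijective_iff_injective_and_card F).2 ⟨hinj, by
    rw [hq, Nat.card_congr e.toEquiv, CfsgLib.Sporadic.LargeFischer.EightQuot.l32_card]⟩
  have hz : center (Matrix.SpecialLinearGroup (Fin 3) (ZMod 2)) = ⊥ := by
    refine eq_bot_iff.mpr fun A hA => ?_
    obtain ⟨r, hr, hrA⟩ := Matrix.SpecialLinearGroup.mem_center_iff.mp hA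
    have h2 : ∀ a : ZMod 2, a ^ Fintype.card (Fin 3) = 1 → a = 1 := by decide
    rw [h2 r hr, map_one] at hrA
    exact Subgroup.mem_bot.mpr (Subtype.ext hrA.symm)
  exact ⟨((MulEquiv.ofBijective F hbij).trans e).trans
    ((QuotientGroup.quotientMulEquivOfEq hz).trans QuotientGroup.quotientBot).symm⟩

end CfsgLib.Recognition.ExtraspecialThirtyTwo
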