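import Cfsg.Agent.Lib.Recognition.ExtraspecialThirtyTwo.Gens

/-!
# The shape of an extension of `2^(1+4)` by `S₃` with fixed-point-free element of order three
-/

set_option autoImplicit false
set_option linter.unusedSectionVars false
set_option linter.style.haveILetI false

namespace CfsgLib.Recognition.ExtraspecialThirtyTwo

open Subgroup

/-- The data of the extension. -/
structure Ext (K : Type*) [Group K] where
  /-- The central involution. -/
  z : K
  /-- The extraspecial normal subgroup. -/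
  Q : Subgroup K
  /-- The map onto the symmetric group. -/
  f : K →* Equiv.Perm (Fin 3)
  surj : Function.Surjective f
  ker : f.ker = Q
  /-- An element of order three. -/
  x : K
  cardQ : Nat.card Q = 32
  zQ : z ∈ Q
  zz : z * z = 1
  z1 : z ≠ 1
  central : ∀ u : K, u * z = z * u
  sq : ∀ u ∈ Q, u * u = 1 ∨ u * u = z
  comm : ∀ u ∈ Q, ∀ v ∈ Q, u * v = v * u ∨ u * v = z * (v * u)
  centre : ∀ u ∈ Q, (∀ v ∈ Q, u * v = v * u) → u = 1 ∨ u = z
  xord : orderOf x = 3
  fix : ∀ u ∈ Q, x * u * x⁻¹ = u → u = 1 ∨ u = z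
  /-- A noncentral involution of `Q`. -/
  a₀ : K
  a₀Q : a₀ ∈ Q
  a₀sq : a₀ * a₀ = 1
  a₀ne : a₀ ≠ 1 ∧ a₀ ≠ z

namespace Ext

variable {K : Type*} [Group K] [Finite K] (D : Ext K)

theorem normal : D.Q.Normal := D.ker ▸ D.f.normal_ker

theorem conj_mem (g : K) {u : K} (hu : u ∈ D.Q) : g * u * g⁻¹ ∈ D.Q := D.normal.conj_mem u hu g

theorem zc (u : K) (w : K) : u * (D.z * w) = D.z * (u * w) := by rw [← mul_assoc, D.central, mul_assoc]

theorem conj_z (g : K) : g * D.z * g⁻¹ = D.z := by rw [D.central, mul_inv_cancel_right]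

theorem xxx : D.x * D.x * D.x = 1 := by
  have h := pow_orderOf_eq_one D.x
  rw [D.xord] at h
  rw [← pow_two, ← pow_succ]
  exact h

include D in
theorem card_K : Nat.card K = 192 := by
  have h := D.Q.card_mul_index
  rw [D.cardQ, ← D.ker, Subgroup.index_ker, D.f.range_eq_top.2 D.surj, Subgroup.card_top, Nat.card_perm,
    Nat.card_fin] at h
  rw [← h]; rfl

theorem not_moved {v : K} (h : D.x * v * D.x⁻¹ = D.z * v) : False := by
  have h3 : D.x * (D.x * (D.x * v * D.x⁻¹) * D.x⁻¹) * D.x⁻¹ = v := by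
    calc _ = (D.x * D.x * D.x) * v * (D.x * D.x * D.x)⁻¹ := by group
      _ = v := by rw [D.xxx]; group
  have e : ∀ w : K, D.x * (D.z * w) * D.x⁻¹ = D.z * (D.x * w * D.x⁻¹) := fun w => by
    rw [D.zc]; simp only [mul_assoc]
  rw [h, e, h, e, e, h, ← mul_assoc, ← mul_assoc, D.zz, one_mul] at h3
  exact D.z1 (by simpa using h3)

/-- The product over an orbit of `x` is central. -/
theorem orbit_prod {u : K} (hu : u ∈ D.Q) :
    u * (D.x * u * D.x⁻¹) * (D.x * (D.x * u * D.x⁻¹) * D.x⁻¹) = 1 ∨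
      u * (D.x * u * D.x⁻¹) * (D.x * (D.x * u * D.x⁻¹) * D.x⁻¹) = D.z := by
  set u' := D.x * u * D.x⁻¹ with hu'
  set u'' := D.x * u' * D.x⁻¹ with hu''
  have m' : u' ∈ D.Q := D.conj_mem _ hu
  have m'' : u'' ∈ D.Q := D.conj_mem _ m'
  have h3 : D.x * u'' * D.x⁻¹ = u := by
    calc _ = (D.x * D.x * D.x) * u * (D.x * D.x * D.x)⁻¹ := by rw [hu'', hu']; group
      _ = u := by rw [D.xxx]; group
  refine D.fix _ (mul_mem (mul_mem hu m') m'') ?_
  have e : D.x * (u * u' * u'') * D.x⁻¹ = u' * u'' * u := by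
    calc _ = (D.x * u * D.x⁻¹) * (D.x * u' * D.x⁻¹) * (D.x * u'' * D.x⁻¹) := by group
      _ = u' * u'' * u := by rw [h3]
  rcases D.comm (u' * u'') (mul_mem m' m'') u hu with hc | hc
  · rw [e, hc]; simp only [mul_assoc]
  · exact (D.not_moved (v := u * u' * u'') (by rw [e, hc]; simp only [mul_assoc])).elim

/-- An involution whose orbit under `x` has product one. -/
structure Good (v : K) : Prop where
  mem : v ∈ D.Q
  sq : v * v = 1
  ne_one : v ≠ 1
  ne_z : v ≠ D.z
  comm : (D.x * v * D.x⁻¹) * v = v * (D.x * v * D.x⁻¹)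
  orb : D.x * (D.x * v * D.x⁻¹) * D.x⁻¹ = v * (D.x * v * D.x⁻¹)

theorem exists_good {u : K} (hu : u ∈ D.Q) (hu2 : u * u = 1) (h1 : u ≠ 1) (hz : u ≠ D.z) :
    ∃ v, (v = u ∨ v = D.z * u) ∧ D.Good v := by
  have build : ∀ v ∈ D.Q, v * v = 1 → v ≠ 1 → v ≠ D.z →
      v * (D.x * v * D.x⁻¹) * (D.x * (D.x * v * D.x⁻¹) * D.x⁻¹) = 1 → D.Good v := by
    intro v hv hv2 hn1 hnz hp
    have inv2 : ∀ w : K, w * w = 1 → w⁻¹ = w := fun w hw => inv_eq_of_mul_eq_one_right hw
    have h' : (D.x * v * D.x⁻¹) * (D.x * v * D.x⁻¹) = 1 := by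
      calc _ = D.x * (v * v) * D.x⁻¹ := by group
        _ = 1 := by rw [hv2]; group
    have e2 := eq_inv_of_mul_eq_one_right hp
    rw [mul_inv_rev, inv2 v hv2, inv2 _ h'] at e2
    have h'' : (D.x * v * D.x⁻¹ * v) * (D.x * v * D.x⁻¹ * v) = 1 := by
      rw [← e2]
      calc _ = D.x * ((D.x * v * D.x⁻¹) * (D.x * v * D.x⁻¹)) * D.x⁻¹ := by group
        _ = 1 := by rw [h']; group
    have hc : D.x * v * D.x⁻¹ * v = v * (D.x * v * D.x⁻¹) := by
      rw [eq_inv_of_mul_eq_one_left h'', mul_inv_rev, inv2 v hv2, inv2 _ h']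
    exact ⟨hv, hv2, hn1, hnz, hc, e2.trans hc⟩
  rcases D.orbit_prod hu with h | h
  · exact ⟨u, Or.inl rfl, build u hu hu2 h1 hz h⟩
  · refine ⟨D.z * u, Or.inr rfl, build _ (mul_mem D.zQ hu)
      (by rw [mul_assoc, D.zc u u, hu2, mul_one, D.zz]) (fun e => hz ?_) (fun e => h1 (mul_eq_left.1 e)) ?_⟩
    · rw [← inv_eq_of_mul_eq_one_right D.zz]; exact (inv_eq_of_mul_eq_one_right e).symm
    · have e1 : ∀ w : K, D.x * (D.z * w) * D.x⁻¹ = D.z * (D.x * w * D.x⁻¹) := fun w => by
        rw [D.zc]; simp only [mul_assoc]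
      rw [e1, e1]
      calc D.z * u * (D.z * (D.x * u * D.x⁻¹)) * (D.z * (D.x * (D.x * u * D.x⁻¹) * D.x⁻¹))
          = (D.z * D.z) * ((u * (D.x * u * D.x⁻¹)) * (D.z * (D.x * (D.x * u * D.x⁻¹) * D.x⁻¹))) := by
            rw [mul_assoc D.z u, D.zc u]; simp only [mul_assoc]
        _ = D.z * (u * (D.x * u * D.x⁻¹) * (D.x * (D.x * u * D.x⁻¹) * D.x⁻¹)) := by
            rw [D.zz, one_mul, D.zc]
        _ = 1 := by rw [h, D.zz]

/-- An element outside the preimage of the alternating group inverting `x`. -/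
structure Swap (y : K) : Prop where
  inv : y * D.x * y⁻¹ = D.x⁻¹
  sq : y * y = 1 ∨ y * y = D.z

theorem Swap.conj_twice {D : Ext K} {y : K} (h : D.Swap y) (u : K) : y * (y * u * y⁻¹) * y⁻¹ = u := by
  have e : y * (y * u * y⁻¹) * y⁻¹ = (y * y) * u * (y * y)⁻¹ := by group
  rw [e]
  rcases h.sq with e | e <;> rw [e]
  · group
  · rw [← D.central u, mul_inv_cancel_right]

theorem Swap.mul_left {D : Ext K} {y : K} (h : D.Swap y) : D.Swap (D.x * y) where
  inv := by
    calc D.x * y * D.x * (D.x * y)⁻¹ = D.x * (y * D.x * y⁻¹) * D.x⁻¹ := by group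
      _ = D.x⁻¹ := by rw [h.inv]; group
  sq := by
    have e : D.x * y * (D.x * y) = y * y := by
      calc D.x * y * (D.x * y) = D.x * (y * D.x * y⁻¹) * (y * y) := by group
        _ = y * y := by rw [h.inv]; group
    rw [e]; exact h.sq

theorem exists_swap : ∃ y, D.Swap y := by
  haveI : Fact (Nat.Prime 3) := ⟨Nat.prime_three⟩
  haveI := D.normal
  have hfx : orderOf (D.f D.x) = 3 := by
    have hd : orderOf (D.f D.x) ∣ 3 := by have := orderOf_map_dvd D.f D.x; rwa [D.xord] at this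
    refine ((Nat.dvd_prime Nat.prime_three).1 hd).resolve_left fun h => ?_
    have hxQ : D.x ∈ D.Q := D.ker ▸ orderOf_eq_one_iff.1 h
    have := D.Q.orderOf_dvd_natCard hxQ
    rw [D.xord, D.cardQ] at this
    norm_num at this
  have hX3 : Nat.card (zpowers D.x) = 3 ^ 1 := by rw [Nat.card_zpowers, D.xord, pow_one]
  let P : Sylow 3 K := (IsPGroup.of_card hX3).toSylow (by
    intro h
    have := (zpowers D.x).card_mul_index
    rw [hX3, D.card_K] at this
    omega)
  set N := (alternatingGroup (Fin 3)).comap D.f with hN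
  haveI : N.Normal := inferInstanceAs ((alternatingGroup (Fin 3)).comap D.f).Normal
  have hfix : D.f D.x ∈ alternatingGroup (Fin 3) := by
    rw [Equiv.Perm.mem_alternatingGroup]
    have : ∀ p : Equiv.Perm (Fin 3), p ^ 3 = 1 → Equiv.Perm.sign p = 1 := by decide
    exact this _ (by simpa [hfx] using pow_orderOf_eq_one (D.f D.x))
  have hPN : (P : Subgroup K) ≤ N := by
    intro w hw
    obtain ⟨m, rfl⟩ := mem_zpowers_iff.1 (show w ∈ zpowers D.x from hw)
    exact N.zpow_mem hfix m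
  have htop := Sylow.normalizer_sup_eq_top' P hPN
  obtain ⟨g, hg⟩ := D.surj (Equiv.swap 0 1)
  have hgN : g ∈ (normalizer ((P : Subgroup K) : Set K) ⊔ N : Subgroup K) := htop ▸ mem_top g
  rw [← SetLike.mem_coe, mul_normal] at hgN
  obtain ⟨n, hn, m, hm, rfl⟩ := hgN
  have hsign : Equiv.Perm.sign (D.f n) = -1 := by
    have e := congrArg Equiv.Perm.sign hg
    rw [map_mul, map_mul, Equiv.Perm.mem_alternatingGroup.1 (show D.f m ∈ _ from hm), mul_one] at e
    rw [e]; decide
  have hnx : n * D.x * n⁻¹ ∈ zpowers D.x := (mem_normalizer_iff.1 hn D.x).1 (mem_zpowers D.x)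
  obtain ⟨k, hk⟩ := mem_powers_iff_mem_zpowers.2 hnx
  have hk3 : D.x ^ (k % 3) = n * D.x * n⁻¹ := by
    rw [← D.xord, pow_mod_orderOf]; exact hk
  have hS3 : ∀ p q : Equiv.Perm (Fin 3), Equiv.Perm.sign p = -1 → q ^ 3 = 1 → q ≠ 1 →
      p * q * p⁻¹ = q ^ 2 ∧ p * p = 1 := by decide
  obtain ⟨hinv, hpp⟩ := hS3 (D.f n) (D.f D.x) hsign
    (by simpa [hfx] using pow_orderOf_eq_one (D.f D.x))
    (fun e => by rw [e, orderOf_one] at hfx; omega)
  have himg := congrArg D.f hk3
  rw [map_pow, map_mul, map_mul, map_inv, hinv] at himg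
  have hk2 : k % 3 = 2 := by
    have := pow_inj_mod.1 himg
    rw [hfx] at this
    omega
  have hnxi : n * D.x * n⁻¹ = D.x⁻¹ := by
    rw [← hk3, hk2, pow_two]
    exact eq_inv_of_mul_eq_one_left (by rw [D.xxx])
  refine ⟨n, hnxi, D.fix _ (D.ker ▸ (by rw [MonoidHom.mem_ker, map_mul, hpp])) ?_⟩
  have e : n * n * D.x * (n * n)⁻¹ = D.x := by
    calc n * n * D.x * (n * n)⁻¹ = n * (n * D.x * n⁻¹) * n⁻¹ := by group
      _ = (n * D.x * n⁻¹)⁻¹ := by rw [show (n * D.x * n⁻¹)⁻¹ = n * D.x⁻¹ * n⁻¹ by group, hnxi]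
      _ = D.x := by rw [hnxi, inv_inv]
  rw [mul_inv_eq_iff_eq_mul.1 e |>.symm, mul_inv_cancel_right]

theorem comm_left {u v w : K} (hu : u * w = w * u) (hv : v * w = w * v) : u * v * w = w * (u * v) := by
  rw [mul_assoc, hv, ← mul_assoc, hu, mul_assoc]

/-- Some element inverting `x` fixes a good involution up to `z`. -/
theorem exists_swap_good : ∃ y v, D.Swap y ∧ D.Good v ∧ y * v * y⁻¹ = v := by
  obtain ⟨y0, hy0⟩ := D.exists_swap
  obtain ⟨a, -, ha⟩ := D.exists_good D.a₀Q D.a₀sq D.a₀ne.1 D.a₀ne.2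
  have finish : ∀ y u, D.Swap y → u ∈ D.Q → u * u = 1 → u ≠ 1 → u ≠ D.z →
      (y * u * y⁻¹ = u ∨ y * u * y⁻¹ = D.z * u) → ∃ y v, D.Swap y ∧ D.Good v ∧ y * v * y⁻¹ = v := by
    intro y u hy hu hu2 h1 hz hfix
    obtain ⟨v, hv, hg⟩ := D.exists_good hu hu2 h1 hz
    refine ⟨y, v, hy, hg, ?_⟩
    have hvf : y * v * y⁻¹ = v ∨ y * v * y⁻¹ = D.z * v := by
      rcases hv with rfl | rfl
      · exact hfix
      · rw [D.zc, mul_assoc D.z, ← mul_assoc]
        rcases hfix with e | e <;> [left; right] <;> simp only [mul_assoc] at e ⊢ <;> rw [e]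
    rcases hvf with e | e
    · exact e
    · exfalso
      have hy2 : y * D.x = D.x⁻¹ * y := mul_inv_eq_iff_eq_mul.1 hy.inv
      have e1 : y * (D.x * v * D.x⁻¹) * y⁻¹ = D.z * (D.x * (D.x * v * D.x⁻¹) * D.x⁻¹) := by
        have hx2 : D.x⁻¹ = D.x * D.x := (eq_inv_of_mul_eq_one_left (by rw [D.xxx])).symm
        calc y * (D.x * v * D.x⁻¹) * y⁻¹ = (y * D.x * y⁻¹) * (y * v * y⁻¹) * (y * D.x * y⁻¹)⁻¹ := by group
          _ = D.x⁻¹ * (D.z * v) * D.x⁻¹⁻¹ := by rw [hy.inv, e]
          _ = D.z * ((D.x * D.x) * v * (D.x * D.x)⁻¹) := by rw [hx2, D.zc]; simp only [mul_assoc]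
          _ = _ := by group
      have e2 : y * (v * (D.x * v * D.x⁻¹)) * y⁻¹ = D.z * (D.x * v * D.x⁻¹) := by
        rw [← hg.orb]
        have hx2 : D.x * D.x = D.x⁻¹ := eq_inv_of_mul_eq_one_left (by rw [D.xxx])
        calc y * (D.x * (D.x * v * D.x⁻¹) * D.x⁻¹) * y⁻¹
            = y * ((D.x * D.x) * v * (D.x * D.x)⁻¹) * y⁻¹ := by group
          _ = (y * D.x⁻¹ * y⁻¹) * (y * v * y⁻¹) * (y * D.x⁻¹ * y⁻¹)⁻¹ := by rw [hx2]; group
          _ = (y * D.x * y⁻¹)⁻¹ * (y * v * y⁻¹) * (y * D.x * y⁻¹) := by group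
          _ = D.x⁻¹⁻¹ * (D.z * v) * D.x⁻¹ := by rw [hy.inv, e]
          _ = D.z * (D.x * v * D.x⁻¹) := by rw [inv_inv, D.zc]; simp only [mul_assoc]
      have e3 : y * (v * (D.x * v * D.x⁻¹)) * y⁻¹ = (y * v * y⁻¹) * (y * (D.x * v * D.x⁻¹) * y⁻¹) := by group
      rw [e2, e, e1, hg.orb, mul_assoc D.z v, D.zc v, ← mul_assoc D.z D.z, D.zz, one_mul, ← mul_assoc v v,
        hg.sq, one_mul] at e3
      exact D.z1 (mul_eq_right.1 e3)
  -- move `y0 a y0⁻¹` into the centraliser of `a`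
  set b := y0 * a * y0⁻¹ with hb
  have hbQ : b ∈ D.Q := D.conj_mem _ ha.mem
  have hb2 : b * b = 1 := by rw [hb]; calc _ = y0 * (a * a) * y0⁻¹ := by group
    _ = 1 := by rw [ha.sq]; group
  obtain ⟨y, hy, hyc⟩ : ∃ y, D.Swap y ∧ (y * a * y⁻¹) * a = a * (y * a * y⁻¹) := by
    rcases D.comm b hbQ a ha.mem with h | h
    · exact ⟨y0, hy0, h⟩
    obtain ⟨a', ha'⟩ : ∃ w, w = D.x * a * D.x⁻¹ := ⟨_, rfl⟩
    have hor : D.x * a' * D.x⁻¹ = a * a' := by rw [ha']; exact ha.orb
    have ha'Q : a' ∈ D.Q := ha' ▸ D.conj_mem _ ha.mem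
    -- conjugates of `b` under `x` and of `a`
    have key : ∀ b w, D.x * b * D.x⁻¹ * (D.x * w * D.x⁻¹) = D.x * w * D.x⁻¹ * (D.x * b * D.x⁻¹) ↔
        b * w = w * b := fun b w => by
      constructor
      · intro e
        calc b * w = D.x⁻¹ * (D.x * b * D.x⁻¹ * (D.x * w * D.x⁻¹)) * D.x := by group
          _ = _ := by rw [e]; group
      · intro e
        calc D.x * b * D.x⁻¹ * (D.x * w * D.x⁻¹) = D.x * (b * w) * D.x⁻¹ := by group
          _ = _ := by rw [e]; group
    have h3 : D.x * (D.x * a' * D.x⁻¹) * D.x⁻¹ = a := by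
      calc _ = (D.x * D.x * D.x) * a * (D.x * D.x * D.x)⁻¹ := by rw [ha']; group
        _ = a := by rw [D.xxx]; group
    rcases D.comm b hbQ a' ha'Q with h' | h'
    · refine ⟨D.x * (D.x * y0), hy0.mul_left.mul_left, ?_⟩
      have e := (key _ _).2 ((key b a').2 h')
      rw [h3] at e
      simpa [hb, mul_assoc] using e
    · refine ⟨D.x * y0, hy0.mul_left, ?_⟩
      have hba : b * (D.x * a' * D.x⁻¹) = (D.x * a' * D.x⁻¹) * b := by
        rw [hor, ← mul_assoc, h, mul_assoc, mul_assoc a b a', h',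
          D.zc, ← mul_assoc D.z D.z, D.zz, one_mul, mul_assoc]
      have e := (key _ _).2 hba
      rw [h3] at e
      simpa [hb, mul_assoc] using e
  set b' := y * a * y⁻¹ with hb'
  have hyb : y * b' * y⁻¹ = a := hy.conj_twice a
  by_cases h1 : b' = a
  · exact finish y a hy ha.mem ha.sq ha.ne_one ha.ne_z (Or.inl h1)
  by_cases h2 : b' = D.z * a
  · exact finish y a hy ha.mem ha.sq ha.ne_one ha.ne_z (Or.inr h2)
  have hb'2 : b' * b' = 1 := by
    calc _ = y * (a * a) * y⁻¹ := by rw [hb']; group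
      _ = 1 := by rw [ha.sq]; group
  refine finish y (a * b') hy (mul_mem ha.mem (D.conj_mem _ ha.mem)) ?_ (fun e => h1 ?_) (fun e => h2 ?_) ?_
  · rw [mul_assoc, ← mul_assoc b', hyc, mul_assoc a b' b', hb'2, mul_one, ha.sq]
  · exact (inv_eq_of_mul_eq_one_right e).symm.trans (inv_eq_of_mul_eq_one_right ha.sq)
  · calc b' = a * (a * b') := by rw [← mul_assoc, ha.sq, one_mul]
      _ = D.z * a := by rw [e, D.central]
  · left
    calc y * (a * b') * y⁻¹ = (y * a * y⁻¹) * (y * b' * y⁻¹) := by group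
      _ = a * b' := by rw [hyb, ← hb']; exact hyc

include D in
theorem double {S : Set K} {g : K} (_hSg : g ∈ D.Q) (_hS : S ⊆ D.Q) (hg : g ∉ closure S) :
    2 * Nat.card (closure S) ≤ Nat.card (closure (insert g S)) := by
  have hlt : closure S < closure (insert g S) := lt_of_le_of_ne (closure_mono (Set.subset_insert _ _))
    fun e => hg (e ▸ subset_closure (Set.mem_insert _ _))
  obtain ⟨k, hk⟩ := card_dvd_of_le hlt.le
  have hne : k ≠ 1 := fun h => hlt.ne (Subgroup.eq_of_le_of_card_ge hlt.le (by rw [hk, h, mul_one]))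
  have hk0 : k ≠ 0 := fun h => by
    rw [h, mul_zero] at hk
    exact (Nat.card_pos (α := closure (insert g S))).ne' hk
  rw [hk, mul_comm 2]
  exact Nat.mul_le_mul_left _ (by omega)

/-- Such a group is generated by a tuple satisfying the relations. -/
theorem exists_tuple : ∃ (τ κ : Bool) (g : Tuple K), Rel τ κ g ∧ g.gen = ⊤ ∧ g.s = D.z := by
  classical
  obtain ⟨y, a, hy, ha, hya⟩ := D.exists_swap_good
  obtain ⟨a', ha'⟩ : ∃ w, w = D.x * a * D.x⁻¹ := ⟨_, rfl⟩
  have ha'Q : a' ∈ D.Q := ha' ▸ D.conj_mem _ ha.mem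
  have inv2 : ∀ {w : K}, w * w = 1 → w⁻¹ = w := fun hw => inv_eq_of_mul_eq_one_right hw
  have ha'2 : a' * a' = 1 := by
    calc _ = D.x * (a * a) * D.x⁻¹ := by rw [ha']; group
      _ = 1 := by rw [ha.sq]; group
  have hxa' : D.x * a' * D.x⁻¹ = a * a' := by rw [ha']; exact ha.orb
  have haa' : a' * a = a * a' := by rw [ha']; exact ha.comm
  have hcj : ∀ g u v : K, (g * u * g⁻¹) * (g * v * g⁻¹) = g * (u * v) * g⁻¹ := fun g u v => by group
  have hx3a : D.x * (a * a') * D.x⁻¹ = a := by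
    rw [← hxa']
    calc D.x * (D.x * a' * D.x⁻¹) * D.x⁻¹ = (D.x * D.x * D.x) * a * (D.x * D.x * D.x)⁻¹ := by rw [ha']; group
      _ = a := by rw [D.xxx]; group
  -- an element of `Q` commuting with `a` but not with `a'`
  obtain ⟨v, hv, hva, hva'⟩ : ∃ v ∈ D.Q, v * a = a * v ∧ v * a' ≠ a' * v := by
    by_contra hno
    push Not at hno
    set A := D.Q ⊓ centralizer ({a} : Set K) with hA
    have hmemA : ∀ v, v ∈ A ↔ v ∈ D.Q ∧ v * a = a * v := fun v => by
      rw [hA, mem_inf, mem_centralizer_singleton_iff]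
    have hxA : A.map (MulAut.conj D.x).toMonoidHom = A := by
      have hle : A.map (MulAut.conj D.x).toMonoidHom ≤ A := by
        rintro _ ⟨u, hu, rfl⟩
        obtain ⟨hu, hua⟩ := (hmemA u).1 hu
        refine (hmemA _).2 ⟨D.conj_mem _ hu, ?_⟩
        simp only [MulEquiv.coe_toMonoidHom, MulAut.conj_apply]
        rw [← hx3a, hcj, hcj, comm_left (u := a) (v := a') (w := u) hua.symm (hno u hu hua).symm]
      exact Subgroup.eq_of_le_of_card_ge hle
        (le_of_eq (Nat.card_congr (Subgroup.equivMapOfInjective A _ (MulAut.conj D.x).injective).toEquiv))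
    haveI : Fact (Nat.Prime 3) := ⟨Nat.prime_three⟩
    -- the orbits of `x` on `A`
    have hidx : Nat.card A = 16 := by
      have hne : A ≠ D.Q := fun e => by
        rcases D.centre a ha.mem (fun w hw => ((hmemA w).1 (e ▸ hw)).2.symm) with h | h
        exacts [ha.ne_one h, ha.ne_z h]
      have hlt : A < D.Q := lt_of_le_of_ne inf_le_left hne
      obtain ⟨w, hw, hwA⟩ := SetLike.exists_of_lt hlt
      have hwa : w * a = D.z * (a * w) := (D.comm w hw a ha.mem).resolve_left fun h => hwA ((hmemA w).2 ⟨hw, h⟩)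
      have hflip : ∀ u ∈ D.Q, ∀ v ∈ D.Q, u ∉ A → v ∉ A → u * v ∈ A := fun u hu v hv hnu hnv => by
        refine (hmemA _).2 ⟨mul_mem hu hv, ?_⟩
        have hua : u * a = D.z * (a * u) :=
          (D.comm u hu a ha.mem).resolve_left fun h' => hnu ((hmemA u).2 ⟨hu, h'⟩)
        have hva : v * a = D.z * (a * v) :=
          (D.comm v hv a ha.mem).resolve_left fun h' => hnv ((hmemA v).2 ⟨hv, h'⟩)
        rw [mul_assoc, hva, D.zc, ← mul_assoc u a v, hua, mul_assoc D.z, ← mul_assoc D.z D.z, D.zz, one_mul,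
          mul_assoc]
      have h2 : (A.subgroupOf D.Q).index = 2 := by
        refine index_eq_two_iff_exists_notMem_and.2 ⟨⟨w, hw⟩, fun h => hwA (mem_subgroupOf.1 h), fun b => ?_⟩
        by_cases hb : (b : K) ∈ A
        · exact Or.inr (mem_subgroupOf.2 hb)
        · exact Or.inl (mem_subgroupOf.2 (hflip _ b.2 _ hw hb hwA))
      have := (A.subgroupOf D.Q).card_mul_index
      rw [h2, D.cardQ] at this
      have e := Nat.card_congr (subgroupOfEquivOfLe (show A ≤ D.Q from inf_le_left)).toEquiv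
      omega
    have hX : zpowers D.x ≤ normalizer (A : Set K) := zpowers_le.2 (mem_normalizer_iff.2 fun u => by
      conv_rhs => rw [← hxA]
      exact ⟨fun hu => ⟨u, hu, rfl⟩, fun ⟨k, hk, e⟩ => by
        simp only [MulEquiv.coe_toMonoidHom, MulAut.conj_apply, mul_left_inj, mul_right_inj] at e
        exact e ▸ hk⟩)
    letI : MulAction (zpowers D.x) A :=
      { smul := fun g u => ⟨(g : K) * u * (g : K)⁻¹, (mem_normalizer_iff.1 (hX g.2) u).1 u.2⟩
        one_smul := fun u => Subtype.ext (show (1 : K) * u * (1 : K)⁻¹ = u by group)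
        mul_smul := fun g h u => Subtype.ext (show (g * h : K) * u * (g * h : K)⁻¹ =
          g * ((h : K) * u * (h : K)⁻¹) * (g : K)⁻¹ by group) }
    have hX3 : IsPGroup 3 (zpowers D.x) := IsPGroup.of_card (n := 1) (by rw [Nat.card_zpowers, D.xord, pow_one])
    have hmod := hX3.card_modEq_card_fixedPoints A
    have hfix : Nat.card (MulAction.fixedPoints (zpowers D.x) A) = 2 := by
      have h1A : (1 : K) ∈ A := one_mem _
      have hzA : D.z ∈ A := (hmemA _).2 ⟨D.zQ, (D.central a).symm⟩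
      have hset : MulAction.fixedPoints (zpowers D.x) A = {⟨1, h1A⟩, ⟨D.z, hzA⟩} := by
        ext u
        constructor
        · intro hu
          have := congrArg Subtype.val (hu ⟨D.x, mem_zpowers _⟩)
          change D.x * (u : K) * D.x⁻¹ = u at this
          rcases D.fix u ((hmemA u).1 u.2).1 this with h | h
          · exact Or.inl (Subtype.ext h)
          · exact Or.inr (Subtype.ext h)
        · rintro (rfl | rfl) g <;> refine Subtype.ext ?_
          · show (g : K) * 1 * (g : K)⁻¹ = 1; group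
          · exact D.conj_z g
      rw [hset, Nat.card_coe_set_eq, Set.ncard_pair (fun e => D.z1 (congrArg Subtype.val e).symm)]
    rw [hidx, hfix] at hmod
    exact absurd hmod (by decide)
  have hva'z : v * a' = D.z * (a' * v) := (D.comm v hv a' ha'Q).resolve_left hva'
  have zflip : ∀ {u w : K}, u * w = D.z * (w * u) → w * u = D.z * (u * w) := fun e => by
    rw [e, ← mul_assoc D.z D.z, D.zz, one_mul]
  -- make it an involution
  obtain ⟨v, hv, hv2, hva, hva'⟩ : ∃ w ∈ D.Q, w * w = 1 ∧ w * a = a * w ∧ w * a' = D.z * (a' * w) := by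
    rcases D.sq v hv with h | h
    · exact ⟨v, hv, h, hva, hva'z⟩
    refine ⟨v * a', mul_mem hv ha'Q, ?_, comm_left hva haa', ?_⟩
    · calc v * a' * (v * a') = v * (a' * v) * a' := by simp only [mul_assoc]
        _ = v * (D.z * (v * a')) * a' := by rw [zflip hva'z]
        _ = D.z * ((v * v) * (a' * a')) := by rw [D.zc]; simp only [mul_assoc]
        _ = 1 := by rw [h, ha'2, mul_one, D.zz]
    · rw [mul_assoc, ha'2, mul_one, ← mul_assoc a', zflip hva'z, mul_assoc D.z, mul_assoc v a', ha'2, mul_one,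
        ← mul_assoc D.z D.z, D.zz, one_mul]
  obtain ⟨c, hc, hgc⟩ := D.exists_good hv hv2
    (fun e => by
      rw [e, one_mul, mul_one] at hva'
      exact D.z1 (mul_eq_right.1 hva'.symm))
    (fun e => by
      rw [e, D.central a'] at hva'
      exact D.z1 (mul_eq_right.1 hva'.symm))
  have hca : c * a = a * c := by
    rcases hc with rfl | rfl
    · exact hva
    · rw [mul_assoc, hva, D.zc]
  have hca' : c * a' = D.z * a' * c := by
    rcases hc with rfl | rfl
    · rw [hva', mul_assoc]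
    · rw [mul_assoc, hva', mul_assoc D.z a', D.zc a' v]
  obtain ⟨c', hc'⟩ : ∃ w, w = D.x * c * D.x⁻¹ := ⟨_, rfl⟩
  have hc'Q : c' ∈ D.Q := hc' ▸ D.conj_mem _ hgc.mem
  have hc'2 : c' * c' = 1 := by rw [hc', hcj, hgc.sq]; group
  have hc'a' : c' * a' = a' * c' := by rw [hc', ha', hcj, hcj, hca]
  have hc'aa' : c' * (a * a') = D.z * (a * a') * c' := by
    calc c' * (a * a') = (D.x * c * D.x⁻¹) * (D.x * a' * D.x⁻¹) := by rw [hxa', hc']
      _ = D.x * (D.z * a' * c) * D.x⁻¹ := by rw [hcj, hca']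
      _ = (D.x * D.z * D.x⁻¹) * (D.x * a' * D.x⁻¹) * (D.x * c * D.x⁻¹) := by group
      _ = _ := by rw [D.conj_z, hxa', hc']
  have hc'a : c' * a = D.z * a * c' := by
    have e : c' * a * a' = D.z * a * c' * a' := by
      rw [mul_assoc c', hc'aa', mul_assoc _ c', hc'a', ← mul_assoc, ← mul_assoc]
    exact mul_right_cancel e
  -- the subgroup `Q` is generated
  have hsub : ({c', c, a', a, D.z} : Set K) ⊆ D.Q := by
    rintro _ (rfl | rfl | rfl | rfl | rfl)
    exacts [hc'Q, hgc.mem, ha'Q, ha.mem, D.zQ]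
  have hnot : ∀ {S : Set K} {g w : K}, (∀ u ∈ S, u * w = w * u) → g * w = D.z * (w * g) → g ∉ closure S := by
    intro S g w hS hg hgS
    have : closure S ≤ centralizer ({w} : Set K) :=
      (closure_le _).2 fun u hu => mem_centralizer_singleton_iff.2 (hS u hu)
    rw [mem_centralizer_singleton_iff.1 (this hgS)] at hg
    exact D.z1 (mul_eq_right.1 hg.symm)
  have hz2 : 2 ≤ Nat.card (closure ({D.z} : Set K)) := by
    rw [← zpowers_eq_closure, Nat.card_zpowers]
    exact le_of_eq (orderOf_eq_prime (by rw [pow_two, D.zz]) D.z1).symm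
  have hE : 8 ≤ Nat.card (closure ({a', a, D.z} : Set K)) := by
    have h2 := D.double (S := {D.z}) (g := a) ha.mem (by rintro _ rfl; exact D.zQ) (by
      refine hnot (w := c') ?_ ?_
      · rintro _ rfl; exact (D.central c').symm
      · exact zflip (hc'a.trans (mul_assoc _ _ _)))
    have h3 := D.double (S := {a, D.z}) (g := a') ha'Q
      (by rintro _ (rfl | rfl); exacts [ha.mem, D.zQ]) (by
      refine hnot (w := c) ?_ ?_
      · rintro _ (rfl | rfl); exacts [hca.symm, (D.central c).symm]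
      · exact zflip (hca'.trans (mul_assoc _ _ _)))
    omega
  have hQgen : closure ({c', c, a', a, D.z} : Set K) = D.Q := by
    have h4 := D.double (S := {a', a, D.z}) (g := c) hgc.mem
      (fun u hu => hsub (by simp only [Set.mem_insert_iff, Set.mem_singleton_iff] at hu ⊢; tauto)) (by
      refine hnot (w := a') ?_ (hca'.trans (mul_assoc _ _ _))
      rintro _ (rfl | rfl | rfl)
      exacts [rfl, haa'.symm, (D.central a').symm])
    have h5 := D.double (S := {c, a', a, D.z}) (g := c') hc'Q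
      (fun u hu => hsub (Set.mem_insert_of_mem _ hu)) (by
      refine hnot (w := a) ?_ (hc'a.trans (mul_assoc _ _ _))
      rintro _ (rfl | rfl | rfl | rfl)
      exacts [hca, haa', rfl, (D.central a).symm])
    exact Subgroup.eq_of_le_of_card_ge ((closure_le _).2 hsub) (by rw [D.cardQ]; omega)
  -- the image of `c` under `y`
  have hyx : y * D.x = D.x⁻¹ * y := mul_inv_eq_iff_eq_mul.1 hy.inv
  have hxy : ∀ u : K, y * (D.x * u * D.x⁻¹) * y⁻¹ = D.x * (D.x * (y * u * y⁻¹) * D.x⁻¹) * D.x⁻¹ := fun u => by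
    have hx2 : D.x⁻¹ = D.x * D.x := (eq_inv_of_mul_eq_one_left (by rw [D.xxx])).symm
    calc y * (D.x * u * D.x⁻¹) * y⁻¹ = (y * D.x * y⁻¹) * (y * u * y⁻¹) * (y * D.x * y⁻¹)⁻¹ := by group
      _ = (D.x * D.x) * (y * u * y⁻¹) * (D.x * D.x)⁻¹ := by rw [hy.inv, hx2]
      _ = _ := by group
  have hya' : y * a' * y⁻¹ = a * a' := by rw [ha', hxy, hya, ← ha', hxa']
  obtain ⟨d, hd⟩ : ∃ w, w = y * c * y⁻¹ := ⟨_, rfl⟩
  have hdQ : d ∈ D.Q := hd ▸ D.conj_mem _ hgc.mem
  have hd2 : d * d = 1 := by rw [hd, hcj, hgc.sq]; group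
  have hda : d * a = a * d := by
    conv_lhs => rw [← hya]
    rw [hd, hcj, hca, ← hcj, hya]
  have hda' : d * a' = D.z * a' * d := by
    have e : d * (a * a') = D.z * (a * a') * d := by
      calc d * (a * a') = y * c * y⁻¹ * (y * a' * y⁻¹) := by rw [hya', hd]
        _ = (y * D.z * y⁻¹) * (y * a' * y⁻¹) * (y * c * y⁻¹) := by rw [hcj, hca']; group
        _ = _ := by rw [D.conj_z, hya', ← hd]
    rw [← mul_assoc, hda, mul_assoc] at e
    rw [mul_assoc D.z, mul_assoc a, ← D.zc] at e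
    rw [mul_assoc D.z]
    exact mul_left_cancel e
  obtain ⟨w, hw⟩ : ∃ w, w = d * c := ⟨_, rfl⟩
  have hwQ : w ∈ D.Q := hw ▸ mul_mem hdQ hgc.mem
  have hwa : w * a = a * w := hw ▸ comm_left hda hca
  have hwa' : w * a' = a' * w := by
    rw [hw]
    calc d * c * a' = d * (c * a') := mul_assoc _ _ _
      _ = D.z * ((d * a') * c) := by rw [hca', mul_assoc D.z, D.zc]; simp only [mul_assoc]
      _ = (D.z * D.z) * (a' * (d * c)) := by rw [hda']; simp only [mul_assoc]
      _ = a' * (d * c) := by rw [D.zz, one_mul]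
  have hwE : w ∈ closure ({a', a, D.z} : Set K) := by
    set C := D.Q ⊓ (centralizer ({a} : Set K) ⊓ centralizer ({a'} : Set K)) with hC
    have hwC : w ∈ C := mem_inf.2 ⟨hwQ, mem_inf.2
      ⟨mem_centralizer_singleton_iff.2 hwa, mem_centralizer_singleton_iff.2 hwa'⟩⟩
    have hEC : closure ({a', a, D.z} : Set K) ≤ C := (closure_le _).2 (by
      rintro _ (rfl | rfl | rfl) <;> refine mem_inf.2 ⟨?_, mem_inf.2 ⟨?_, ?_⟩⟩ <;>
        first
          | exact ha'Q | exact ha.mem | exact D.zQ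
          | (refine mem_centralizer_singleton_iff.2 ?_
             first | rfl | exact haa' | exact haa'.symm | exact (D.central _).symm))
    have hC8 : Nat.card C ≤ 8 := by
      have hd32 : Nat.card C ∣ 2 ^ 5 := by
        have := card_dvd_of_le (inf_le_left : C ≤ D.Q)
        rwa [D.cardQ] at this
      obtain ⟨k, hk, hk'⟩ := (Nat.dvd_prime_pow Nat.prime_two).1 hd32
      have hA : C < D.Q ⊓ centralizer ({a} : Set K) := by
        refine lt_of_le_of_ne (inf_le_inf_left _ inf_le_left) fun e => ?_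
        have hcC : c ∈ C := e.symm ▸ mem_inf.2 ⟨hgc.mem, mem_centralizer_singleton_iff.2 hca⟩
        have := mem_centralizer_singleton_iff.1 (mem_inf.1 (mem_inf.1 hcC).2).2
        rw [this, mul_assoc] at hca'
        exact D.z1 (mul_eq_right.1 hca'.symm)
      have hA' : D.Q ⊓ centralizer ({a} : Set K) < D.Q := by
        refine lt_of_le_of_ne inf_le_left fun e => ?_
        have : c' ∈ D.Q ⊓ centralizer ({a} : Set K) := e.symm ▸ hc'Q
        rw [mem_centralizer_singleton_iff.1 (mem_inf.1 this).2, mul_assoc] at hc'a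
        exact D.z1 (mul_eq_right.1 hc'a.symm)
      obtain ⟨m, hm⟩ := card_dvd_of_le hA.le
      obtain ⟨m', hm'⟩ := card_dvd_of_le hA'.le
      have hm1 : m ≠ 1 := fun h => hA.ne (Subgroup.eq_of_le_of_card_ge hA.le (by rw [hm, h, mul_one]))
      have hm'1 : m' ≠ 1 := fun h => hA'.ne (Subgroup.eq_of_le_of_card_ge hA'.le (by rw [hm', h, mul_one]))
      have hm0 : m ≠ 0 := fun h => by
        rw [h, mul_zero] at hm; exact (Nat.card_pos (α := ↥(D.Q ⊓ centralizer ({a} : Set K)))).ne' hm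
      have hm'0 : m' ≠ 0 := fun h => by rw [D.cardQ, h, mul_zero] at hm'; omega
      rw [D.cardQ, hm] at hm'
      have : 4 * Nat.card C ≤ 32 := by
        rw [hm', mul_assoc, mul_comm 4]
        exact Nat.mul_le_mul_left _ (Nat.mul_le_mul (show 2 ≤ m by omega) (show 2 ≤ m' by omega))
      omega
    exact (Subgroup.eq_of_le_of_card_ge hEC (by omega)).symm ▸ hwC
  have hform : ∃ i j m : Fin 2, w = a' ^ (j : ℕ) * (a ^ (i : ℕ) * D.z ^ (m : ℕ)) := by
    obtain ⟨j, h1, hh1, e1⟩ := exists_eq_pow_mul ({a, D.z} : Set K) a' 2 (by norm_num)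
      (by rintro _ (rfl | rfl)
          · rw [haa', mul_inv_cancel_right]; exact subset_closure (by simp)
          · rw [D.conj_z]; exact subset_closure (by simp))
      (by rw [pow_two, ha'2]; exact one_mem _) hwE
    obtain ⟨i, h2, hh2, e2⟩ := exists_eq_pow_mul ({D.z} : Set K) a 2 (by norm_num)
      (by rintro _ rfl; rw [D.conj_z]; exact subset_closure (by simp))
      (by rw [pow_two, ha.sq]; exact one_mem _) hh1
    obtain ⟨m, rfl⟩ : ∃ m : Fin 2, h2 = D.z ^ (m : ℕ) := by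
      rw [← zpowers_eq_closure] at hh2
      obtain ⟨m, rfl⟩ := mem_powers_iff_mem_zpowers.2 hh2
      refine ⟨⟨m % 2, Nat.mod_lt _ (by norm_num)⟩, ?_⟩
      show D.z ^ m = D.z ^ (m % 2)
      exact pow_eq_pow_mod m (by rw [pow_two, D.zz])
    exact ⟨i, j, m, by rw [e2, e1]⟩
  obtain ⟨i, j, m, hijm⟩ := hform
  have hdw : d = w * c := by rw [hw, mul_assoc, hgc.sq, mul_one]
  have hj : (j : ℕ) = 0 := by
    by_contra h
    have hj1 : (j : ℕ) = 1 := by omega
    rw [hj1, pow_one] at hijm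
    set u := a ^ (i : ℕ) * D.z ^ (m : ℕ) with hu
    have hu2 : u * u = 1 := by
      rcases (show (i : ℕ) = 0 ∨ (i : ℕ) = 1 by omega) with hi | hi <;>
        rcases (show (m : ℕ) = 0 ∨ (m : ℕ) = 1 by omega) with hm | hm <;>
        rw [hu, hi, hm] <;> simp only [pow_zero, pow_one, one_mul, mul_one]
      · exact D.zz
      · exact ha.sq
      · rw [D.central a, mul_assoc, D.zc a a, ha.sq, mul_one, D.zz]
    have hcu : c * u = u * c := by
      rcases (show (i : ℕ) = 0 ∨ (i : ℕ) = 1 by omega) with hi | hi <;>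
        rcases (show (m : ℕ) = 0 ∨ (m : ℕ) = 1 by omega) with hm | hm <;>
        rw [hu, hi, hm] <;> simp only [pow_zero, pow_one, one_mul, mul_one]
      · exact D.central c
      · exact hca
      · rw [← mul_assoc c a, hca, mul_assoc a c, D.central c, ← mul_assoc]
    have hua' : u * a' = a' * u := by
      rcases (show (i : ℕ) = 0 ∨ (i : ℕ) = 1 by omega) with hi | hi <;>
        rcases (show (m : ℕ) = 0 ∨ (m : ℕ) = 1 by omega) with hm | hm <;>
        rw [hu, hi, hm] <;> simp only [pow_zero, pow_one, one_mul, mul_one]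
      · exact (D.central a').symm
      · exact haa'.symm
      · exact comm_left haa'.symm (D.central a').symm
    have : d * d = D.z := by
      calc d * d = (a' * u * c) * (a' * u * c) := by rw [hdw, hijm]
        _ = a' * u * (c * a') * (u * c) := by simp only [mul_assoc]
        _ = D.z * (a' * (u * a') * (c * (u * c))) := by rw [hca', mul_assoc D.z, D.zc]; simp only [mul_assoc]
        _ = D.z * ((a' * a') * u * ((c * u) * c)) := by rw [hua']; simp only [mul_assoc]
        _ = D.z * (u * (u * (c * c))) := by rw [ha'2, one_mul, hcu, mul_assoc u c c]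
        _ = D.z := by rw [hgc.sq, mul_one, hu2, mul_one]
    rw [hd2] at this
    exact D.z1 this.symm
  rw [hj, pow_zero, one_mul] at hijm
  -- product over the orbit of `d`
  have horb : D.x * c' * D.x⁻¹ = c * c' := by rw [hc']; exact hgc.orb
  have hyc' : y * c' * y⁻¹ = D.x * (D.x * d * D.x⁻¹) * D.x⁻¹ := by rw [hc', hxy, ← hd]
  have hycc' : y * (c * c') * y⁻¹ = D.x * d * D.x⁻¹ := by
    rw [← horb, hxy, hyc']
    calc D.x * (D.x * (D.x * (D.x * d * D.x⁻¹) * D.x⁻¹) * D.x⁻¹) * D.x⁻¹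
        = (D.x * D.x * D.x) * (D.x * d * D.x⁻¹) * (D.x * D.x * D.x)⁻¹ := by group
      _ = _ := by rw [D.xxx]; group
  have hprod : D.x * d * D.x⁻¹ = d * (D.x * (D.x * d * D.x⁻¹) * D.x⁻¹) :=
    calc D.x * d * D.x⁻¹ = y * (c * c') * y⁻¹ := hycc'.symm
      _ = (y * c * y⁻¹) * (y * c' * y⁻¹) := (hcj y c c').symm
      _ = _ := by rw [← hd, hyc']
  have hcjz : ∀ u, D.x * (D.z ^ (m : ℕ) * u) * D.x⁻¹ = D.z ^ (m : ℕ) * (D.x * u * D.x⁻¹) := fun u => by
    rw [← hcj, ← _root_.conj_pow, D.conj_z]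
  have hdm : d = D.z ^ (m : ℕ) * (a ^ (i : ℕ) * c) := by
    rw [hdw, hijm, ← mul_assoc]
    congr 1
    rcases (show (m : ℕ) = 0 ∨ (m : ℕ) = 1 by omega) with hm | hm <;> rw [hm] <;>
      simp only [pow_zero, pow_one, one_mul, mul_one]
    exact D.central _
  have hpair : ((i : ℕ) = 0 ∧ (m : ℕ) = 0) ∨ ((i : ℕ) = 1 ∧ (m : ℕ) = 1) := by
    have ei : D.x * d * D.x⁻¹ = D.z ^ (m : ℕ) * (a' ^ (i : ℕ) * c') := by
      rw [hdm, hcjz, ← hcj, ← _root_.conj_pow, ← ha', ← hc']
    have ei2 : D.x * (D.x * d * D.x⁻¹) * D.x⁻¹ = D.z ^ (m : ℕ) * ((a * a') ^ (i : ℕ) * (c * c')) := by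
      rw [ei, hcjz, ← hcj, ← _root_.conj_pow, hxa', horb]
    rw [ei2, ei, hdm] at hprod
    rcases (show (i : ℕ) = 0 ∨ (i : ℕ) = 1 by omega) with hi | hi <;>
      rcases (show (m : ℕ) = 0 ∨ (m : ℕ) = 1 by omega) with hm | hm <;>
      simp only [hi, hm, pow_zero, pow_one, one_mul] at hprod
    · exact Or.inl ⟨hi, hm⟩
    · exfalso
      rw [mul_assoc D.z, D.zc, ← mul_assoc D.z D.z, D.zz, one_mul, ← mul_assoc c c, hgc.sq, one_mul] at hprod
      exact D.z1 (mul_eq_right.1 hprod)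
    · exfalso
      have e : a * c * (a * a' * (c * c')) = D.z * (a' * c') := by
        calc a * c * (a * a' * (c * c')) = a * ((c * a) * (a' * (c * c'))) := by simp only [mul_assoc]
          _ = (a * a) * (c * (a' * (c * c'))) := by rw [hca]; simp only [mul_assoc]
          _ = (c * a') * (c * c') := by rw [ha.sq, one_mul]; simp only [mul_assoc]
          _ = D.z * (a' * ((c * c) * c')) := by rw [hca']; simp only [mul_assoc]
          _ = _ := by rw [hgc.sq, one_mul]
      rw [e] at hprod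
      exact D.z1 (mul_eq_right.1 hprod.symm)
    · exact Or.inr ⟨hi, hm⟩
  set g : Tuple K := ⟨D.z, a, a', c, c', D.x, y⟩ with hg
  have mkrel : ∀ τ κ, (y * y = bif κ then D.z else 1) → (d = bif τ then D.z * a * c else c) →
      (D.x * (D.x * d * D.x⁻¹) * D.x⁻¹ = bif τ then D.z * a * a' * (c * c') else c * c') → Rel τ κ g := by
    intro τ κ h1 h2 h3
    exact
    { ss := D.zz, sa := (D.central a).symm, sa' := (D.central a').symm, sc := (D.central c).symm,
      sc' := (D.central c').symm, sx := (D.central D.x).symm, sy := (D.central y).symm, aa := ha.sq,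
      a'a' := ha'2, cc := hgc.sq, c'c' := hc'2, aa' := haa', cc' := (by show c' * c = c * c'; rw [hc']; exact hgc.comm), ac := hca, a'c' := hc'a',
      ac' := hc'a, a'c := hca', xxx := D.xxx, xa := ha'.symm, xa' := hxa', xc := hc'.symm, xc' := horb, yy := h1,
      yx := hy.inv, ya := hya, ya' := hya', yc := hd.symm.trans h2, yc' := hyc'.trans h3 }
  have hgen : g.gen = ⊤ := by
    have hQle : D.Q ≤ g.gen := by
      rw [← hQgen, Tuple.gen]
      exact closure_mono fun u hu => by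
        simp only [Set.mem_insert_iff, Set.mem_singleton_iff, hg] at hu ⊢; tauto
    have hx : D.x ∈ g.gen := subset_closure (by simp [hg])
    have hy' : y ∈ g.gen := subset_closure (by simp [hg])
    have hmap : g.gen.map D.f = ⊤ := by
      have hP : ∀ p q : Equiv.Perm (Fin 3), p ≠ 1 → p ^ 3 = 1 → q * p * q⁻¹ = p⁻¹ →
          ∀ r, ∃ i < 3, ∃ j < 2, r = p ^ i * q ^ j := by decide
      refine eq_top_iff.2 fun r _ => ?_
      have hfx1 : D.f D.x ≠ 1 := fun h => by
        have hxQ : D.x ∈ D.Q := D.ker ▸ h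
        have := D.Q.orderOf_dvd_natCard hxQ
        rw [D.xord, D.cardQ] at this
        norm_num at this
      obtain ⟨i, -, j, -, rfl⟩ := hP (D.f D.x) (D.f y) hfx1
        (by rw [← map_pow, pow_succ, pow_two, D.xxx, map_one])
        (by rw [← map_inv, ← map_inv, ← map_mul, ← map_mul, hy.inv]) r
      exact mul_mem (pow_mem (mem_map_of_mem _ hx) _) (pow_mem (mem_map_of_mem _ hy') _)
    have := Subgroup.comap_map_eq D.f g.gen
    rw [hmap, comap_top, D.ker, sup_eq_left.2 hQle] at this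
    exact this.symm
  obtain ⟨κ, hκ⟩ : ∃ κ : Bool, y * y = bif κ then D.z else 1 := hy.sq.elim (⟨false, ·⟩) (⟨true, ·⟩)
  rcases hpair with ⟨hi, hm⟩ | ⟨hi, hm⟩ <;> rw [hi, hm] at hdm <;>
    simp only [pow_zero, pow_one, one_mul] at hdm
  · exact ⟨false, κ, g, mkrel false κ hκ hdm (by rw [hdm, ← hc', horb]; rfl), hgen, rfl⟩
  · refine ⟨true, κ, g, mkrel true κ hκ (by rw [hdm, ← mul_assoc]; rfl) ?_, hgen, rfl⟩
    have e1 : ∀ u : K, D.x * (D.z * u) * D.x⁻¹ = D.z * (D.x * u * D.x⁻¹) := fun u => by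
      rw [D.zc]; simp only [mul_assoc]
    rw [hdm, e1 (a * c), e1, ← hcj D.x a c, ← hc', ← ha', ← hcj, hxa', horb]
    simp only [cond_true, mul_assoc]

end Ext

end CfsgLib.Recognition.ExtraspecialThirtyTwo
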