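import Cfsg.Agent.Lib.Recognition.ExtraspecialThirtyTwo.Code
import Cfsg.Agent.Lib.Recognition.ExtraspecialThirtyTwo.Shape
import Cfsg.Agent.Lib.PGroup.Frattini
import Cfsg.Agent.Lib.Solvable.Cores
import Cfsg.Prelude.Def_Solvable
import Cfsg.Prelude.Def_Transfer

/-!
# Groups with an involution centraliser `2^(1+4).S₃`, coordinates
-/

set_option autoImplicit false
set_option linter.unusedSectionVars false
set_option linter.style.haveILetI false

namespace CfsgLib.Recognition.ExtraspecialThirtyTwo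

open Subgroup
open scoped commutatorElement

namespace Code

/-- Conjugation of codes. -/
def conjC (τ κ : Bool) (a k : ℕ) : ℕ := mulC τ κ (mulC τ κ a k) (invC τ κ a)

/-- Whether two codes commute. -/
def commC (τ κ : Bool) (k l : ℕ) : Bool := Nat.beq (mulC τ κ k l) (mulC τ κ l k)

/-- Whether a code has order two. -/
def invoC (τ κ : Bool) (k : ℕ) : Bool := !Nat.beq k 0 && Nat.beq (mulC τ κ k k) 0

theorem conjC_lt (τ κ : Bool) {a k : ℕ} (ha : a < 192) (hk : k < 192) : conjC τ κ a k < 192 :=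
  mulC_lt τ κ _ (mulC_lt τ κ a ha k hk) _ (invC_check τ κ a ha).1

end Code

/-- An involution centraliser with coordinates, one of whose noncentral elements of `Q` is fused with the involution. -/
structure Setting (G : Type*) [Group G] (τ κ : Bool) where
  /-- The generators. -/
  g : Tuple G
  rel : Rel τ κ g
  gen_eq : g.gen = centralizer ({g.s} : Set G)
  card : Nat.card g.gen = 192
  fused : ∃ r : G, IsConj g.s r ∧ (∃ q < 32, g.val q = r) ∧ r ≠ g.s

namespace Setting

variable {G : Type*} [Group G] {τ κ : Bool} (S : Setting G τ κ)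

/-- The element with a given code. -/
def el (k : ℕ) : G := S.g.val k

/-- The involution. -/
def s : G := S.g.s

theorem el_zero : S.el 0 = 1 := S.rel.val_gens.1

theorem el_one : S.el 1 = S.s := S.rel.val_gens.2.1

theorem el_mul {k l : ℕ} (hk : k < 192) (hl : l < 192) : S.el (Code.mulC τ κ k l) = S.el k * S.el l :=
  S.rel.val_mul hk hl

theorem el_invC {k : ℕ} (hk : k < 192) : S.el (Code.invC τ κ k) = (S.el k)⁻¹ := S.rel.val_invC hk

theorem el_conjC {a k : ℕ} (ha : a < 192) (hk : k < 192) :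
    S.el (Code.conjC τ κ a k) = S.el a * S.el k * (S.el a)⁻¹ := by
  rw [Code.conjC, S.el_mul (Code.mulC_lt τ κ a ha k hk) (Code.invC_check τ κ a ha).1, S.el_mul ha hk,
    S.el_invC ha]

theorem exists_el {u : G} (hu : Commute u S.s) : ∃ k < 192, S.el k = u := by
  refine S.rel.mem_gen_iff.1 ?_
  rw [S.gen_eq]
  exact mem_centralizer_singleton_iff.2 hu.eq

theorem el_mem {k : ℕ} (hk : k < 192) : S.el k ∈ centralizer ({S.s} : Set G) := by
  rw [show ({S.s} : Set G) = {S.g.s} from rfl, ← S.gen_eq]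
  exact S.rel.mem_gen_iff.2 ⟨k, hk, rfl⟩

theorem commute_el {k : ℕ} (hk : k < 192) : Commute (S.el k) S.s :=
  mem_centralizer_singleton_iff.1 (S.el_mem hk)

theorem el_inj {k l : ℕ} (hk : k < 192) (hl : l < 192) : S.el k = S.el l ↔ k = l := by
  refine ⟨fun h => ?_, fun h => h ▸ rfl⟩
  have hs : Function.Surjective (fun i : Fin 192 => (⟨S.g.val i, S.rel.mem_gen_iff.2 ⟨i, i.2, rfl⟩⟩ : S.g.gen)) := by
    rintro ⟨u, hu⟩
    obtain ⟨i, hi, rfl⟩ := S.rel.mem_gen_iff.1 hu
    exact ⟨⟨i, hi⟩, rfl⟩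
  have hb := (Nat.bijective_iff_surjective_and_card _).2 ⟨hs, by rw [S.card, Nat.card_fin]⟩
  exact congrArg Fin.val (hb.1 (a₁ := ⟨k, hk⟩) (a₂ := ⟨l, hl⟩) (Subtype.ext h))

theorem card_cent : Nat.card (centralizer ({S.s} : Set G)) = 192 := by
  rw [show ({S.s} : Set G) = {S.g.s} from rfl, ← S.gen_eq]; exact S.card

theorem commute_el_iff {k l : ℕ} (hk : k < 192) (hl : l < 192) :
    Commute (S.el k) (S.el l) ↔ Code.commC τ κ k l = true := by
  rw [commute_iff_eq, ← S.el_mul hk hl, ← S.el_mul hl hk,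
    S.el_inj (Code.mulC_lt τ κ k hk l hl) (Code.mulC_lt τ κ l hl k hk), Code.commC, Nat.beq_eq]

theorem orderOf_el_iff {k : ℕ} (hk : k < 192) : orderOf (S.el k) = 2 ↔ Code.invoC τ κ k = true := by
  have : Fact (Nat.Prime 2) := ⟨Nat.prime_two⟩
  rw [orderOf_eq_prime_iff, pow_two, ← S.el_mul hk hk, ← S.el_zero,
    S.el_inj (Code.mulC_lt τ κ k hk k hk) (by norm_num), ne_eq, S.el_inj hk (by norm_num), Code.invoC,
    Bool.and_eq_true, Bool.not_eq_true', Nat.beq_eq, ← Bool.not_eq_true, Nat.beq_eq]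
  exact and_comm

theorem orderOf_s : orderOf S.s = 2 := by
  rw [← S.el_one, S.orderOf_el_iff (by norm_num)]
  cases τ <;> cases κ <;> decide +kernel

theorem ss : S.s * S.s = 1 := by rw [← pow_two, ← S.orderOf_s, pow_orderOf_eq_one]

theorem s_ne_one : S.s ≠ 1 := fun h => by
  have := S.orderOf_s
  rw [h, orderOf_one] at this
  omega

end Setting

theorem Ext.val_mem {K : Type*} [Group K] [Finite K] (D : Ext K) {τ κ : Bool} {t : Tuple K} (h : Rel τ κ t)
    (hs : t.s = D.z) {k : ℕ} (hk : k < 32) : t.val k ∈ D.Q := by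
  haveI := D.normal
  have hQ : ∀ u : K, u * u = 1 → Equiv.Perm.sign (D.f u) = 1 → D.f u = 1 := fun u hu hsg => by
    have : ∀ p : Equiv.Perm (Fin 3), p * p = 1 → Equiv.Perm.sign p = 1 → p = 1 := by decide
    exact this _ (by rw [← map_mul, hu, map_one]) hsg
  have hconj : ∀ u v w : K, v * u * v⁻¹ = w →
      Equiv.Perm.sign (D.f w) = Equiv.Perm.sign (D.f u) := fun u v w e => by
    rw [← e, map_mul, map_mul, map_inv, map_mul, map_mul, map_inv, mul_comm (Equiv.Perm.sign (D.f v)),
      mul_inv_cancel_right]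
  have key : ∀ u u' : K, u * u = 1 → u' * u' = 1 → t.x * u * t.x⁻¹ = u' → t.x * u' * t.x⁻¹ = u * u' →
      u ∈ D.Q ∧ u' ∈ D.Q := fun u u' hu hu' e e' => by
    have h1 := hconj _ _ _ e
    have h2 := hconj _ _ _ e'
    rw [map_mul, map_mul, mul_eq_right] at h2
    rw [h2] at h1
    exact ⟨D.ker ▸ hQ u hu h2, D.ker ▸ hQ u' hu' h1⟩
  obtain ⟨ha, ha'⟩ := key _ _ h.aa h.a'a' h.xa h.xa'
  obtain ⟨hc, hc'⟩ := key _ _ h.cc h.c'c' h.xc h.xc'
  have hz : t.s ∈ D.Q := hs ▸ D.zQ
  have hp : ∀ (b : Bool), ∀ v ∈ D.Q, pw b v ∈ D.Q := fun b v hv => by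
    cases b
    · exact one_mem _
    · exact hv
  rw [Tuple.val, show k % 32 = k by omega, show k / 32 = 0 by omega]
  simp only [Nat.zero_mod, Nat.zero_div, pow_zero, mul_one]
  exact mul_mem (hp _ _ hz) (mul_mem (mul_mem (hp _ _ ha) (hp _ _ ha')) (mul_mem (hp _ _ hc) (hp _ _ hc')))

/-- The hypotheses give coordinates. -/
theorem exists_setting {G : Type*} [Group G] [Finite G] (s : G) (hs : orderOf s = 2) (L : Subgroup G)
    (hL : L = centralizer ({s} : Set G)) (Q : Subgroup G) (hQ : Q = (Cfsg.pCore 2 L).map L.subtype)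
    (hQex : Cfsg.IsExtraspecial 2 Q) (hQcard : Nat.card Q = 32)
    (e : L ⧸ Cfsg.pCore 2 L ≃* Equiv.Perm (Fin 3)) (X : Sylow 3 L)
    (hCQX : Q ⊓ centralizer (((X : Subgroup L).map L.subtype : Subgroup G) : Set G) = zpowers s)
    (hnwc : ∃ g : G, g * s * g⁻¹ ∈ Q ∧ g * s * g⁻¹ ≠ s) :
    ∃ (τ κ : Bool) (S : Setting G τ κ), S.s = s := by
  have : Fact (Nat.Prime 2) := ⟨Nat.prime_two⟩
  have : Fact (Nat.Prime 3) := ⟨Nat.prime_three⟩
  subst hQ
  set Q0 := Cfsg.pCore 2 L with hQ0
  set QG := Q0.map L.subtype with hQG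
  have hsL : s ∈ L := hL ▸ mem_centralizer_singleton_iff.2 rfl
  have cardQ0 : Nat.card Q0 = 32 := by
    rw [← hQcard, Nat.card_congr (Subgroup.equivMapOfInjective Q0 L.subtype Subtype.val_injective).toEquiv]
  have hc : ∀ u : L, u * ⟨s, hsL⟩ = ⟨s, hsL⟩ * u := fun u => Subtype.ext
    (mem_centralizer_singleton_iff.1 (hL ▸ u.2 : (u : G) ∈ centralizer ({s} : Set G)))
  have hsQ : s ∈ QG := by
    have h : s ∈ QG ⊓ centralizer (((X : Subgroup L).map L.subtype : Subgroup G) : Set G) :=
      hCQX ▸ mem_zpowers s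
    exact h.1
  have hzQ : (⟨s, hsL⟩ : L) ∈ Q0 := by
    obtain ⟨w, hw, he⟩ := hsQ
    rwa [show (⟨s, hsL⟩ : L) = w from Subtype.ext he.symm]
  -- the centre of `Q`
  have hcent : ∀ u ∈ QG, (∀ v ∈ QG, u * v = v * u) → u = 1 ∨ u = s := by
    intro u hu hcom
    have hz : (⟨s, hsQ⟩ : QG) ∈ center QG := mem_center_iff.2 fun v => Subtype.ext <| by
      obtain ⟨w, -, hw⟩ := v.2
      show (v : G) * s = s * v
      rw [← hw]
      exact congrArg Subtype.val (hc w)
    have hu' : (⟨u, hu⟩ : QG) ∈ center QG :=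
      mem_center_iff.2 fun v => Subtype.ext (hcom v v.2).symm
    obtain ⟨y, -, hy⟩ := (Nat.card_eq_two_iff' (1 : center QG)).1 hQex.2
    by_cases h1 : u = 1
    · exact Or.inl h1
    · right
      have e1 := hy ⟨_, hu'⟩ (fun h => h1 (congrArg (fun x : center QG => ((x : QG) : G)) h))
      have e2 := hy ⟨_, hz⟩ (fun h => by
        have := congrArg (fun x : center QG => ((x : QG) : G)) h
        simp only [OneMemClass.coe_one] at this
        rw [this, orderOf_one] at hs; omega)
      exact congrArg (fun x : center QG => ((x : QG) : G)) (e1.trans e2.symm)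
  have hQc : ∀ w ∈ center QG, (w : G) = 1 ∨ (w : G) = s := fun w hw =>
    hcent _ w.2 fun v hv => (congrArg Subtype.val (mem_center_iff.1 hw ⟨v, hv⟩)).symm
  have hmemQ : ∀ u : L, u ∈ Q0 ↔ (u : G) ∈ QG := fun u =>
    (Subgroup.mem_map_iff_mem Subtype.val_injective).symm
  -- an element of order three
  set f : L →* Equiv.Perm (Fin 3) := e.toMonoidHom.comp (QuotientGroup.mk' Q0) with hf
  have hker : f.ker = Q0 := by
    ext u
    rw [MonoidHom.mem_ker, hf, MonoidHom.comp_apply, MulEquiv.coe_toMonoidHom, MulEquiv.map_eq_one_iff,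
      QuotientGroup.mk'_apply, QuotientGroup.eq_one_iff]
  have cardL : Nat.card L = 192 := by
    rw [Subgroup.card_eq_card_quotient_mul_card_subgroup Q0, cardQ0, Nat.card_congr e.toEquiv, Nat.card_perm,
      Nat.card_fin]
    rfl
  have cardX : Nat.card (X : Subgroup L) = 3 := by
    rw [Sylow.card_eq_multiplicity, cardL, show (192 : ℕ) = 3 ^ 1 * 64 by norm_num,
      Nat.factorization_mul (by norm_num) (by norm_num), Finsupp.add_apply, Nat.Prime.factorization_pow
        Nat.prime_three, Finsupp.single_eq_same, Nat.factorization_eq_zero_of_not_dvd (by norm_num)]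
    norm_num
  obtain ⟨x, hx⟩ := exists_prime_orderOf_dvd_card' (G := (X : Subgroup L)) 3 (by rw [cardX])
  have hxo : orderOf (x : L) = 3 := by rw [Subgroup.orderOf_coe, hx]
  obtain ⟨g, hgQ, hgs⟩ := hnwc
  obtain ⟨r, hrQ, hr⟩ := hgQ
  have hrG : (r : G) = g * s * g⁻¹ := hr
  let D : Ext L :=
    { z := ⟨s, hsL⟩
      Q := Q0
      f := f
      surj := e.surjective.comp (QuotientGroup.mk'_surjective Q0)
      ker := hker
      x := x
      cardQ := cardQ0
      zQ := hzQ
      zz := Subtype.ext (by rw [Subgroup.coe_mul, Subgroup.coe_one, ← pow_two, ← hs, pow_orderOf_eq_one])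
      z1 := fun h => by
        have h' : s = 1 := congrArg Subtype.val h
        rw [h', orderOf_one] at hs; omega
      central := hc
      sq := fun u hu => by
        have h := CfsgLib.PGroup.Frattini.pow_mem_frattini hQex.1.1 (⟨u, (hmemQ u).1 hu⟩ : QG)
        rw [hQex.1.2.1] at h
        rcases hQc _ h with h | h
        · left; exact Subtype.ext (by simpa [pow_two] using h)
        · right; exact Subtype.ext (by simpa [pow_two] using h)
      comm := fun u hu v hv => by
        have h : ⁅(⟨u, (hmemQ u).1 hu⟩ : QG), (⟨v, (hmemQ v).1 hv⟩ : QG)⁆ ∈ center QG := by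
          rw [← hQex.1.2.2]
          exact commutator_mem_commutator (mem_top _) (mem_top _)
        rcases hQc _ h with h | h <;> simp only [commutatorElement_def, Subgroup.coe_mul, InvMemClass.coe_inv] at h
        · left; exact Subtype.ext (by rwa [mul_inv_eq_one, mul_inv_eq_iff_eq_mul] at h)
        · right; exact Subtype.ext (by
            rw [mul_inv_eq_iff_eq_mul, mul_inv_eq_iff_eq_mul, mul_assoc] at h
            exact h)
      centre := fun u hu hcom => by
        rcases hcent u ((hmemQ u).1 hu) (fun v hv => by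
          obtain ⟨w, hw, rfl⟩ := hv
          exact congrArg Subtype.val (hcom w hw)) with h | h
        · exact Or.inl (Subtype.ext h)
        · exact Or.inr (Subtype.ext h)
      xord := hxo
      fix := fun u hu hfix => by
        have hX : zpowers (x : L) = (X : Subgroup L) :=
          Subgroup.eq_of_le_of_card_ge (zpowers_le.2 x.2) (by rw [Nat.card_zpowers, hxo, cardX])
        have hmem : (u : G) ∈ QG ⊓ centralizer (((X : Subgroup L).map L.subtype : Subgroup G) : Set G) := by
          refine mem_inf.2 ⟨(hmemQ u).1 hu, mem_centralizer_iff.2 ?_⟩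
          rintro _ ⟨w, hw, rfl⟩
          have hw' : w ∈ centralizer ({u} : Set L) :=
            (zpowers_le.2 (mem_centralizer_singleton_iff.2 (mul_inv_eq_iff_eq_mul.1 hfix))) (by rw [hX]; exact hw)
          exact congrArg Subtype.val (mem_centralizer_singleton_iff.1 hw')
        rw [hCQX] at hmem
        obtain ⟨m, hm⟩ := mem_powers_iff_mem_zpowers.2 hmem
        simp only at hm
        rw [pow_eq_pow_mod m (show s ^ 2 = 1 by rw [← hs, pow_orderOf_eq_one])] at hm
        rcases Nat.mod_two_eq_zero_or_one m with h | h <;> rw [h] at hm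
        · exact Or.inl (Subtype.ext (by simpa using hm.symm))
        · exact Or.inr (Subtype.ext (by simpa using hm.symm))
      a₀ := r
      a₀Q := hrQ
      a₀sq := Subtype.ext (by
        rw [Subgroup.coe_mul, Subgroup.coe_one, hrG]
        calc g * s * g⁻¹ * (g * s * g⁻¹) = g * (s * s) * g⁻¹ := by group
          _ = 1 := by rw [← pow_two, ← hs, pow_orderOf_eq_one]; group)
      a₀ne := ⟨fun h => by
        have h' : g * s * g⁻¹ = 1 := hrG ▸ congrArg Subtype.val h
        rw [conj_eq_one_iff.1 h', orderOf_one] at hs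
        omega, fun h => hgs (by rw [← hrG]; exact congrArg Subtype.val h)⟩ }
  obtain ⟨τ, κ, t, hrel, hgen, hts⟩ := D.exists_tuple
  have hinj : Function.Injective L.subtype := Subtype.val_injective
  have hrel' : Rel τ κ (t.map L.subtype) := hrel.map L.subtype
  have hgen' : (t.map L.subtype).gen = L := by
    rw [Tuple.gen_map, hgen, ← MonoidHom.range_eq_map, L.range_subtype]
  have hs' : (t.map L.subtype).s = s := congrArg Subtype.val hts
  refine ⟨τ, κ, ⟨t.map L.subtype, hrel', by rw [hgen', hs', hL], by rw [hgen', cardL],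
    ⟨g * s * g⁻¹, isConj_iff.2 ⟨g, by rw [hs']⟩, ?_, by rw [hs']; exact hgs⟩⟩, hs'⟩
  -- the coordinates of `Q`
  have hle : ∀ k, k < 32 → t.val k ∈ Q0 := fun k hk => by
    rw [show Q0 = D.Q from rfl]
    exact D.val_mem hrel hts hk
  have himg : Set.range (fun i : Fin 32 => t.val i) = (Q0 : Set L) := by
    refine Set.eq_of_subset_of_ncard_le (Set.range_subset_iff.2 fun i => hle i i.2) ?_ (Set.toFinite _)
    rw [Set.ncard_range_of_injective, Nat.card_fin, ← cardQ0, ← Nat.card_coe_set_eq, SetLike.coe_sort_coe]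
    intro i j hij
    have hcard' : Nat.card (t.gen) = 192 := by rw [hgen, Subgroup.card_top, cardL]
    have hb := (Nat.bijective_iff_surjective_and_card
      (fun k : Fin 192 => (⟨t.val k, hrel.mem_gen_iff.2 ⟨k, k.2, rfl⟩⟩ : t.gen))).2 ⟨by
        rintro ⟨u, hu⟩
        obtain ⟨k, hk, rfl⟩ := hrel.mem_gen_iff.1 hu
        exact ⟨⟨k, hk⟩, rfl⟩, by rw [hcard', Nat.card_fin]⟩
    exact Fin.ext (by
      simpa using congrArg Fin.val (hb.1 (a₁ := ⟨i, by omega⟩) (a₂ := ⟨j, by omega⟩) (Subtype.ext hij)))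
  obtain ⟨i, hi⟩ := (Set.ext_iff.1 himg r).2 hrQ
  refine ⟨i, i.2, ?_⟩
  rw [← hrG, ← hi]
  exact (t.val_map L.subtype i).trans rfl

end CfsgLib.Recognition.ExtraspecialThirtyTwo
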