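import Mathlib.GroupTheory.Transfer
import Cfsg.Agent.Lib.Recognition.ExtraspecialThirtyTwo.Normal

/-!
# A group with involution centraliser `2^(1+4).S₃` and `O₂(G) = 1` is simple

A nontrivial normal subgroup `N` has even order, so contains `s`. If a Sylow 2-subgroup of `N` lay in
`Q`, it would be abelian of order 8 with trivial automizer in `N` (Burnside), or would be `Q`, where no
involution other than `s` can be conjugate to `s` in `N`. So `N` contains `L`, hence is `G`.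
-/

set_option autoImplicit false
set_option linter.unusedSectionVars false
set_option linter.unusedVariables false
set_option linter.style.haveILetI false

namespace CfsgLib.Recognition.ExtraspecialThirtyTwo.Simplicity

open Subgroup
open scoped commutatorElement

variable {G : Type*} [Group G] [Finite G]

/-- Subgroups of odd order and 2-subgroups meet trivially. -/
theorem eq_one_of_odd_of_two {H : Type*} [Group H] {u : H} {k : ℕ} (h : u ^ 2 ^ k = 1) {n : ℕ}
    (hn : Odd n) (hun : u ^ n = 1) : u = 1 := by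
  have h1 := pow_gcd_eq_one.2 ⟨h, hun⟩
  rwa [Nat.Coprime.gcd_eq_one ((Nat.coprime_two_left.2 hn).pow_left k), pow_one] at h1

/-- The hypotheses on the involution centraliser. -/
structure Hyp (s : G) (L Q : Subgroup G) (X : Sylow 3 L) : Prop where
  ord : orderOf s = 2
  cent : L = Subgroup.centralizer ({s} : Set G)
  core : Q = (Cfsg.pCore 2 L).map L.subtype
  ex : Cfsg.IsExtraspecial 2 Q
  cardQ : Nat.card Q = 32
  quot : Nonempty (L ⧸ Cfsg.pCore 2 L ≃* Equiv.Perm (Fin 3))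
  fix : Q ⊓ Subgroup.centralizer (((X : Subgroup L).map L.subtype : Subgroup G) : Set G) = zpowers s
  nwc : ∃ g : G, g * s * g⁻¹ ∈ Q ∧ g * s * g⁻¹ ≠ s

namespace Hyp

variable {s : G} {L Q : Subgroup G} {X : Sylow 3 L} (h : Hyp s L Q X)
include h

theorem mem_iff {g : G} : g ∈ L ↔ g * s = s * g := by
  rw [h.cent, mem_centralizer_singleton_iff]

theorem s_sq : s * s = 1 := by rw [← pow_two, ← h.ord, pow_orderOf_eq_one]

theorem s_ne : s ≠ 1 := fun e => by have := h.ord; rw [e, orderOf_one] at this; omega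

theorem s_inv : s⁻¹ = s := inv_eq_of_mul_eq_one_right h.s_sq

theorem s_mem : s ∈ Q := (h.fix.ge (mem_zpowers s)).1

theorem Q_le : Q ≤ L := h.core ▸ map_subtype_le _

theorem Q_conj {g : G} (hg : g ∈ L) {q : G} (hq : q ∈ Q) : g * q * g⁻¹ ∈ Q := by
  rw [h.core] at hq ⊢
  obtain ⟨w, hw, rfl⟩ := hq
  exact ⟨⟨g, hg⟩ * w * ⟨g, hg⟩⁻¹, (inferInstance : (Cfsg.pCore 2 L).Normal).conj_mem w hw _, rfl⟩

theorem le_Q {U : Subgroup G} (hUL : U ≤ L) (hU : IsPGroup 2 U)
    (hn : ∀ g ∈ L, ∀ u ∈ U, g * u * g⁻¹ ∈ U) : U ≤ Q := by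
  intro u hu
  haveI : (U.subgroupOf L).Normal := ⟨fun w hw g => mem_subgroupOf.2 (hn g g.2 w hw)⟩
  rw [h.core]
  exact ⟨⟨u, hUL hu⟩, CfsgLib.Solvable.Cores.le_pCore (hU.of_equiv (subgroupOfEquivOfLe hUL).symm)
    (mem_subgroupOf.2 hu), rfl⟩

theorem centre {q : G} (hq : q ∈ Q) (hc : ∀ r ∈ Q, q * r = r * q) : q = 1 ∨ q = s := by
  have hsC : (⟨s, h.s_mem⟩ : Q) ∈ Subgroup.center Q :=
    Subgroup.mem_center_iff.2 fun r => Subtype.ext (h.mem_iff.1 (h.Q_le r.2))
  haveI := Fintype.ofFinite (Subgroup.center Q)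
  by_contra hne
  push Not at hne
  have h3 : 2 < Nat.card (Subgroup.center Q) := by
    rw [Nat.card_eq_fintype_card]
    refine Fintype.two_lt_card_iff.2 ⟨1, ⟨_, hsC⟩,
      ⟨⟨q, hq⟩, Subgroup.mem_center_iff.2 fun r => Subtype.ext (hc r r.2).symm⟩, ?_, ?_, ?_⟩
    · exact fun e => h.s_ne (congrArg (fun w : Subgroup.center Q => ((w : Q) : G)) e).symm
    · exact fun e => hne.1 (congrArg (fun w : Subgroup.center Q => ((w : Q) : G)) e).symm
    · exact fun e => hne.2 (congrArg (fun w : Subgroup.center Q => ((w : Q) : G)) e).symm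
  have := h.ex.2
  omega

theorem comm_cases {a c : G} (ha : a ∈ Q) (hc : c ∈ Q) : ⁅a, c⁆ = 1 ∨ ⁅a, c⁆ = s := by
  refine h.centre ?_ fun r hr => ?_
  · rw [commutatorElement_def]
    exact mul_mem (mul_mem (mul_mem ha hc) (inv_mem ha)) (inv_mem hc)
  · have hm : ⁅(⟨a, ha⟩ : Q), (⟨c, hc⟩ : Q)⁆ ∈ Subgroup.center Q :=
      h.ex.1.2.2 ▸ commutator_mem_commutator (mem_top _) (mem_top _)
    exact (congrArg Subtype.val (Subgroup.mem_center_iff.1 hm ⟨r, hr⟩)).symm

theorem s_cases {u : G} (hu : u ∈ zpowers s) : u = 1 ∨ u = s := by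
  obtain ⟨n, rfl⟩ := mem_zpowers_iff.1 hu
  rw [zpow_eq_zpow_emod n (show s ^ (2 : ℤ) = 1 by rw [zpow_two]; exact h.s_sq)]
  rcases (show n % 2 = 0 ∨ n % 2 = 1 by omega) with e | e <;> simp [e]

theorem card_L : Nat.card L = 192 := by
  obtain ⟨e⟩ := h.quot
  rw [← (Cfsg.pCore 2 L).card_mul_index, ← card_map_of_injective L.subtype_injective, ← h.core,
    h.cardQ, index_eq_card, Nat.card_congr e.toEquiv, Nat.card_perm, Nat.card_fin]
  rfl

/-- A Sylow 3-subgroup of `L` fixes only `1` and `s` in `Q`. -/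
theorem three_fix {w : G} (hw : w ∈ L) (ho : orderOf w = 3) {u : G} (hu : u ∈ Q)
    (hc : w * u = u * w) : u = 1 ∨ u = s := by
  haveI : Fact (Nat.Prime 3) := ⟨Nat.prime_three⟩
  set wL : L := ⟨w, hw⟩ with hwL
  have hwo : orderOf wL = 3 := by rw [← Subgroup.orderOf_coe, hwL]; exact ho
  let P : Sylow 3 L := (IsPGroup.of_card (n := 1) (by rw [Nat.card_zpowers, hwo, pow_one])).toSylow
    (show ¬ 3 ∣ (zpowers wL).index from fun hd => by
      have h1 := (zpowers wL).card_mul_index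
      rw [Nat.card_zpowers, hwo, h.card_L] at h1
      omega)
  obtain ⟨c, hc'⟩ := MulAction.exists_smul_eq L P X
  have hmem : (c : G) * u * (c : G)⁻¹ ∈ zpowers s := by
    rw [← h.fix]
    refine ⟨h.Q_conj c.2 hu, mem_centralizer_iff.2 ?_⟩
    rintro _ ⟨x, hx, rfl⟩
    rw [← hc'] at hx
    obtain ⟨w', hw', rfl⟩ := hx
    obtain ⟨n, rfl⟩ := mem_zpowers_iff.1 (show w' ∈ zpowers wL from hw')
    show (c : G) * ((wL ^ n : L) : G) * (c : G)⁻¹ * ((c : G) * u * (c : G)⁻¹) =
      (c : G) * u * (c : G)⁻¹ * ((c : G) * ((wL ^ n : L) : G) * (c : G)⁻¹)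
    rw [Subgroup.coe_zpow, show ((wL : L) : G) = w from rfl]
    have hcn : w ^ n * u = u * w ^ n := ((show Commute w u from hc).zpow_left n).eq
    calc (c : G) * w ^ n * (c : G)⁻¹ * ((c : G) * u * (c : G)⁻¹) = c * (w ^ n * u) * (c : G)⁻¹ := by group
      _ = _ := by rw [hcn]; group
  rcases h.s_cases hmem with e | e
  · exact Or.inl (conj_eq_one_iff.1 e)
  · refine Or.inr ?_
    calc u = (c : G)⁻¹ * ((c : G) * u * (c : G)⁻¹) * c := by group
      _ = s := by rw [e, mul_assoc, ← h.mem_iff.1 c.2, inv_mul_cancel_left]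

theorem exists_x : ∃ x ∈ L, orderOf x = 3 := by
  haveI : Fact (Nat.Prime 3) := ⟨Nat.prime_three⟩
  obtain ⟨x, hx⟩ := exists_prime_orderOf_dvd_card' (G := L) 3 (by rw [h.card_L]; norm_num)
  exact ⟨x, x.2, by rw [Subgroup.orderOf_coe, hx]⟩

/-- Normal subgroups of `L` inside `Q` have order 2, 8 or 32. -/
theorem card_normal {U : Subgroup G} (hUQ : U ≤ Q) (hsU : s ∈ U)
    (hn : ∀ g ∈ L, ∀ u ∈ U, g * u * g⁻¹ ∈ U) :
    Nat.card U = 2 ∨ Nat.card U = 8 ∨ Nat.card U = 32 := by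
  haveI : Fact (Nat.Prime 3) := ⟨Nat.prime_three⟩
  obtain ⟨x, hx, hxo⟩ := h.exists_x
  letI : MulAction (zpowers x) U :=
    { smul := fun g u => ⟨(g : G) * u * (g : G)⁻¹, hn g (zpowers_le.2 hx g.2) u u.2⟩
      one_smul := fun u => Subtype.ext (by show (1 : G) * u * (1 : G)⁻¹ = u; simp)
      mul_smul := fun g g' u => Subtype.ext (by
        show ((g : G) * g') * u * ((g : G) * g')⁻¹ = g * (g' * u * (g' : G)⁻¹) * (g : G)⁻¹
        group) }
  have hp : IsPGroup 3 (zpowers x) := IsPGroup.of_card (n := 1) (by rw [Nat.card_zpowers, hxo, pow_one])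
  have h1 := hp.card_modEq_card_fixedPoints U
  have hfix : Nat.card (MulAction.fixedPoints (zpowers x) U) = 2 := by
    refine le_antisymm ?_ ?_
    · rw [Nat.card_coe_set_eq]
      refine (Set.ncard_le_ncard (t := {1, ⟨s, hsU⟩}) (fun u hu => ?_) (Set.toFinite _)).trans
        ((Set.ncard_insert_le _ _).trans (by rw [Set.ncard_singleton]))
      have he := congrArg Subtype.val (hu ⟨x, mem_zpowers x⟩)
      rcases h.three_fix hx hxo (hUQ u.2) (mul_inv_eq_iff_eq_mul.1 he) with e | e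
      · exact Or.inl (Subtype.ext e)
      · exact Or.inr (Subtype.ext e)
    · haveI : Nontrivial (MulAction.fixedPoints (zpowers x) U) := by
        refine ⟨⟨1, fun g => Subtype.ext (by show (g : G) * (1 : G) * (g : G)⁻¹ = 1; simp)⟩,
          ⟨⟨s, hsU⟩, fun g => Subtype.ext (mul_inv_eq_iff_eq_mul.2
            (h.mem_iff.1 (zpowers_le.2 hx g.2)))⟩, fun e => h.s_ne ?_⟩
        exact (congrArg (fun w : MulAction.fixedPoints (zpowers x) U => ((w : U) : G)) e).symm
      exact Finite.one_lt_card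
  rw [hfix] at h1
  obtain ⟨k, hk, hkc⟩ := (Nat.dvd_prime_pow Nat.prime_two).1
    (show Nat.card U ∣ 2 ^ 5 by rw [show (2 : ℕ) ^ 5 = 32 from rfl, ← h.cardQ]; exact card_dvd_of_le hUQ)
  rw [hkc] at h1 ⊢
  interval_cases k <;> simp_all (config := { decide := true }) [Nat.ModEq]

/-- A Sylow 2-subgroup of `L` is a Sylow 2-subgroup of `G`, with centre `⟨s⟩`. -/
theorem exists_sylow : ∃ S : Sylow 2 G, (S : Subgroup G) ≤ L ∧ Q ≤ S ∧ Nat.card S = 64 ∧
    ∀ u ∈ (S : Subgroup G), (∀ v ∈ (S : Subgroup G), u * v = v * u) → u = 1 ∨ u = s := by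
  haveI : Fact (Nat.Prime 2) := ⟨Nat.prime_two⟩
  haveI : Fact (Nat.Prime 3) := ⟨Nat.prime_three⟩
  obtain ⟨S₀⟩ : Nonempty (Sylow 2 L) := inferInstance
  set S₁ := (S₀ : Subgroup L).map L.subtype with hS₁
  have hcard : Nat.card S₁ = 64 := by
    rw [hS₁, card_map_of_injective L.subtype_injective, S₀.card_eq_multiplicity, h.card_L]
    have : (192 : ℕ).factorization 2 = 6 := by
      rw [show (192 : ℕ) = 2 ^ 6 * 3 from rfl, Nat.factorization_mul (by norm_num) (by norm_num)]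
      rw [Finsupp.add_apply, Nat.Prime.factorization_pow Nat.prime_two, Nat.prime_three.factorization]
      simp
    rw [this]
    rfl
  have hQS : Q ≤ S₁ := by
    rw [h.core, hS₁]
    refine map_mono ?_
    have hp : IsPGroup 2 ↥(Cfsg.pCore 2 L ⊔ (S₀ : Subgroup L)) :=
      (CfsgLib.Solvable.Cores.isPGroup_pCore 2).to_sup_of_normal_left' S₀.isPGroup'
        (by rw [Subgroup.normalizer_eq_top]; exact le_top)
    exact le_sup_left.trans (S₀.is_maximal' hp le_sup_right).le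
  have hcen : ∀ u ∈ S₁, (∀ v ∈ S₁, u * v = v * u) → u = 1 ∨ u = s := by
    intro u hu hc
    let C : Subgroup G := L ⊓ centralizer (Q : Set G)
    have hC2 : IsPGroup 2 C := by
      have h3 : ¬ 3 ∣ Nat.card C := fun h3 => by
        obtain ⟨w, hw⟩ := exists_prime_orderOf_dvd_card' 3 h3
        have hsub : Q ≤ zpowers s := fun q hq => by
          rcases h.three_fix w.2.1 (by rw [Subgroup.orderOf_coe, hw]) hq
            (mem_centralizer_iff.1 w.2.2 q hq).symm with e | e <;> rw [e]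
          · exact one_mem _
          · exact mem_zpowers s
        have := card_le_of_le hsub
        rw [h.cardQ, Nat.card_zpowers, h.ord] at this
        omega
      have hd : Nat.card C ∣ 3 * 64 := by
        have := card_dvd_of_le (show C ≤ L from inf_le_left)
        rwa [h.card_L] at this
      obtain ⟨j, -, hj⟩ := (Nat.dvd_prime_pow Nat.prime_two).1 (show Nat.card C ∣ 2 ^ 6 from
        ((Nat.prime_three.coprime_iff_not_dvd.2 h3).symm).dvd_of_dvd_mul_left hd)
      exact IsPGroup.of_card hj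
    have hCQ : C ≤ Q := h.le_Q inf_le_left hC2 fun g hg w hw => ⟨(mul_mem (mul_mem hg hw.1) (inv_mem hg) : g * w * g⁻¹ ∈ L),
      mem_centralizer_iff.2 fun q hq => by
        have h1 := mem_centralizer_iff.1 hw.2 _ (h.Q_conj (inv_mem hg) hq)
        rw [inv_inv] at h1
        calc q * (g * w * g⁻¹) = g * ((g⁻¹ * q * g) * w) * g⁻¹ := by group
          _ = g * (w * (g⁻¹ * q * g)) * g⁻¹ := by rw [h1]
          _ = g * w * g⁻¹ * q := by group⟩
    have huL : u ∈ L := map_subtype_le _ hu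
    exact h.centre (hCQ ⟨huL, mem_centralizer_iff.2 fun q hq => (hc q (hQS hq)).symm⟩)
      fun r hr => hc r (hQS hr)
  have hS2 : IsPGroup 2 S₁ := IsPGroup.of_card (n := 6) hcard
  obtain ⟨S, hS⟩ := hS2.exists_le_sylow
  have heq : S₁ = (S : Subgroup G) := by
    have hSL : (S : Subgroup G) ≤ L := by
      haveI : Nontrivial S := by
        refine ⟨⟨s, hS (hQS h.s_mem)⟩, 1, fun e => h.s_ne (congrArg Subtype.val e)⟩
      haveI := S.isPGroup'.center_nontrivial
      obtain ⟨c, hc⟩ := exists_ne (1 : Subgroup.center S)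
      have hcomm : ∀ v ∈ (S : Subgroup G), ((c : S) : G) * v = v * ((c : S) : G) := fun v hv =>
        (congrArg Subtype.val (Subgroup.mem_center_iff.1 c.2 ⟨v, hv⟩)).symm
      have hcL : ((c : S) : G) ∈ L := h.mem_iff.2 (hcomm s (hS (hQS h.s_mem)))
      have hcs : ((c : S) : G) = s := by
        let C₁ : Subgroup G := S₁ ⊔ zpowers ((c : S) : G)
        have hC₁ : C₁ ≤ L := sup_le (map_subtype_le _) (zpowers_le.2 hcL)
        have hC₁2 : IsPGroup 2 (C₁.subgroupOf L) :=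
          (S.isPGroup'.to_le (sup_le hS (zpowers_le.2 (c : S).2))).of_equiv (subgroupOfEquivOfLe hC₁).symm
        have hle : (S₀ : Subgroup L) ≤ C₁.subgroupOf L := fun w hw =>
          mem_subgroupOf.2 (mem_sup_left (mem_map_of_mem _ hw))
        have hcS : ((c : S) : G) ∈ S₁ := by
          have h1 : (⟨_, hcL⟩ : L) ∈ C₁.subgroupOf L := mem_subgroupOf.2 (mem_sup_right (mem_zpowers _))
          rw [S₀.is_maximal' hC₁2 hle] at h1
          exact ⟨_, h1, rfl⟩
        refine (hcen _ hcS fun v hv => hcomm v (hS hv)).resolve_left fun e => hc ?_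
        exact Subtype.ext (Subtype.ext e)
      exact fun v hv => h.mem_iff.2 (hcs ▸ hcomm v hv).symm
    refine Subgroup.eq_of_le_of_card_ge hS ?_
    have h2 : IsPGroup 2 ((S : Subgroup G).subgroupOf L) :=
      S.isPGroup'.of_equiv (subgroupOfEquivOfLe hSL).symm
    have hle : (S₀ : Subgroup L) ≤ (S : Subgroup G).subgroupOf L := fun w hw =>
      mem_subgroupOf.2 (hS (mem_map_of_mem _ hw))
    rw [← Nat.card_congr (subgroupOfEquivOfLe hSL).toEquiv, S₀.is_maximal' h2 hle, hS₁,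
      card_map_of_injective L.subtype_injective]
  exact ⟨S, heq ▸ map_subtype_le _, heq ▸ hQS, by rw [← hcard, heq], heq ▸ hcen⟩

/-- A normal subgroup of odd order is trivial. -/
theorem eq_bot_of_odd (N : Subgroup G) (hN : N.Normal) (hodd : Odd (Nat.card N)) : N = ⊥ := by
  obtain ⟨g₀, htQ, hts⟩ := h.nwc
  set t := g₀ * s * g₀⁻¹ with ht
  have hodd_pow : ∀ w ∈ N, ∀ k : ℕ, w ^ 2 ^ k = 1 → w = 1 := fun w hw k hk =>
    eq_one_of_odd_of_two hk hodd (congrArg Subtype.val (pow_card_eq_one' (x := (⟨w, hw⟩ : N))))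
  have hcentral : ∀ w ∈ N, w * s = s * w → w = 1 := by
    intro w hw hws
    have hle : N ⊓ L ≤ centralizer (Q : Set G) := fun v hv => mem_centralizer_iff.2 fun q hq => by
      have h1 : ⁅q, v⁆ ∈ N := by
        rw [commutatorElement_def]; exact mul_mem (hN.conj_mem v hv.1 q) (inv_mem hv.1)
      have h2 : ⁅q, v⁆ ∈ Q := by
        rw [commutatorElement_def, mul_assoc, mul_assoc, ← mul_assoc v]
        exact mul_mem hq (h.Q_conj hv.2 (inv_mem hq))
      obtain ⟨k, hk⟩ := h.ex.1.1 ⟨_, h2⟩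
      exact commutatorElement_eq_one_iff_mul_comm.1 (hodd_pow _ h1 k (congrArg Subtype.val hk))
    have hcard : Nat.card ↥(N ⊓ L) ∣ 192 := h.card_L ▸ card_dvd_of_le inf_le_right
    by_contra hw1
    have hn1 : Nat.card ↥(N ⊓ L) ≠ 1 := fun e => hw1 (by
      have := (Subgroup.eq_bot_of_card_eq _ e) ▸ (show w ∈ N ⊓ L from ⟨hw, h.mem_iff.2 hws⟩)
      exact mem_bot.1 this)
    obtain ⟨p, hp, hpd⟩ := Nat.exists_prime_and_dvd hn1
    haveI := Fact.mk hp
    obtain ⟨v, hv⟩ := exists_prime_orderOf_dvd_card' p hpd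
    have hpN : p ∣ Nat.card N := hpd.trans (card_dvd_of_le inf_le_left)
    rcases (Nat.Prime.dvd_mul hp).1 (show p ∣ 2 ^ 6 * 3 from hpd.trans hcard) with h2 | h3
    · have := (Nat.prime_dvd_prime_iff_eq hp Nat.prime_two).1 (hp.dvd_of_dvd_pow h2)
      subst this
      exact Nat.not_even_iff_odd.2 hodd (even_iff_two_dvd.2 hpN)
    · have := (Nat.prime_dvd_prime_iff_eq hp Nat.prime_three).1 h3
      subst this
      rcases h.three_fix v.2.2 (by rw [Subgroup.orderOf_coe, hv]) htQ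
        (mem_centralizer_iff.1 (hle v.2) t htQ).symm with e | e
      · exact h.s_ne (conj_eq_one_iff.1 e)
      · exact hts e
  -- conjugates of `s` centralise nothing in `N`
  have hconj : ∀ g : G, ∀ w ∈ N, w * (g * s * g⁻¹) = (g * s * g⁻¹) * w → w = 1 := by
    intro g w hw hc
    have hw' : g⁻¹ * w * g ∈ N := by have := hN.conj_mem w hw g⁻¹; rwa [inv_inv] at this
    have h1 : g⁻¹ * w * g * s = s * (g⁻¹ * w * g) := by
      calc g⁻¹ * w * g * s = g⁻¹ * (w * (g * s * g⁻¹)) * g := by group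
        _ = g⁻¹ * ((g * s * g⁻¹) * w) * g := by rw [hc]
        _ = s * (g⁻¹ * w * g) := by group
    have h2 := hcentral _ hw' h1
    calc w = g * (g⁻¹ * w * g) * g⁻¹ := by group
      _ = 1 := by rw [h2]; group
  -- all of these invert `N`
  have hinv : ∀ g : G, ∀ w ∈ N, (g * s * g⁻¹) * w * (g * s * g⁻¹) = w⁻¹ := by
    intro g
    set u := g * s * g⁻¹ with hu
    have huu : u * u = 1 := by
      rw [hu]; calc g * s * g⁻¹ * (g * s * g⁻¹) = g * (s * s) * g⁻¹ := by group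
        _ = 1 := by rw [h.s_sq]; group
    haveI := hN
    let f : N → N := fun w => ⟨(w : G)⁻¹ * (u * w * u⁻¹), mul_mem (inv_mem w.2) (hN.conj_mem w w.2 u)⟩
    have hf : Function.Surjective f := (Finite.injective_iff_surjective).1 fun w w' e => by
      have e' : (w : G)⁻¹ * (u * w * u⁻¹) = (w' : G)⁻¹ * (u * w' * u⁻¹) := congrArg Subtype.val e
      refine Subtype.ext (mul_inv_eq_one.1 (hconj g _ (mul_mem w.2 (inv_mem w'.2)) ?_))
      rw [← hu]
      calc (w : G) * (w' : G)⁻¹ * u = (w : G) * ((w' : G)⁻¹ * (u * w' * u⁻¹)) * (u * (w' : G)⁻¹) := by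
            rw [inv_eq_of_mul_eq_one_right huu]; group; simp [huu, mul_assoc]
        _ = u * ((w : G) * (w' : G)⁻¹) := by rw [← e']; group
    intro w hw
    obtain ⟨v, hv⟩ := hf ⟨w, hw⟩
    have hv' : (v : G)⁻¹ * (u * v * u⁻¹) = w := congrArg Subtype.val hv
    rw [inv_eq_of_mul_eq_one_right huu] at hv'
    rw [← hv']
    have hui : u⁻¹ = u := inv_eq_of_mul_eq_one_right huu
    calc u * ((v : G)⁻¹ * (u * v * u)) * u = u * (v : G)⁻¹ * u * v * (u * u) := by group
      _ = u * (v : G)⁻¹ * u * v := by rw [huu, mul_one]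
      _ = _ := by simp only [mul_inv_rev, inv_inv, hui, mul_assoc]
  -- two of them multiply to a third
  obtain ⟨q, hq, hqt⟩ : ∃ q ∈ Q, q * t * q⁻¹ = s * t := by
    obtain ⟨q, hq, hne⟩ : ∃ q ∈ Q, q * t ≠ t * q := by
      by_contra hall
      push Not at hall
      exact (h.centre htQ fun r hr => (hall r hr).symm).elim
        (fun e => h.s_ne (conj_eq_one_iff.1 e)) hts
    refine ⟨q, hq, ?_⟩
    rcases h.comm_cases hq htQ with e | e
    · exact absurd (commutatorElement_eq_one_iff_mul_comm.1 e) hne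
    · rw [← e]; simp only [commutatorElement_def]; group
  refine (Subgroup.eq_bot_iff_forall N).2 fun w hw => ?_
  have hz := hinv 1 w hw
  rw [one_mul, inv_one, mul_one] at hz
  have hst : (q * g₀) * s * (q * g₀)⁻¹ = s * t := by rw [← hqt, ht]; group
  have h3 := hinv (q * g₀) w hw
  rw [hst] at h3
  have h4 := hinv g₀ w⁻¹ (inv_mem hw)
  rw [inv_inv, ← ht] at h4
  refine hconj (q * g₀) w hw ?_
  rw [hst]
  have hst2 : (s * t) * (s * t) = 1 := by
    rw [← hqt]
    calc q * t * q⁻¹ * (q * t * q⁻¹) = q * (g₀ * (s * s) * g₀⁻¹) * q⁻¹ := by rw [ht]; group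
      _ = 1 := by rw [h.s_sq]; group
  have hts' : t * s = s * t := (h.mem_iff.1 (h.Q_le htQ))
  have h5 : (s * t) * w * (s * t) = w := by
    calc (s * t) * w * (s * t) = t * (s * w * s) * t := by
          rw [← hts']
          nth_rewrite 2 [hts']
          group
      _ = w := by rw [hz, h4]
  rw [h3] at h5
  calc w * (s * t) = (s * t) * (s * t) * w * (s * t) := by rw [hst2, one_mul]
    _ = (s * t) * ((s * t) * w * (s * t)) := by group
    _ = (s * t) * w := by rw [h3, h5]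

/-- No conjugate of `s` other than `s` lies in an extraspecial Sylow 2-subgroup of `N`. -/
theorem false_of_thirtytwo (N P : Subgroup G) [N.Normal] (hPQ : P = Q)
    (hfr : ∀ g : G, ∃ n ∈ N, ∀ w ∈ P, n⁻¹ * g * w * (n⁻¹ * g)⁻¹ ∈ P) (g₀ : G)
    (hg₀ : g₀ * s * g₀⁻¹ ∈ Q ∧ g₀ * s * g₀⁻¹ ≠ s) (hP2 : IsPGroup 2 P)
    (hPN : P ≤ N) (hPsyl : ¬ 2 ∣ (P.subgroupOf N).index) : False := by
  haveI : Fact (Nat.Prime 2) := ⟨Nat.prime_two⟩
  subst hPQ
  obtain ⟨htQ, hts⟩ := hg₀
  set t := g₀ * s * g₀⁻¹ with ht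
  obtain ⟨n, hn, hnQ⟩ := hfr g₀
  have hl : n⁻¹ * g₀ ∈ L := by
    set l := n⁻¹ * g₀ with hl'
    refine h.mem_iff.2 (mul_inv_eq_iff_eq_mul.1 ((h.centre (hnQ s h.s_mem) fun r hr => ?_).resolve_left
      fun e => h.s_ne (conj_eq_one_iff.1 e)))
    have hinj : Function.Bijective (fun w : P => (⟨l * w * l⁻¹, hnQ w w.2⟩ : P)) :=
      Finite.injective_iff_bijective.1 fun w w' e => Subtype.ext (by simpa using congrArg Subtype.val e)
    obtain ⟨w, hw⟩ := hinj.2 ⟨r, hr⟩
    have hw' : l * (w : G) * l⁻¹ = r := congrArg Subtype.val hw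
    have hc : s * (w : G) = w * s := (h.mem_iff.1 (h.Q_le w.2)).symm
    rw [← hw']
    calc l * s * l⁻¹ * (l * w * l⁻¹) = l * (s * w) * l⁻¹ := by group
      _ = l * w * l⁻¹ * (l * s * l⁻¹) := by rw [hc]; group
  -- `g ∈ N` carries `t` to `s`
  have hgt : n⁻¹ * t * n = s := by
    calc n⁻¹ * t * n = (n⁻¹ * g₀) * s * (n⁻¹ * g₀)⁻¹ := by rw [ht]; group
      _ = s := mul_inv_eq_iff_eq_mul.2 (h.mem_iff.1 hl)
  let f : P →* zpowers s :=
    { toFun := fun q => ⟨⁅t, (q : G)⁆, by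
        rcases h.comm_cases htQ q.2 with e | e <;> rw [e]
        · exact one_mem _
        · exact mem_zpowers s⟩
      map_one' := Subtype.ext (commutatorElement_one_right t)
      map_mul' := fun q r => Subtype.ext (by
        show ⁅t, (q : G) * r⁆ = ⁅t, (q : G)⁆ * ⁅t, (r : G)⁆
        calc ⁅t, (q : G) * r⁆ = ⁅t, (q : G)⁆ * ((q : G) * ⁅t, (r : G)⁆ * (q : G)⁻¹) := by
              simp only [commutatorElement_def]; group
          _ = _ := by
              congr 1
              rcases h.comm_cases htQ r.2 with e | e <;> rw [e]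
              · group
              · exact mul_inv_eq_iff_eq_mul.2 (h.mem_iff.1 (h.Q_le q.2))) }
  have hk : 16 ≤ Nat.card f.ker := by
    have h1 := f.ker.card_mul_index
    rw [index_ker, h.cardQ] at h1
    have h2 : Nat.card f.range ≤ 2 := by
      have := card_le_card_group f.range
      rwa [Nat.card_zpowers, h.ord] at this
    nlinarith
  -- the carried centraliser lies in `Q`
  have hCin : ∀ c ∈ f.ker, n⁻¹ * (c : G) * n ∈ P := by
    intro c hc
    have htc : t * c = c * t := commutatorElement_eq_one_iff_mul_comm.1 (congrArg Subtype.val hc)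
    set v := n⁻¹ * (c : G) * n with hv
    have hvs : v * s = s * v := by
      rw [hv, ← hgt]
      calc n⁻¹ * c * n * (n⁻¹ * t * n) = n⁻¹ * (c * t) * n := by group
        _ = n⁻¹ * t * n * (n⁻¹ * c * n) := by rw [← htc]; group
    have hvN : v ∈ N := by
      have hcN : (c : G) ∈ N := hPN c.2
      exact mul_mem (mul_mem (inv_mem hn) hcN) hn
    have hvL : v ∈ L := h.mem_iff.2 hvs
    let A : Subgroup G := P ⊔ zpowers v
    have hA2 : IsPGroup 2 A := by
      refine hP2.to_sup_of_normal_left' ?_ (zpowers_le.2 (Subgroup.mem_normalizer_iff.2 fun q => ?_))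
      · obtain ⟨k, hk⟩ := hP2 c
        have hvk : v ^ 2 ^ k = 1 := by
          rw [hv, show n⁻¹ * (c : G) * n = n⁻¹ * c * n⁻¹⁻¹ by group, conj_pow,
            show (c : G) ^ 2 ^ k = 1 from congrArg Subtype.val hk]
          group
        obtain ⟨j, -, hj⟩ := (Nat.dvd_prime_pow Nat.prime_two).1 (orderOf_dvd_of_pow_eq_one hvk)
        exact IsPGroup.of_card (by rw [Nat.card_zpowers, hj])
      · refine ⟨h.Q_conj hvL, fun hq => ?_⟩
        have := h.Q_conj (inv_mem hvL) hq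
        rwa [inv_inv, show v⁻¹ * (v * q * v⁻¹) * v = q by group] at this
    have hAN : A ≤ N := sup_le hPN (zpowers_le.2 hvN)
    let PN : Sylow 2 N := (hP2.of_equiv (subgroupOfEquivOfLe
      hPN).symm).toSylow hPsyl
    have := PN.is_maximal' (Q := A.subgroupOf N) (hA2.of_equiv (subgroupOfEquivOfLe hAN).symm)
      (fun w hw => mem_subgroupOf.2 (mem_sup_left (mem_subgroupOf.1 hw)))
    have h2 : (⟨v, hvN⟩ : N) ∈ A.subgroupOf N := mem_subgroupOf.2 (mem_sup_right (mem_zpowers v))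
    rw [this] at h2
    exact mem_subgroupOf.1 h2
  obtain ⟨a, ha, c, hc, hne⟩ : ∃ a ∈ f.ker, ∃ c ∈ f.ker, (a : G) * c ≠ c * a := by
    by_contra hall
    push Not at hall
    have := NormalCase.abelian_card_le h.ex h.cardQ f.ker fun a ha c hc => Subtype.ext (hall a ha c hc)
    omega
  have h1 : ⁅(a : G), (c : G)⁆ = s := (h.comm_cases a.2 c.2).resolve_left fun e =>
    hne (commutatorElement_eq_one_iff_mul_comm.1 e)
  have h2 : n⁻¹ * s * n = ⁅n⁻¹ * (a : G) * n, n⁻¹ * (c : G) * n⁆ := by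
    rw [← h1]; simp only [commutatorElement_def]; group
  rcases h.comm_cases (hCin a ha) (hCin c hc) with e | e
  · rw [e] at h2
    refine h.s_ne ?_
    calc s = n * (n⁻¹ * s * n) * n⁻¹ := by group
      _ = 1 := by rw [h2]; group
  · rw [e] at h2
    refine hts ?_
    calc t = n * (n⁻¹ * t * n) * n⁻¹ := by group
      _ = s := by rw [hgt]; conv_lhs => rw [← h2]
                  group

/-- If `N ⊓ L` has an element of order three, `N` contains at least half of `Q`. -/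
theorem half_le (N : Subgroup G) [hN : N.Normal] {x : G} (hx : x ∈ N ⊓ L) (hxo : orderOf x = 3) :
    32 ≤ 2 * Nat.card ↥(Q ⊓ N) := by
  classical
  let f : Q → ↥(Q ⊓ N) := fun q => ⟨(q : G)⁻¹ * (x * q * x⁻¹), by
    refine ⟨(mul_mem (inv_mem q.2) (h.Q_conj hx.2 q.2) : (q : G)⁻¹ * (x * q * x⁻¹) ∈ Q), ?_⟩
    show (q : G)⁻¹ * (x * q * x⁻¹) ∈ N
    have := mul_mem (hN.conj_mem _ hx.1 (q : G)⁻¹) (inv_mem hx.1)
    rw [inv_inv] at this
    simpa [mul_assoc] using this⟩
  haveI := Fintype.ofFinite Q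
  haveI := Fintype.ofFinite ↥(Q ⊓ N)
  have h2 : ∀ y ∈ (Finset.univ : Finset Q).image f,
      (Finset.univ.filter fun q : Q => f q = y).card ≤ 2 := by
    intro y hy
    obtain ⟨q, -, rfl⟩ := Finset.mem_image.1 hy
    refine (Finset.card_le_card (t := {q, ⟨s, h.s_mem⟩ * q}) fun r hr => ?_).trans Finset.card_le_two
    have e1 : (r : G)⁻¹ * (x * r * x⁻¹) = (q : G)⁻¹ * (x * q * x⁻¹) :=
      congrArg Subtype.val (Finset.mem_filter.1 hr).2
    have hc : x * ((r : G) * (q : G)⁻¹) = (r : G) * (q : G)⁻¹ * x := by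
      calc x * ((r : G) * (q : G)⁻¹) = (r : G) * ((r : G)⁻¹ * (x * r * x⁻¹)) * (x * (q : G)⁻¹) := by group
        _ = _ := by rw [e1]; group
    rcases h.three_fix hx.2 hxo (mul_mem r.2 (inv_mem q.2)) hc with e2 | e2
    · exact Finset.mem_insert.2 (Or.inl (Subtype.ext (mul_inv_eq_one.1 e2)))
    · exact Finset.mem_insert.2 (Or.inr (Finset.mem_singleton.2 (Subtype.ext (mul_inv_eq_iff_eq_mul.1 e2))))
  have h3 := (Finset.card_le_mul_card_image (Finset.univ : Finset Q) 2 h2).trans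
    (Nat.mul_le_mul_left 2 (Finset.card_le_univ _))
  rwa [Finset.card_univ, ← Nat.card_eq_fintype_card, ← Nat.card_eq_fintype_card, h.cardQ] at h3

/-- An abelian Sylow 2-subgroup of order eight has trivial automizer, so there is a normal complement. -/
theorem false_of_eight (hcore : Cfsg.pCore 2 G = ⊥) (N P : Subgroup G) [hN : N.Normal]
    (hP : P = Q ⊓ N) (h8 : Nat.card P = 8) (PN : Sylow 2 N)
    (hPNmap : (PN : Subgroup N).map N.subtype = P) (hsN : s ∈ N)
    (ht : ∃ t ∈ Q ⊓ N, t * t = 1 ∧ t ≠ 1 ∧ t ≠ s) : False := by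
  classical
  haveI : Fact (Nat.Prime 2) := ⟨Nat.prime_two⟩
  haveI : Fact (Nat.Prime 3) := ⟨Nat.prime_three⟩
  subst hP
  have hsP : s ∈ Q ⊓ N := ⟨h.s_mem, hsN⟩
  have hLP : ∀ g ∈ L, ∀ u ∈ Q ⊓ N, g * u * g⁻¹ ∈ Q ⊓ N := fun g hg u hu =>
    ⟨h.Q_conj hg hu.1, hN.conj_mem u hu.2 g⟩
  obtain ⟨x, hx, hxo⟩ := h.exists_x
  -- invariant sets away from `1, s` have order divisible by six
  have six : ∀ I : Set G, (∀ u ∈ I, u ∈ Q ∧ u ≠ 1 ∧ u ≠ s) → (∀ u ∈ I, x * u * x⁻¹ ∈ I) →
      (∀ u ∈ I, s * u ∈ I) → 6 ∣ I.ncard := by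
    intro I hI hIx hIs
    have hgen : ∀ (w : G), (∀ u ∈ I, w * u * w⁻¹ ∈ I) → ∀ g ∈ zpowers w, ∀ u ∈ I, g * u * g⁻¹ ∈ I := by
      intro w hw g hg
      obtain ⟨n, -, rfl⟩ : ∃ n, n < orderOf w ∧ w ^ n = g := by
        obtain ⟨m, hm⟩ := (isOfFinOrder_of_finite w).mem_zpowers_iff_mem_range_orderOf.1 hg |>
          Finset.mem_image.1
        exact ⟨m, Finset.mem_range.1 hm.1, hm.2⟩
      intro u hu
      clear hg
      induction n with
      | zero => simpa using hu
      | succ n ih =>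
        have := hw _ ih
        rwa [show w ^ (n + 1) * u * (w ^ (n + 1))⁻¹ = w * (w ^ n * u * (w ^ n)⁻¹) * w⁻¹ by
          rw [pow_succ']; group]
    refine Nat.Coprime.mul_dvd_of_dvd_of_dvd (show Nat.Coprime 2 3 by norm_num) ?_ ?_
    · letI : MulAction (zpowers s) I :=
        { smul := fun g u => ⟨(g : G) * u, by
            rcases h.s_cases g.2 with e | e <;> rw [e]
            · rw [one_mul]; exact u.2
            · exact hIs u u.2⟩
          one_smul := fun u => Subtype.ext (one_mul (u : G))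
          mul_smul := fun g g' u => Subtype.ext (mul_assoc (g : G) g' u) }
      have hp : IsPGroup 2 (zpowers s) := IsPGroup.of_card (n := 1) (by rw [Nat.card_zpowers, h.ord, pow_one])
      have h1 := hp.card_modEq_card_fixedPoints I
      have h0 : IsEmpty (MulAction.fixedPoints (zpowers s) I) := ⟨fun u => h.s_ne (by
        have := congrArg Subtype.val (u.2 ⟨s, mem_zpowers s⟩)
        exact mul_eq_right.1 this)⟩
      rw [Nat.card_of_isEmpty (α := MulAction.fixedPoints (zpowers s) I), Nat.modEq_zero_iff_dvd,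
        Nat.card_coe_set_eq] at h1
      exact h1
    · letI : MulAction (zpowers x) I :=
        { smul := fun g u => ⟨(g : G) * u * (g : G)⁻¹, hgen x hIx g g.2 u u.2⟩
          one_smul := fun u => Subtype.ext (by show (1 : G) * u * (1 : G)⁻¹ = u; simp)
          mul_smul := fun g g' u => Subtype.ext (by
            show ((g : G) * g') * u * ((g : G) * g')⁻¹ = g * (g' * u * (g' : G)⁻¹) * (g : G)⁻¹
            group) }
      have hp : IsPGroup 3 (zpowers x) := IsPGroup.of_card (n := 1) (by rw [Nat.card_zpowers, hxo, pow_one])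
      have h1 := hp.card_modEq_card_fixedPoints I
      have h0 : IsEmpty (MulAction.fixedPoints (zpowers x) I) := ⟨fun u => by
        have := congrArg Subtype.val (u.2 ⟨x, mem_zpowers x⟩)
        rcases h.three_fix hx hxo (hI _ u.1.2).1 (mul_inv_eq_iff_eq_mul.1 this) with e | e
        · exact (hI _ u.1.2).2.1 e
        · exact (hI _ u.1.2).2.2 e⟩
      rw [Nat.card_of_isEmpty (α := MulAction.fixedPoints (zpowers x) I), Nat.modEq_zero_iff_dvd,
        Nat.card_coe_set_eq] at h1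
      exact h1
  have hss : ∀ u : G, s * (s * u) = u := fun u => by rw [← mul_assoc, h.s_sq, one_mul]
  -- `P` is elementary abelian
  have hP7 : ((Q ⊓ N : Subgroup G) : Set G).ncard = 8 := by rw [← Nat.card_coe_set_eq]; exact h8
  have hsub : ∀ I : Set G, I ⊆ ((Q ⊓ N : Subgroup G) : Set G) \ {1, s} → I.ncard ≤ 6 := fun I hI => by
    refine (Set.ncard_le_ncard hI (Set.toFinite _)).trans ?_
    rw [Set.ncard_sdiff (Set.insert_subset (one_mem _) (Set.singleton_subset_iff.2 hsP)) (Set.toFinite _),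
      hP7, Set.ncard_pair h.s_ne.symm]
  have hsq : ∀ u ∈ Q ⊓ N, u * u = 1 := by
    set I := {u : G | u ∈ Q ⊓ N ∧ u * u = 1 ∧ u ≠ 1 ∧ u ≠ s} with hI
    have hIsub : I ⊆ ((Q ⊓ N : Subgroup G) : Set G) \ {1, s} := fun u hu =>
      ⟨hu.1, fun e => e.elim hu.2.2.1 hu.2.2.2⟩
    have h6 := six I (fun u hu => ⟨hu.1.1, hu.2.2⟩) (fun u hu => by
      refine ⟨hLP x hx u hu.1, ?_, fun e => hu.2.2.1 (conj_eq_one_iff.1 e), fun e => hu.2.2.2 ?_⟩
      · calc x * u * x⁻¹ * (x * u * x⁻¹) = x * (u * u) * x⁻¹ := by group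
          _ = 1 := by rw [hu.2.1]; group
      · calc u = x⁻¹ * (x * u * x⁻¹) * x := by group
          _ = s := by rw [e, mul_assoc, ← h.mem_iff.1 hx, inv_mul_cancel_left]) (fun u hu => by
      refine ⟨mul_mem hsP hu.1, ?_, fun e => hu.2.2.2 ?_, fun e => hu.2.2.1 (mul_eq_left.1 e)⟩
      · rw [mul_assoc, ← mul_assoc u, h.mem_iff.1 (h.Q_le hu.1.1), mul_assoc s u u, hu.2.1, mul_one, h.s_sq]
      · rw [← hss u, e, mul_one])
    have hIne : 0 < I.ncard := (Set.ncard_pos (Set.toFinite _)).2 (by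
      obtain ⟨t, h1, h2⟩ := ht
      exact ⟨t, h1, h2⟩)
    have heq : I = ((Q ⊓ N : Subgroup G) : Set G) \ {1, s} := by
      refine Set.eq_of_subset_of_ncard_le hIsub ?_ (Set.toFinite _)
      rw [Set.ncard_sdiff (Set.insert_subset (one_mem _) (Set.singleton_subset_iff.2 hsP)) (Set.toFinite _),
        hP7, Set.ncard_pair h.s_ne.symm]
      exact (Nat.le_of_dvd hIne h6)
    intro u hu
    by_cases h1 : u = 1
    · rw [h1, one_mul]
    by_cases h2 : u = s
    · rw [h2, h.s_sq]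
    exact (show u ∈ I from heq ▸ ⟨hu, fun e => e.elim h1 h2⟩).2.1
  have hab : ∀ u ∈ Q ⊓ N, ∀ v ∈ Q ⊓ N, u * v = v * u := fun u hu v hv => by
    have hi : ∀ w ∈ Q ⊓ N, w⁻¹ = w := fun w hw => inv_eq_of_mul_eq_one_right (hsq w hw)
    calc u * v = (u * v)⁻¹ := (hi _ (mul_mem hu hv)).symm
      _ = v * u := by rw [mul_inv_rev, hi u hu, hi v hv]
  -- only `P` centralises `P` in `Q`
  have hCQ : ∀ q ∈ Q, (∀ u ∈ Q ⊓ N, q * u = u * q) → q ∈ Q ⊓ N := by
    intro q hq hc
    let K : Subgroup G := closure (insert q ((Q ⊓ N : Subgroup G) : Set G))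
    have hKQ : K ≤ Q := (closure_le _).2 (Set.insert_subset hq fun u hu => hu.1)
    have hgen : ∀ u ∈ insert q ((Q ⊓ N : Subgroup G) : Set G),
        ∀ v ∈ insert q ((Q ⊓ N : Subgroup G) : Set G), u * v = v * u := by
      intro u hu v hv
      rcases hu with rfl | hu <;> rcases hv with rfl | hv
      · rfl
      · exact hc v hv
      · exact (hc u hu).symm
      · exact hab u hu v hv
    have hKc : ∀ u ∈ K, ∀ v ∈ K, u * v = v * u := fun u hu v hv =>
      congrArg Subtype.val ((Subgroup.isMulCommutative_closure hgen).is_comm.comm (⟨u, hu⟩ : K) ⟨v, hv⟩)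
    have h1 := NormalCase.abelian_card_le h.ex h.cardQ (K.subgroupOf Q) fun u hu v hv => Subtype.ext (hKc u hu v hv)
    rw [Nat.card_congr (subgroupOfEquivOfLe hKQ).toEquiv] at h1
    have h2 : Q ⊓ N = K := Subgroup.eq_of_le_of_card_ge
      (fun u hu => subset_closure (Set.mem_insert_of_mem _ hu)) (h8 ▸ h1)
    exact h2.ge (subset_closure (Set.mem_insert _ _))
  -- `N ⊓ L` is `P`
  have hM : N ⊓ L ≤ Q ⊓ N := by
    have h3 : ¬ 3 ∣ Nat.card ↥(N ⊓ L) := fun h3 => by
      obtain ⟨w, hw⟩ := exists_prime_orderOf_dvd_card' 3 h3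
      have := h.half_le N w.2 (by rw [Subgroup.orderOf_coe, hw])
      omega
    have hd : Nat.card ↥(N ⊓ L) ∣ 3 * 64 := by
      have := card_dvd_of_le (show N ⊓ L ≤ L from inf_le_right)
      rwa [h.card_L] at this
    obtain ⟨j, -, hj⟩ := (Nat.dvd_prime_pow Nat.prime_two).1 (show Nat.card ↥(N ⊓ L) ∣ 2 ^ 6 from
      ((Nat.prime_three.coprime_iff_not_dvd.2 h3).symm).dvd_of_dvd_mul_left hd)
    exact le_inf (h.le_Q inf_le_right (IsPGroup.of_card hj) fun g hg w hw =>
      ⟨hN.conj_mem w hw.1 g, (mul_mem (mul_mem hg hw.2) (inv_mem hg) : g * w * g⁻¹ ∈ L)⟩) inf_le_left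
  -- the normaliser in `N`
  set K : Subgroup G := N ⊓ Subgroup.normalizer ((Q ⊓ N : Subgroup G) : Set G) with hK
  have hPK : Q ⊓ N ≤ K := le_inf inf_le_right Subgroup.le_normalizer
  have hLK : ∀ g ∈ L, ∀ k ∈ K, g * k * g⁻¹ ∈ K := fun g hg k hk => by
    refine ⟨hN.conj_mem k hk.1 g, (mul_mem (mul_mem ?_ hk.2) (inv_mem ?_) :
      g * k * g⁻¹ ∈ Subgroup.normalizer ((Q ⊓ N : Subgroup G) : Set G))⟩ <;>
    · refine Subgroup.mem_normalizer_iff.2 fun u => ⟨hLP g hg u, fun hu => ?_⟩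
      have := hLP g⁻¹ (inv_mem hg) _ hu
      rwa [inv_inv, show g⁻¹ * (g * u * g⁻¹) * g = u by group] at this
  have hKP : ∀ k ∈ K, k * s * k⁻¹ = s → k ∈ Q ⊓ N := fun k hk e =>
    hM ⟨hk.1, h.mem_iff.2 (mul_inv_eq_iff_eq_mul.1 e)⟩
  haveI hPKn : ((Q ⊓ N).subgroupOf K).Normal := ⟨fun u hu k => mem_subgroupOf.2
    ((Subgroup.mem_normalizer_iff.1 k.2.2 (u : G)).1 (mem_subgroupOf.1 hu))⟩
  -- `K = P`
  have hKeq : K ≤ Q ⊓ N := by
    by_contra hne
    obtain ⟨k, hk, hkP⟩ := SetLike.not_le_iff_exists.1 hne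
    set O : Set G := (fun k : G => k * s * k⁻¹) '' (K : Set G) \ {s} with hO
    have hOne : (k * s * k⁻¹) ∈ O := ⟨⟨k, hk, rfl⟩, fun e => hkP (hKP k hk e)⟩
    have hOP : ∀ u ∈ O, u ∈ Q ⊓ N ∧ u ≠ 1 ∧ u ≠ s := by
      rintro _ ⟨⟨k, hk, rfl⟩, hne⟩
      exact ⟨(Subgroup.mem_normalizer_iff.1 hk.2 s).1 hsP, fun e => h.s_ne (conj_eq_one_iff.1 e), hne⟩
    have hOL : ∀ g ∈ L, ∀ u ∈ O, g * u * g⁻¹ ∈ O := by
      rintro g hg _ ⟨⟨k, hk, rfl⟩, hne⟩
      refine ⟨⟨g * k * g⁻¹, hLK g hg k hk, ?_⟩, fun e => hne ?_⟩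
      · show g * k * g⁻¹ * s * (g * k * g⁻¹)⁻¹ = g * (k * s * k⁻¹) * g⁻¹
        have : g⁻¹ * s * g = s := by rw [mul_assoc, ← h.mem_iff.1 hg, inv_mul_cancel_left]
        calc g * k * g⁻¹ * s * (g * k * g⁻¹)⁻¹ = g * k * (g⁻¹ * s * g) * k⁻¹ * g⁻¹ := by group
          _ = _ := by rw [this]; group
      · have he : g * (k * s * k⁻¹) * g⁻¹ = s := e
        show k * s * k⁻¹ = s
        calc k * s * k⁻¹ = g⁻¹ * (g * (k * s * k⁻¹) * g⁻¹) * g := by group
          _ = s := by rw [he, mul_assoc, ← h.mem_iff.1 hg, inv_mul_cancel_left]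
    have hOs : ∀ u ∈ O, s * u ∈ O := by
      intro u hu
      obtain ⟨q, hq, hne'⟩ : ∃ q ∈ Q, q * u ≠ u * q := by
        by_contra hall
        push Not at hall
        exact (h.centre (hOP u hu).1.1 fun r hr => (hall r hr).symm).elim (hOP u hu).2.1 (hOP u hu).2.2
      rcases h.comm_cases hq (hOP u hu).1.1 with e | e
      · exact absurd (commutatorElement_eq_one_iff_mul_comm.1 e) hne'
      · have := hOL q (h.Q_le hq) u hu
        rwa [show q * u * q⁻¹ = ⁅q, u⁆ * u by simp only [commutatorElement_def]; group, e] at this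
    have h6 := six O (fun u hu => ⟨(hOP u hu).1.1, (hOP u hu).2⟩) (hOL x hx) hOs
    have hOeq : O = ((Q ⊓ N : Subgroup G) : Set G) \ {1, s} := by
      refine Set.eq_of_subset_of_ncard_le (fun u hu => ⟨(hOP u hu).1, fun e => e.elim (hOP u hu).2.1
        (hOP u hu).2.2⟩) ?_ (Set.toFinite _)
      rw [Set.ncard_sdiff (Set.insert_subset (one_mem _) (Set.singleton_subset_iff.2 hsP)) (Set.toFinite _),
        hP7, Set.ncard_pair h.s_ne.symm]
      exact Nat.le_of_dvd ((Set.ncard_pos (Set.toFinite _)).2 ⟨_, hOne⟩) h6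
    have hidx : ((Q ⊓ N).subgroupOf K).index = 7 := by
      letI : MulAction K G := MulAction.compHom G
        ((MulAut.conj : G →* MulAut G).comp K.subtype)
      have hst : MulAction.stabilizer K s = (Q ⊓ N).subgroupOf K := by
        ext k
        rw [MulAction.mem_stabilizer_iff, mem_subgroupOf]
        exact ⟨fun e => hKP k k.2 e, fun hk => mul_inv_eq_iff_eq_mul.2 (hab _ hk s hsP)⟩
      rw [← hst, MulAction.index_stabilizer]
      have horb : MulAction.orbit K s = insert s O := by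
        ext u
        refine ⟨?_, ?_⟩
        · rintro ⟨k, rfl⟩
          by_cases e : (k : G) * s * (k : G)⁻¹ = s
          · exact Or.inl e
          · exact Or.inr ⟨⟨k, k.2, rfl⟩, e⟩
        · rintro (rfl | ⟨⟨k, hk, rfl⟩, -⟩)
          · exact MulAction.mem_orbit_self _
          · exact ⟨⟨k, hk⟩, rfl⟩
      rw [horb, Set.ncard_insert_of_notMem (fun hs' => (hOP s hs').2.2 rfl) (Set.toFinite _), hOeq,
        Set.ncard_sdiff (Set.insert_subset (one_mem _) (Set.singleton_subset_iff.2 hsP)) (Set.toFinite _),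
        hP7, Set.ncard_pair h.s_ne.symm]
    haveI : Fact (Nat.Prime 7) := ⟨by norm_num⟩
    let Kq := K ⧸ (Q ⊓ N).subgroupOf K
    have hKq : Nat.card Kq = 7 := by rw [← index_eq_card]; exact hidx
    haveI : IsCyclic Kq := isCyclic_of_prime_card hKq
    let c : Q → (K →* K) := fun q =>
      { toFun := fun k => ⟨(q : G) * k * (q : G)⁻¹, hLK q (h.Q_le q.2) k k.2⟩
        map_one' := Subtype.ext (by show (q : G) * (1 : G) * (q : G)⁻¹ = 1; group)
        map_mul' := fun k k' => Subtype.ext (by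
          show (q : G) * ((k : G) * k') * (q : G)⁻¹ = (q : G) * k * (q : G)⁻¹ * ((q : G) * k' * (q : G)⁻¹)
          group) }
    let act : Q → (Kq →* Kq) := fun q => QuotientGroup.map _ _ (c q) fun u hu =>
      mem_comap.2 (mem_subgroupOf.2 (hLP q (h.Q_le q.2) u (mem_subgroupOf.1 hu) :))
    have hmul : ∀ q q' v, act (q * q') v = act q (act q' v) := fun q q' v =>
      QuotientGroup.induction_on v fun k => congrArg QuotientGroup.mk (Subtype.ext (by
        show ((q : G) * q') * k * ((q : G) * q')⁻¹ = (q : G) * ((q' : G) * k * (q' : G)⁻¹) * (q : G)⁻¹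
        group))
    have hone : ∀ v, act 1 v = v := fun v =>
      QuotientGroup.induction_on v fun k => congrArg QuotientGroup.mk (Subtype.ext (by
        show (1 : G) * k * (1 : G)⁻¹ = k
        group))
    let ρ : Q →* MulAut Kq := MonoidHom.mk' (fun q =>
      { toFun := act q
        invFun := act q⁻¹
        left_inv := fun v => by rw [← hmul, inv_mul_cancel, hone]
        right_inv := fun v => by rw [← hmul, mul_inv_cancel, hone]
        map_mul' := map_mul _ })
      fun q q' => MulEquiv.ext fun v => hmul q q' v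
    have hrange : Nat.card ρ.range ≤ 2 := by
      have h1 : Nat.card ρ.range ∣ 32 := h.cardQ ▸ Subgroup.card_range_dvd ρ
      have h2 : Nat.card ρ.range ∣ 6 := by
        have := card_subgroup_dvd_card ρ.range
        rwa [IsCyclic.card_mulAut, hKq, Nat.totient_prime (by norm_num)] at this
      exact Nat.le_of_dvd (by norm_num) (show Nat.card ρ.range ∣ 2 from
        (Nat.dvd_gcd h1 h2).trans (by norm_num))
    have hker : 16 ≤ Nat.card ρ.ker := by
      have h1 := ρ.ker.card_mul_index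
      rw [index_ker, h.cardQ] at h1
      nlinarith
    obtain ⟨q, hq, hqP⟩ : ∃ q ∈ ρ.ker, (q : G) ∉ Q ⊓ N := by
      by_contra hall
      push Not at hall
      have := Subgroup.card_le_of_le (show ρ.ker.map Q.subtype ≤ Q ⊓ N from by
        rintro _ ⟨q, hq, rfl⟩; exact hall q hq)
      rw [card_map_of_injective Q.subtype_injective, h8] at this
      omega
    refine hqP (hCQ q q.2 fun u hu => ?_)
    by_cases h1 : u = 1
    · rw [h1, one_mul, mul_one]
    by_cases h2 : u = s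
    · rw [h2]; exact h.mem_iff.1 (h.Q_le q.2)
    obtain ⟨⟨k, hk', rfl⟩, -⟩ : u ∈ O := hOeq ▸ ⟨hu, fun e => e.elim h1 h2⟩
    have hrel := DFunLike.congr_fun (MonoidHom.mem_ker.1 hq) ((⟨k, hk'⟩ : K) : Kq)
    have hrel' : (⟨k, hk'⟩ : K)⁻¹ * c q ⟨k, hk'⟩ ∈ (Q ⊓ N).subgroupOf K :=
      QuotientGroup.eq.1 (Eq.symm hrel)
    have hrel'' : k⁻¹ * ((q : G) * k * (q : G)⁻¹) ∈ Q ⊓ N := mem_subgroupOf.1 hrel'
    set v := k⁻¹ * ((q : G) * k * (q : G)⁻¹) with hv
    have hvs : v * s * v⁻¹ = s := mul_inv_eq_iff_eq_mul.2 (hab v hrel'' s hsP)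
    have hqs : (q : G)⁻¹ * s * q = s := by rw [mul_assoc, ← h.mem_iff.1 (h.Q_le q.2), inv_mul_cancel_left]
    refine mul_inv_eq_iff_eq_mul.1 ?_
    calc (q : G) * (k * s * k⁻¹) * (q : G)⁻¹
        = ((q : G) * k * (q : G)⁻¹) * ((q : G) * s * (q : G)⁻¹) * ((q : G) * k * (q : G)⁻¹)⁻¹ := by group
      _ = (k * v) * s * (k * v)⁻¹ := by
          rw [show (q : G) * s * (q : G)⁻¹ = s from mul_inv_eq_iff_eq_mul.2 (h.mem_iff.1 (h.Q_le q.2)), hv]
          group
      _ = k * (v * s * v⁻¹) * k⁻¹ := by group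
      _ = k * s * k⁻¹ := by rw [hvs]
  -- Burnside
  have hburn : Subgroup.normalizer ((PN : Subgroup N) : Set N) ≤ Subgroup.centralizer ((PN : Subgroup N) : Set N) := by
    intro w hw
    have hwG : (w : G) ∈ K := by
      refine ⟨w.2, Subgroup.mem_normalizer_iff.2 fun u => ?_⟩
      rw [← hPNmap]
      constructor
      · rintro ⟨v, hv, rfl⟩
        exact ⟨w * v * w⁻¹, (Subgroup.mem_normalizer_iff.1 hw v).1 hv, rfl⟩
      · rintro ⟨v, hv, he⟩
        refine ⟨w⁻¹ * v * w, ?_, ?_⟩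
        · have := (Subgroup.mem_normalizer_iff.1 (inv_mem hw) v).1 hv
          rwa [inv_inv] at this
        · show (w : G)⁻¹ * (v : G) * w = u
          rw [show (v : G) = (w : G) * u * (w : G)⁻¹ from he]
          group
    refine Subgroup.mem_centralizer_iff.2 fun v hv => Subtype.ext ?_
    exact hab _ (hPNmap ▸ mem_map_of_mem _ hv) _ (hKeq hwG)
  have hc := MonoidHom.ker_transferSylow_isComplement' PN hburn
  set τ := MonoidHom.transferSylow PN hburn with hτ
  have hodd : Odd (Nat.card τ.ker) := by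
    have h1 := hc.card_mul_card
    have h2 := (PN : Subgroup N).card_mul_index
    rw [← h1, mul_comm (Nat.card τ.ker)] at h2
    rw [← Nat.eq_of_mul_eq_mul_left Nat.card_pos h2, Nat.odd_iff]
    have := PN.not_dvd_index
    omega
  let O := τ.ker.map N.subtype
  have hOn : O.Normal := ⟨fun w hw g => by
    obtain ⟨v, hv, rfl⟩ := hw
    refine ⟨⟨g * v * g⁻¹, hN.conj_mem v v.2 g⟩, ?_, rfl⟩
    rw [SetLike.mem_coe, MonoidHom.mem_ker]
    have h1 : (v : G) ^ Nat.card τ.ker = 1 :=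
      congrArg (fun w : τ.ker => ((w : N) : G)) (pow_card_eq_one' (x := (⟨v, hv⟩ : τ.ker)))
    obtain ⟨k, hk⟩ := PN.isPGroup' (τ ⟨g * v * g⁻¹, hN.conj_mem v v.2 g⟩)
    refine eq_one_of_odd_of_two hk hodd ?_
    rw [← map_pow, show (⟨g * v * g⁻¹, hN.conj_mem v v.2 g⟩ : N) ^ Nat.card τ.ker = 1 from
      Subtype.ext (by show (g * (v : G) * g⁻¹) ^ Nat.card τ.ker = 1; rw [conj_pow, h1]; group), map_one]⟩
  have hO : O = ⊥ := h.eq_bot_of_odd O hOn (by rwa [card_map_of_injective N.subtype_injective])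
  have hN2 : IsPGroup 2 N := by
    have h1 := hc.card_mul_card
    rw [(Subgroup.map_eq_bot_iff_of_injective _ N.subtype_injective).1 hO, Subgroup.card_bot, one_mul] at h1
    obtain ⟨k, hk⟩ := PN.isPGroup'.exists_card_eq
    exact IsPGroup.of_card (h1.symm.trans hk)
  exact h.s_ne (mem_bot.1 (hcore ▸ CfsgLib.Solvable.Cores.le_pCore hN2 hsN))

/-- A nontrivial normal subgroup contains `L`. -/
theorem le_of_normal (hcore : Cfsg.pCore 2 G = ⊥) (N : Subgroup G) [hN : N.Normal] (hne : N ≠ ⊥) :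
    L ≤ N := by
  haveI : Fact (Nat.Prime 2) := ⟨Nat.prime_two⟩
  haveI : Fact (Nat.Prime 3) := ⟨Nat.prime_three⟩
  obtain ⟨S, hSL, hQS, hScard, hScen⟩ := h.exists_sylow
  have hSN : ∀ w ∈ N ⊓ L, ∀ g ∈ L, g * w * g⁻¹ ∈ N ⊓ L := fun w hw g hg =>
    ⟨hN.conj_mem w hw.1 g, (mul_mem (mul_mem hg hw.2) (inv_mem hg) : g * w * g⁻¹ ∈ L)⟩
  -- `s ∈ N`
  have hsylN : ¬ 2 ∣ ((S : Subgroup G).subgroupOf N).index := by
    obtain ⟨P₀⟩ : Nonempty (Sylow 2 N) := inferInstance
    obtain ⟨T, hT⟩ := (P₀.isPGroup'.map N.subtype).exists_le_sylow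
    obtain ⟨c, rfl⟩ := MulAction.exists_smul_eq G S T
    have hle : (P₀ : Subgroup N).map N.subtype ≤
        ((S : Subgroup G) ⊓ N).map (MulAut.conj c).toMonoidHom := by
      rintro _ ⟨w, hw, rfl⟩
      have h1 : (w : G) ∈ (S : Subgroup G).map (MulAut.conj c).toMonoidHom := hT (mem_map_of_mem _ hw)
      obtain ⟨v, hv, he⟩ := h1
      have he' : c * v * c⁻¹ = w := he
      refine ⟨v, ⟨hv, ?_⟩, he⟩
      have := hN.conj_mem _ w.2 c⁻¹
      rwa [← he', inv_inv, show c⁻¹ * (c * v * c⁻¹) * c = v by group] at this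
    have hcard := Subgroup.card_le_of_le hle
    rw [card_map_of_injective N.subtype_injective, card_map_of_injective (MulEquiv.injective _)] at hcard
    have h2 : IsPGroup 2 ((S : Subgroup G).subgroupOf N) := by
      rw [← inf_subgroupOf_right]
      exact (S.isPGroup'.to_le inf_le_left).of_equiv (subgroupOfEquivOfLe inf_le_right).symm
    obtain ⟨U, hU⟩ := h2.exists_le_sylow
    rw [Subgroup.eq_of_le_of_card_ge hU ?_]
    · exact U.not_dvd_index
    · rw [show Nat.card U = Nat.card P₀ by rw [U.card_eq_multiplicity, P₀.card_eq_multiplicity],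
        ← inf_subgroupOf_right, Nat.card_congr (subgroupOfEquivOfLe inf_le_right).toEquiv]
      exact hcard
  have hsN : s ∈ N := by
    have heven : 2 ∣ Nat.card N := by
      by_contra hodd
      exact hne (h.eq_bot_of_odd N hN (Nat.odd_iff.2 (by omega)))
    have hUne : (N.subgroupOf (S : Subgroup G)) ≠ ⊥ := by
      intro e
      have h1 : (S : Subgroup G).subgroupOf N = ⊥ :=
        subgroupOf_eq_bot.2 (disjoint_iff.2 (by rw [inf_comm]; exact (disjoint_iff.1 (subgroupOf_eq_bot.1 e))))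
      apply hsylN
      rw [h1, index_bot]
      exact heven
    haveI := S.isPGroup'
    let U := N.subgroupOf (S : Subgroup G)
    haveI : Nontrivial U := (nontrivial_iff_ne_bot U).2 hUne
    have hU2 : 2 ∣ Nat.card U := by
      obtain ⟨k, hk⟩ := (S.isPGroup'.to_subgroup U).exists_card_eq
      rw [hk]
      exact dvd_pow_self 2 fun h0 => by
        rw [h0, pow_zero] at hk; exact (Finite.one_lt_card).ne' hk
    haveI : U.Normal := inferInstanceAs (N.subgroupOf (S : Subgroup G)).Normal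
    letI : MulAction S U := MulAction.compHom U (MulAut.conjNormal (H := U))
    obtain ⟨w, hw, hw1⟩ := S.isPGroup'.exists_fixed_point_of_prime_dvd_card_of_fixed_point U hU2
      (a := 1) (fun g => map_one (MulAut.conjNormal (H := U) g))
    have hwc : ∀ v ∈ (S : Subgroup G), ((w : S) : G) * v = v * ((w : S) : G) := fun v hv => by
      have := congrArg Subtype.val (hw ⟨v, hv⟩)
      exact (congrArg Subtype.val
        (mul_inv_eq_iff_eq_mul.1 ((MulAut.conjNormal_apply _ _).symm.trans this))).symm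
    rcases hScen _ (w : S).2 hwc with e | e
    · exact absurd (Subtype.ext (Subtype.ext e.symm)) hw1
    · exact e ▸ mem_subgroupOf.1 w.2
  obtain ⟨g₀, htQ, hts⟩ := h.nwc
  set t := g₀ * s * g₀⁻¹ with ht
  have htN : t ∈ N := hN.conj_mem s hsN g₀
  have htt : t * t = 1 := by
    rw [ht]; calc g₀ * s * g₀⁻¹ * (g₀ * s * g₀⁻¹) = g₀ * (s * s) * g₀⁻¹ := by group
      _ = 1 := by rw [h.s_sq]; group
  -- an element of `S ∩ N` outside `Q`
  by_contra hLN
  by_cases hSQ : (S : Subgroup G) ⊓ N ≤ Q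
  swap
  · obtain ⟨u, hu, huQ⟩ := SetLike.not_le_iff_exists.1 hSQ
    obtain ⟨e⟩ := h.quot
    let π : L →* Equiv.Perm (Fin 3) := e.toMonoidHom.comp (QuotientGroup.mk' _)
    have hπs : Function.Surjective π := e.surjective.comp (QuotientGroup.mk'_surjective _)
    have hπker : ∀ w : L, π w = 1 → (w : G) ∈ Q := fun w hw => by
      rw [h.core]
      exact ⟨w, (QuotientGroup.eq_one_iff w).1 (e.injective (hw.trans (map_one e).symm)), rfl⟩
    haveI : (N.subgroupOf L).Normal := inferInstance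
    have hperm : ∀ H : Subgroup (Equiv.Perm (Fin 3)), H.Normal → ∀ p ∈ H, p ≠ 1 → p * p = 1 → H = ⊤ := by
      intro H hH p hp hp1 hpp
      refine eq_top_iff.2 fun r _ => ?_
      have key : ∀ p r : Equiv.Perm (Fin 3), p ≠ 1 → p * p = 1 →
          r = 1 ∨ (∃ c, r = c * p * c⁻¹) ∨ ∃ c, r = p * (c * p * c⁻¹) := by decide
      rcases key p r hp1 hpp with rfl | ⟨c, rfl⟩ | ⟨c, rfl⟩
      exacts [one_mem _, hH.conj_mem p hp c, mul_mem hp (hH.conj_mem p hp c)]
    have hπu : π ⟨u, hSL hu.1⟩ ≠ 1 := fun e1 => huQ (hπker _ e1)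
    have hπu2 : π ⟨u, hSL hu.1⟩ * π ⟨u, hSL hu.1⟩ = 1 := by
      obtain ⟨k, hk⟩ := S.isPGroup' ⟨u, hu.1⟩
      have h1 : π ⟨u, hSL hu.1⟩ ^ 2 ^ k = 1 := by
        rw [← map_pow, show (⟨u, hSL hu.1⟩ : L) ^ 2 ^ k = 1 from Subtype.ext (congrArg Subtype.val hk :), map_one]
      have h6 : π ⟨u, hSL hu.1⟩ ^ 6 = 1 := by
        have := pow_card_eq_one' (x := π ⟨u, hSL hu.1⟩)
        rwa [Nat.card_perm, Nat.card_fin] at this
      obtain ⟨j, hj, hjc⟩ := (Nat.dvd_prime_pow Nat.prime_two).1 (orderOf_dvd_of_pow_eq_one h1)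
      rw [← pow_two]
      refine orderOf_dvd_iff_pow_eq_one.1 ?_
      have h7 := orderOf_dvd_of_pow_eq_one h6
      rw [hjc] at h7 ⊢
      rcases (show j ≤ 1 ∨ 2 ≤ j by omega) with h8 | h8
      · exact (pow_dvd_pow 2 h8).trans (by norm_num)
      · exact absurd ((pow_dvd_pow 2 h8).trans h7) (by norm_num)
    have htop := hperm _ (Subgroup.Normal.map inferInstance π hπs) _
      (mem_map_of_mem π (mem_subgroupOf.2 hu.2)) hπu hπu2
    have hLQ : L ≤ (N ⊓ L) ⊔ Q := fun w hw => by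
      obtain ⟨v, hv, hvw⟩ := (htop ▸ mem_top (π ⟨w, hw⟩) : π ⟨w, hw⟩ ∈ (N.subgroupOf L).map π)
      have h1 : ((v⁻¹ * ⟨w, hw⟩ : L) : G) ∈ Q := hπker _ (by rw [map_mul, map_inv, hvw, inv_mul_cancel])
      rw [show w = (v : G) * ((v⁻¹ * ⟨w, hw⟩ : L) : G) by simp]
      exact mul_mem (mem_sup_left ⟨mem_subgroupOf.1 hv, v.2⟩) (mem_sup_right h1)
    refine hLN (hLQ.trans (sup_le inf_le_left ?_))
    -- some element of order three lies in `N`
    have h3 : 3 ∣ Nat.card ↥(N ⊓ L) := by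
      have hsup : (N.subgroupOf L).map π = ⊤ := htop
      have h1 := Subgroup.card_map_dvd (H := N.subgroupOf L) π
      rw [hsup, Subgroup.card_top, Nat.card_perm, Nat.card_fin] at h1
      have h2 : Nat.card (N.subgroupOf L) = Nat.card ↥(N ⊓ L) := by
        rw [← inf_subgroupOf_right]; exact Nat.card_congr (subgroupOfEquivOfLe inf_le_right).toEquiv
      exact h2 ▸ (Dvd.dvd.trans (by decide) h1)
    obtain ⟨x, hx⟩ := exists_prime_orderOf_dvd_card' 3 h3
    have h4 := h.half_le N x.2 (by rw [Subgroup.orderOf_coe, hx])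
    rcases h.card_normal (U := Q ⊓ N) inf_le_left ⟨h.s_mem, hsN⟩ (fun g hg w hw =>
      ⟨h.Q_conj hg hw.1, hN.conj_mem w hw.2 g⟩) with e' | e' | e'
    · omega
    · omega
    · exact fun q hq => ((Subgroup.eq_of_le_of_card_ge inf_le_left (by rw [e', h.cardQ])).ge hq).2
  -- a Sylow 2-subgroup of `N` inside `Q`
  set P := Q ⊓ N with hP
  have hPS : (S : Subgroup G) ⊓ N = P := le_antisymm (le_inf hSQ inf_le_right) (inf_le_inf_right _ hQS)
  have hPsyl : ¬ 2 ∣ (P.subgroupOf N).index := by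
    rw [← hPS, inf_subgroupOf_right]; exact hsylN
  have hP2 : IsPGroup 2 P := h.ex.1.1.to_le inf_le_left
  let PN : Sylow 2 N := (hP2.of_equiv (subgroupOfEquivOfLe (show P ≤ N from inf_le_right)).symm).toSylow hPsyl
  have hPNmap : (PN : Subgroup N).map N.subtype = P := map_subgroupOf_eq_of_le inf_le_right
  have hfr : ∀ g : G, ∃ n ∈ N, ∀ w ∈ P, n⁻¹ * g * w * (n⁻¹ * g)⁻¹ ∈ P := by
    intro g
    have htop := Sylow.normalizer_sup_eq_top PN
    rw [hPNmap] at htop
    have hg : g ∈ (Subgroup.normalizer (P : Set G) ⊔ N : Subgroup G) := htop ▸ mem_top g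
    rw [sup_comm, ← SetLike.mem_coe, Subgroup.normal_mul] at hg
    obtain ⟨n, hn, m, hm, rfl⟩ := hg
    exact ⟨n, hn, fun w hw => by
      rw [show n⁻¹ * (n * m) = m by group]
      exact (Subgroup.mem_normalizer_iff.1 hm w).1 hw⟩
  rcases h.card_normal (U := P) inf_le_left ⟨h.s_mem, hsN⟩ (fun g hg w hw =>
    ⟨h.Q_conj hg hw.1, hN.conj_mem w hw.2 g⟩) with e | e | e
  · have h1 : zpowers s = P := Subgroup.eq_of_le_of_card_ge (zpowers_le.2 ⟨h.s_mem, hsN⟩)
      (by rw [e, Nat.card_zpowers, h.ord])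
    exact (h.s_cases (h1 ▸ ⟨htQ, htN⟩)).elim (fun e' => h.s_ne (conj_eq_one_iff.1 e')) hts
  · exact h.false_of_eight hcore N P hP e PN hPNmap hsN ⟨t, ⟨htQ, htN⟩, htt, fun e1 => h.s_ne (conj_eq_one_iff.1 e1), hts⟩
  · have hPQ : P = Q := Subgroup.eq_of_le_of_card_ge inf_le_left (by rw [e, h.cardQ])
    exact h.false_of_thirtytwo N P hPQ hfr g₀ ⟨htQ, hts⟩ hP2 inf_le_right hPsyl

/-- `G` is simple. -/
theorem isSimpleGroup (hcore : Cfsg.pCore 2 G = ⊥) : IsSimpleGroup G := by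
  haveI : Fact (Nat.Prime 2) := ⟨Nat.prime_two⟩
  haveI : Nontrivial G := ⟨⟨s, 1, h.s_ne⟩⟩
  refine { eq_bot_or_eq_top_of_normal := fun N hN => ?_ }
  by_cases hne : N = ⊥
  · exact Or.inl hne
  refine Or.inr (eq_top_iff.2 fun g _ => ?_)
  haveI := hN
  have hLN := h.le_of_normal hcore N hne
  obtain ⟨S, hSL, hQS, -, hScen⟩ := h.exists_sylow
  have hSN : (S : Subgroup G) ≤ N := hSL.trans hLN
  let PN : Sylow 2 N := S.subtype hSN
  have htop := Sylow.normalizer_sup_eq_top PN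
  have hmap : (PN : Subgroup N).map N.subtype = (S : Subgroup G) := map_subgroupOf_eq_of_le hSN
  rw [hmap] at htop
  refine (sup_le ?_ le_rfl : Subgroup.normalizer ((S : Subgroup G) : Set G) ⊔ N ≤ N) (htop ▸ mem_top g)
  intro m hm
  refine hLN (h.mem_iff.2 (mul_inv_eq_iff_eq_mul.1 ?_))
  have hms : m * s * m⁻¹ ∈ (S : Subgroup G) := (Subgroup.mem_normalizer_iff.1 hm s).1 (hQS h.s_mem)
  refine (hScen _ hms fun v hv => ?_).resolve_left fun e => h.s_ne (conj_eq_one_iff.1 e)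
  have hv' : m⁻¹ * v * m ∈ (S : Subgroup G) := by
    have := (Subgroup.mem_normalizer_iff.1 (inv_mem hm) v).1 hv
    rwa [inv_inv] at this
  have hc := h.mem_iff.1 (hSL hv')
  calc m * s * m⁻¹ * v = m * (s * (m⁻¹ * v * m)) * m⁻¹ := by group
    _ = m * ((m⁻¹ * v * m) * s) * m⁻¹ := by rw [hc]
    _ = v * (m * s * m⁻¹) := by group

end Hyp

/-- The first outcome of S3344, or simplicity. -/
theorem normal_or_simple (s : G) (hs : orderOf s = 2) (L : Subgroup G)
    (hL : L = Subgroup.centralizer ({s} : Set G)) (Q : Subgroup G)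
    (hQ : Q = (Cfsg.pCore 2 L).map L.subtype) (hQex : Cfsg.IsExtraspecial 2 Q)
    (hQcard : Nat.card Q = 32) (e : L ⧸ Cfsg.pCore 2 L ≃* Equiv.Perm (Fin 3)) (X : Sylow 3 L)
    (hCQX : Q ⊓ Subgroup.centralizer (((X : Subgroup L).map L.subtype : Subgroup G) : Set G) =
      Subgroup.zpowers s)
    (hnwc : ∃ g : G, g * s * g⁻¹ ∈ Q ∧ g * s * g⁻¹ ≠ s) :
    (∃ (N : Subgroup G) (hN : N.Normal), IsMulCommutative N ∧ (∀ n ∈ N, n ^ 2 = 1) ∧ Nat.card N = 8 ∧
      Nonempty (G ⧸ N ≃* Matrix.ProjectiveSpecialLinearGroup (Fin 3) (ZMod 2))) ∨ IsSimpleGroup G := by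
  by_cases hO : Cfsg.pCore 2 G = ⊥
  · exact Or.inr (Hyp.isSimpleGroup ⟨hs, hL, hQ, hQex, hQcard, ⟨e⟩, hCQX, hnwc⟩ hO)
  · exact Or.inl (NormalCase.normal_case s hs L hL Q hQ hQex hQcard e X hCQX hnwc hO)

end CfsgLib.Recognition.ExtraspecialThirtyTwo.Simplicity
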