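import Cfsg.Agent.Lib.Recognition.ExtraspecialThirtyTwo.Mathieu

/-!
# Assembly of the recognition by the centraliser `2^(1+4).S₃`
-/

set_option autoImplicit false
set_option linter.unusedSectionVars false

namespace CfsgLib.Recognition.ExtraspecialThirtyTwo

open Subgroup

/-- The theorem, given the case of the alternating groups of degree eight and nine. -/
theorem of_alt_cases {G : Type*} [Group G] [Finite G]
    (halt : IsSimpleGroup G → ¬ IsMulCommutative G → Setting G false false →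
      Nonempty (G ≃* alternatingGroup (Fin 8)) ∨ Nonempty (G ≃* alternatingGroup (Fin 9)))
    (s : G) (hs : orderOf s = 2) (L : Subgroup G) (hL : L = centralizer ({s} : Set G))
    (Q : Subgroup G) (hQ : Q = (Cfsg.pCore 2 L).map L.subtype)
    (hQex : Cfsg.IsExtraspecial 2 Q) (hQcard : Nat.card Q = 32)
    (e : L ⧸ Cfsg.pCore 2 L ≃* Equiv.Perm (Fin 3)) (X : Sylow 3 L)
    (hCQX : Q ⊓ centralizer (((X : Subgroup L).map L.subtype : Subgroup G) : Set G) = zpowers s)
    (hnwc : ∃ g : G, g * s * g⁻¹ ∈ Q ∧ g * s * g⁻¹ ≠ s) :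
    (∃ (N : Subgroup G) (_ : N.Normal), IsMulCommutative N ∧ (∀ n ∈ N, n ^ 2 = 1) ∧ Nat.card N = 8 ∧
        Nonempty (G ⧸ N ≃* Matrix.ProjectiveSpecialLinearGroup (Fin 3) (ZMod 2))) ∨
    Nonempty (G ≃* alternatingGroup (Fin 8)) ∨ Nonempty (G ≃* alternatingGroup (Fin 9)) ∨ Cfsg.Spor.IsoM12 G := by
  obtain ⟨τ, κ, S, -⟩ := exists_setting s hs L hL Q hQ hQex hQcard e X hCQX hnwc
  rcases cases_of_setting S with h | h | ⟨hsimp, hnc, hτ, hκ⟩
  · exact Or.inl h
  · exact Or.inr (Or.inr (Or.inr h))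
  · subst hτ hκ
    rcases halt hsimp hnc S with h | h
    · exact Or.inr (Or.inl h)
    · exact Or.inr (Or.inr (Or.inl h))

end CfsgLib.Recognition.ExtraspecialThirtyTwo
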