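import Cfsg.Agent.Lib.Recognition.ExtraspecialThirtyTwo.Reduction
import Cfsg.Agent.Lib.LocalEven.Yoshida

/-!
# Transfer: the element inverting the three element is an involution
-/

set_option autoImplicit false
set_option maxRecDepth 40000
set_option linter.unusedSectionVars false
set_option linter.style.haveILetI false

namespace CfsgLib.Recognition.ExtraspecialThirtyTwo

open Subgroup

namespace Code

/-- The order of the centraliser of a code. -/
def centCard (τ κ : Bool) (k : ℕ) : ℕ := ((List.range 192).filter fun l => commC τ κ l k).length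

/-- The codes commuting with `y` commute with each other. -/
def centAbelian (τ κ : Bool) : Bool :=
  (List.range 192).all fun k => !commC τ κ k 96 || (List.range 192).all fun l => !commC τ κ l 96 || commC τ κ k l

theorem syl_odd : ∀ τ κ : Bool, ((List.range 192).all fun k => (List.range 192).all fun l =>
    !(inSyl k && inSyl l) || (Nat.blt (mulC τ κ k l) 32 == (Nat.blt k 32 == Nat.blt l 32))) = true := by
  decide +kernel

theorem involutions_in_q : ∀ τ : Bool, ((List.range 192).all fun k =>
    !inSyl k || Nat.blt k 32 || !Nat.beq (mulC τ true k k) 0) = true := by decide +kernel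

theorem class_y_syl : ∀ τ : Bool, ((List.range 192).all fun k =>
    !inSyl (conjC τ true k 96) || inSyl k) = true := by decide +kernel

theorem square_cases : ∀ τ : Bool, ((List.range 192).all fun k => !inSyl k || Nat.blt k 32 ||
    Nat.beq (mulC τ true k k) 1 || !Nat.beq (mulC τ true (mulC τ true k k) (mulC τ true k k)) 0 ||
    Nat.blt (centCard τ true 96) (centCard τ true k) ||
    (centAbelian τ true && !Nat.beq (centCard τ true k) (centCard τ true 96))) = true := by decide +kernel

theorem y_facts : ∀ τ : Bool, mulC τ true 96 96 = 1 ∧ inSyl 96 = true := by decide +kernel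

end Code

namespace Setting

variable {G : Type*} [Group G] [Finite G] {τ : Bool} (S : Setting G τ true)

theorem commute_s_of_commute_y {u : G} (hu : Commute u (S.el 96)) : Commute u S.s := by
  rw [← S.el_one, ← (Code.y_facts τ).1, S.el_mul (by norm_num) (by norm_num)]
  exact hu.mul_right hu

theorem card_cent_el_le (k : ℕ) (hk : k < 192) :
    Code.centCard τ true k ≤ Nat.card (centralizer ({S.el k} : Set G)) := by
  classical
  rw [Code.centCard, ← List.toFinset_card_of_nodup (List.nodup_range.filter _), ← Nat.card_eq_finsetCard]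
  refine Nat.card_le_card_of_injective (fun l => ⟨S.el l.1, mem_centralizer_singleton_iff.2 ?_⟩) ?_
  · have := List.mem_toFinset.1 l.2
    simp only [List.mem_filter, List.mem_range] at this
    exact ((S.commute_el_iff this.1 hk).2 this.2).eq
  · rintro ⟨a, ha⟩ ⟨b, hb⟩ e
    have ha' := List.mem_toFinset.1 ha
    have hb' := List.mem_toFinset.1 hb
    simp only [List.mem_filter, List.mem_range] at ha' hb'
    exact Subtype.ext ((S.el_inj ha'.1 hb'.1).1 (congrArg Subtype.val e))

theorem card_cent_el_eq {k : ℕ} (hk : k < 192) (h : ∀ u : G, Commute u (S.el k) → Commute u S.s) :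
    Nat.card (centralizer ({S.el k} : Set G)) = Code.centCard τ true k := by
  classical
  refine le_antisymm ?_ (S.card_cent_el_le k hk)
  rw [Code.centCard, ← List.toFinset_card_of_nodup (List.nodup_range.filter _), ← Nat.card_eq_finsetCard]
  refine Nat.card_le_card_of_surjective (fun l => ⟨S.el l.1, mem_centralizer_singleton_iff.2 ?_⟩) ?_
  · have := List.mem_toFinset.1 l.2
    simp only [List.mem_filter, List.mem_range] at this
    exact ((S.commute_el_iff this.1 hk).2 this.2).eq
  · rintro ⟨u, hu⟩
    have hu' : Commute u (S.el k) := mem_centralizer_singleton_iff.1 hu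
    obtain ⟨l, hl, rfl⟩ := S.exists_el (h u hu')
    exact ⟨⟨l, List.mem_toFinset.2 (List.mem_filter.2 ⟨List.mem_range.2 hl, (S.commute_el_iff hl hk).1 hu'⟩)⟩, rfl⟩

/-- An element of the Sylow subgroup outside `Q` conjugate to `y` is conjugate to it in the centraliser. -/
theorem commute_of_conj_y {g : G} {k : ℕ} (hk : k < 192) (hk' : Code.inSyl k = true) (h32 : 32 ≤ k)
    (hg : g⁻¹ * S.el 96 * g = S.el k) : Commute g S.s := by
  have hsq : S.el (Code.mulC τ true k k) = g⁻¹ * S.s * g := by
    rw [S.el_mul hk hk, ← hg, ← S.el_one, ← (Code.y_facts τ).1, S.el_mul (k := 96) (l := 96) (by norm_num) (by norm_num)]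
    group
  have hkk := Code.mulC_lt τ true k hk k hk
  have hc := List.all_eq_true.1 (Code.square_cases τ) k (List.mem_range.2 hk)
  simp only [hk', Bool.not_true, Bool.false_or, Bool.or_eq_true, Nat.blt_eq, Nat.beq_eq, Bool.not_eq_true',
    Bool.and_eq_true] at hc
  have hcard : Nat.card (centralizer ({S.el k} : Set G)) = Code.centCard τ true 96 := by
    rw [← S.card_cent_el_eq (k := 96) (by norm_num) (fun u hu => S.commute_s_of_commute_y hu), ← hg]
    refine Nat.card_congr ?_
    refine { toFun := fun v => ⟨g * v * g⁻¹, ?_⟩, invFun := fun v => ⟨g⁻¹ * v * g, ?_⟩, left_inv := ?_,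
             right_inv := ?_ }
    · have := mem_centralizer_singleton_iff.1 v.2
      refine mem_centralizer_singleton_iff.2 ?_
      calc g * (v : G) * g⁻¹ * S.el 96 = g * ((v : G) * (g⁻¹ * S.el 96 * g)) * g⁻¹ := by group
        _ = g * (g⁻¹ * S.el 96 * g * (v : G)) * g⁻¹ := by rw [this]
        _ = _ := by group
    · have := mem_centralizer_singleton_iff.1 v.2
      refine mem_centralizer_singleton_iff.2 ?_
      calc g⁻¹ * (v : G) * g * (g⁻¹ * S.el 96 * g) = g⁻¹ * ((v : G) * S.el 96) * g := by group
        _ = g⁻¹ * (S.el 96 * (v : G)) * g := by rw [this]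
        _ = _ := by group
    · intro v; exact Subtype.ext (by group)
    · intro v; exact Subtype.ext (by group)
  rcases hc with (((h | h) | h) | h) | ⟨hab, h⟩
  · omega
  · rw [h, S.el_one] at hsq
    show g * S.s = S.s * g
    calc g * S.s = g * (g⁻¹ * S.s * g) := by rw [← hsq]
      _ = S.s * g := by group
  · exfalso
    have h4 : S.el (Code.mulC τ true (Code.mulC τ true k k) (Code.mulC τ true k k)) = 1 := by
      rw [S.el_mul hkk hkk, hsq]
      calc g⁻¹ * S.s * g * (g⁻¹ * S.s * g) = g⁻¹ * (S.s * S.s) * g := by group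
        _ = 1 := by rw [S.ss]; group
    rw [← S.el_zero, S.el_inj (Code.mulC_lt τ true _ hkk _ hkk) (by norm_num)] at h4
    rw [h4] at h
    exact absurd h (by decide)
  · exfalso
    have := S.card_cent_el_le k hk
    omega
  · exfalso
    -- the centraliser is abelian and contains the involution
    have hcomm : ∀ u v : G, Commute u (S.el 96) → Commute v (S.el 96) → Commute u v := by
      intro u v hu hv
      obtain ⟨a, ha, rfl⟩ := S.exists_el (S.commute_s_of_commute_y hu)
      obtain ⟨b, hb, rfl⟩ := S.exists_el (S.commute_s_of_commute_y hv)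
      have h1 := List.all_eq_true.1 hab a (List.mem_range.2 ha)
      rw [(S.commute_el_iff ha (by norm_num)).1 hu, Bool.not_true, Bool.false_or] at h1
      have h2 := List.all_eq_true.1 h1 b (List.mem_range.2 hb)
      rw [(S.commute_el_iff hb (by norm_num)).1 hv, Bool.not_true, Bool.false_or] at h2
      exact (S.commute_el_iff ha hb).2 h2
    have hs : ∀ u : G, Commute u (S.el k) → Commute u S.s := fun u hu => by
      have h1 : Commute (g * u * g⁻¹) (S.el 96) := by
        show g * u * g⁻¹ * S.el 96 = S.el 96 * (g * u * g⁻¹)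
        calc g * u * g⁻¹ * S.el 96 = g * (u * (g⁻¹ * S.el 96 * g)) * g⁻¹ := by group
          _ = g * (g⁻¹ * S.el 96 * g * u) * g⁻¹ := by rw [hg, hu.eq]
          _ = _ := by group
      have h2 : Commute (g * S.s * g⁻¹) (S.el 96) := by
        have := (S.commute_el hk).symm
        show g * S.s * g⁻¹ * S.el 96 = S.el 96 * (g * S.s * g⁻¹)
        calc g * S.s * g⁻¹ * S.el 96 = g * (S.s * (g⁻¹ * S.el 96 * g)) * g⁻¹ := by group
          _ = g * (g⁻¹ * S.el 96 * g * S.s) * g⁻¹ := by rw [hg, this.eq]
          _ = _ := by group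
      have h3 := (hcomm _ _ h1 h2).map (MulAut.conj g⁻¹).toMonoidHom
      simpa [mul_assoc] using h3
    rw [S.card_cent_el_eq hk hs] at hcard
    rw [hcard] at h
    simp at h

/-- The kernel of the homomorphism of the Sylow subgroup. -/
def inQ (u : G) : Prop := ∃ q < 32, S.el q = u

theorem inQ_el {k : ℕ} (hk : k < 192) : S.inQ (S.el k) ↔ k < 32 :=
  ⟨fun ⟨q, hq, e⟩ => (S.el_inj (by omega) hk).1 e ▸ hq, fun h => ⟨k, h, rfl⟩⟩

/-- The homomorphism of the Sylow subgroup with kernel `Q`. -/
noncomputable def sylHom : S.syl →* Multiplicative (ZMod 2) :=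
  haveI : DecidablePred S.inQ := Classical.decPred _
  MonoidHom.mk' (fun u => Multiplicative.ofAdd (if S.inQ (u : G) then (0 : ZMod 2) else 1)) fun u v => by
    obtain ⟨k, hk, hk', ek⟩ := u.2
    obtain ⟨l, hl, hl', el'⟩ := v.2
    have e : S.el (Code.mulC τ true k l) = ((u * v : S.syl) : G) := by rw [S.el_mul hk hl, ek, el']; rfl
    have h := List.all_eq_true.1 (List.all_eq_true.1 (Code.syl_odd τ true) k (List.mem_range.2 hk)) l
      (List.mem_range.2 hl)
    simp only [hk', hl', Bool.and_self, Bool.not_true, Bool.false_or, beq_iff_eq] at h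
    simp only [← ofAdd_add, ← e, ← ek, ← el', S.inQ_el hk, S.inQ_el hl,
      S.inQ_el (Code.mulC_lt τ true k hk l hl), ← Nat.blt_eq, h]
    cases Nat.blt k 32 <;> cases Nat.blt l 32 <;> decide

theorem sylHom_el {k : ℕ} (hk : k < 192) (h : S.el k ∈ S.syl) :
    S.sylHom ⟨S.el k, h⟩ ≠ 1 ↔ 32 ≤ k := by
  classical
  simp only [sylHom, MonoidHom.mk'_apply, S.inQ_el hk]
  by_cases h32 : k < 32
  · simp [h32]
  · rw [if_neg h32]
    refine iff_of_true ?_ (by omega)
    decide

include S in
/-- No simple nonabelian group has such a centraliser. -/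
theorem not_isSimpleGroup_of_kappa (hs : IsSimpleGroup G) : False := by
  classical
  haveI := hs
  haveI := Fintype.ofFinite (G ⧸ S.syl)
  have h96 : S.el 96 ∈ S.syl := (S.el_mem_syl_iff (by norm_num)).2 (Code.y_facts τ).2
  have hV : MonoidHom.transfer S.sylHom (S.el 96) ≠ 1 := by
    rw [CfsgLib.LocalEven.Yoshida.transfer_eq_fixed S.sylHom (S.el 96) 1 ?_, one_pow, one_mul,
      Finset.prod_eq_single ((1 : G) : G ⧸ S.syl)]
    · obtain ⟨a, ha⟩ := QuotientGroup.mk_out_eq_mul S.syl (1 : G)
      rw [one_mul] at ha
      have hmem : ((1 : G) : G ⧸ S.syl).out⁻¹ * S.el 96 * ((1 : G) : G ⧸ S.syl).out ∈ S.syl := by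
        rw [ha]; exact S.syl.mul_mem (S.syl.mul_mem (S.syl.inv_mem a.2) h96) a.2
      rw [dif_pos hmem, div_one]
      have e : (⟨_, hmem⟩ : S.syl) = a⁻¹ * ⟨S.el 96, h96⟩ * a := Subtype.ext (by
        show ((1 : G) : G ⧸ S.syl).out⁻¹ * S.el 96 * ((1 : G) : G ⧸ S.syl).out = (a : G)⁻¹ * S.el 96 * (a : G)
        rw [ha])
      rw [e, map_mul, map_mul, map_inv, mul_comm (S.sylHom a)⁻¹, inv_mul_cancel_right]
      exact (S.sylHom_el (by norm_num) h96).2 (by norm_num)
    · intro c _ hc
      by_cases hmem : c.out⁻¹ * S.el 96 * c.out ∈ S.syl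
      · rw [dif_pos hmem, div_one]
        by_contra hne
        obtain ⟨k, hk, hk', e⟩ := id hmem
        have hne' : S.sylHom ⟨S.el k, (S.el_mem_syl_iff hk).2 hk'⟩ ≠ 1 := by
          convert hne using 4
        have h32 := (S.sylHom_el hk _).1 hne'
        obtain ⟨l, hl, el'⟩ := S.exists_el (S.commute_of_conj_y hk hk' h32 e.symm)
        have hli := (Code.invC_check τ true l hl).1
        have hlk : Code.inSyl (Code.invC τ true l) = true := by
          have := List.all_eq_true.1 (Code.class_y_syl τ) _ (List.mem_range.2 hli)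
          have hconj : Code.conjC τ true (Code.invC τ true l) 96 = k := by
            refine (S.el_inj (Code.conjC_lt τ true hli (by norm_num)) hk).1 ?_
            rw [S.el_conjC hli (by norm_num), S.el_invC hl, el', inv_inv, e]
          rw [hconj, hk', Bool.not_true, Bool.false_or] at this
          exact this
        have hsyl : c.out ∈ S.syl := by
          have := S.syl.inv_mem ((S.el_mem_syl_iff hli).2 hlk)
          rwa [S.el_invC hl, inv_inv, el'] at this
        refine hc ?_
        rw [← QuotientGroup.out_eq' c]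
        exact QuotientGroup.eq.2 (by simpa using hsyl)
      · rw [dif_neg hmem]
    · intro h; exact absurd (Finset.mem_univ _) h
    · intro g l hl hl1 hmem
      rw [one_pow]
      obtain ⟨k, hk, hk', e⟩ := id hmem
      by_contra hne
      have hne' : S.sylHom ⟨S.el k, (S.el_mem_syl_iff hk).2 hk'⟩ ≠ 1 := by
        convert hne using 4
      have h32 := (S.sylHom_el hk _).1 hne'
      have h2 : S.el 96 ^ 2 = S.s := by
        rw [pow_two, ← S.el_mul (by norm_num) (by norm_num), (Code.y_facts τ).1, S.el_one]
      have h4 : S.el 96 ^ 4 = 1 := by rw [show (4 : ℕ) = 2 * 2 by norm_num, pow_mul, h2, pow_two, S.ss]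
      have hl4 : l = 2 ∨ l = 4 := by
        have hd : l ∣ 2 ^ 2 := hl.trans (orderOf_dvd_of_pow_eq_one h4)
        obtain ⟨i, hi, rfl⟩ := (Nat.dvd_prime_pow Nat.prime_two).1 hd
        interval_cases i <;> omega
      have hkk : S.el k * S.el k = 1 := by
        rw [e]
        calc g⁻¹ * S.el 96 ^ l * g * (g⁻¹ * S.el 96 ^ l * g) = g⁻¹ * (S.el 96 ^ (l + l)) * g := by
              rw [pow_add]; group
          _ = 1 := by
            rcases hl4 with rfl | rfl
            · rw [show 2 + 2 = 4 by norm_num, h4]; group
            · rw [pow_add, h4]; group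
      rw [← S.el_mul hk hk, ← S.el_zero, S.el_inj (Code.mulC_lt τ true k hk k hk) (by norm_num)] at hkk
      have := List.all_eq_true.1 (Code.involutions_in_q τ) k (List.mem_range.2 hk)
      simp only [hk', Bool.not_true, Bool.false_or, Bool.or_eq_true, Nat.blt_eq, Bool.not_eq_true'] at this
      rcases this with h' | h'
      · omega
      · rw [hkk] at h'; exact absurd h' (by decide)
  set V := MonoidHom.transfer S.sylHom with hVdef
  rcases Subgroup.Normal.eq_bot_or_eq_top (H := V.ker) inferInstance with h | h
  · have hinj : Function.Injective V := (MonoidHom.ker_eq_bot_iff V).1 h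
    exact S.cent_not_comm ⟨⟨fun a b => hinj (by rw [map_mul, map_mul, mul_comm])⟩⟩
  · exact hV (MonoidHom.mem_ker.1 (h ▸ mem_top _))

end Setting

end CfsgLib.Recognition.ExtraspecialThirtyTwo
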